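import Mathlib.GroupTheory.Nilpotent
import Mathlib.GroupTheory.PGroup
import Mathlib.Data.Fintype.Lattice
import Mathlib.Tactic

/-!
A subgroup with an elementary abelian normal subgroup whose elements have their centralisers inside
it, with two fused classes kept apart, is the whole group.
-/

set_option autoImplicit false
set_option linter.unusedSectionVars false
set_option linter.style.haveILetI false

namespace CfsgLib.Geo.SpEight

variable {M : Type*} [Group M]

/-- The hypotheses on the subgroup `H` and its elementary abelian normal subgroup `V`. -/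
structure Control (H V : Subgroup M) : Prop where
  le : V ≤ H
  normal : ∀ h ∈ H, ∀ v ∈ V, h * v * h⁻¹ ∈ V
  invol : ∀ v ∈ V, v * v = 1
  self : ∀ h ∈ H, (∀ v ∈ V, h * v = v * h) → h ∈ V
  cent : ∀ v ∈ V, v ≠ 1 → ∀ g : M, g * v = v * g → g ∈ H
  fused : ∀ v ∈ V, v ≠ 1 → ∀ g : M, g * v * g⁻¹ ∈ V → ∃ h ∈ H, h * v * h⁻¹ = g * v * g⁻¹
  fixer : ∀ W E : Subgroup M, W ≤ V → E ≤ H → W ≠ ⊥ → Nat.card E = Nat.card W →
    (∀ e ∈ E, e ∈ V → e = 1) → (∀ e ∈ E, e * e = 1) → (∀ e ∈ E, ∀ f ∈ E, e * f = f * e) →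
    (∀ e ∈ E, e ≠ 1 → ∀ v ∈ V, (e * v = v * e ↔ v ∈ W)) → False

namespace Control

variable {H V : Subgroup M} (hc : Control H V)
include hc

theorem comm {v w : M} (hv : v ∈ V) (hw : w ∈ V) : v * w = w * v := by
  have h1 := hc.invol _ (V.mul_mem hv hw)
  have hv' : v⁻¹ = v := inv_eq_of_mul_eq_one_right (hc.invol _ hv)
  have hw' : w⁻¹ = w := inv_eq_of_mul_eq_one_right (hc.invol _ hw)
  rw [← inv_eq_of_mul_eq_one_right h1, mul_inv_rev, hw', hv']

/-- An element carrying a nontrivial element of `V` into `V` lies in `H`. -/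
theorem mem_of_conj_mem {v : M} (hv : v ∈ V) (hv1 : v ≠ 1) {g : M} (hg : g * v * g⁻¹ ∈ V) : g ∈ H := by
  obtain ⟨h, hh, e⟩ := hc.fused v hv hv1 g hg
  have hgv : h⁻¹ * g * v = v * (h⁻¹ * g) := by
    have : g * v = h * v * h⁻¹ * g := by rw [e]; group
    calc h⁻¹ * g * v = h⁻¹ * (g * v) := mul_assoc _ _ _
      _ = v * (h⁻¹ * g) := by rw [this]; group
  have := H.mul_mem hh (hc.cent v hv hv1 _ hgv)
  rwa [mul_inv_cancel_left] at this

/-- A conjugate of `V` inside `H` comes from an element of `H`. -/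
theorem mem_of_conj_le [Finite M] {g : M} (hg : ∀ v ∈ V, g * v * g⁻¹ ∈ H) (hV : V ≠ ⊥) : g ∈ H := by
  classical
  haveI : Fact (Nat.Prime 2) := ⟨Nat.prime_two⟩
  set V' := V.map (MulAut.conj g).toMonoidHom with hV'
  have hV'H : ∀ w ∈ V', w ∈ H := by
    rintro _ ⟨v, hv, rfl⟩
    exact hg v hv
  let act : MulAction V' V :=
    { smul := fun w v => ⟨(w : M) * v * (w : M)⁻¹, hc.normal _ (hV'H _ w.2) _ v.2⟩
      one_smul := fun v => Subtype.ext (show ((1 : V') : M) * v * ((1 : V') : M)⁻¹ = v by simp)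
      mul_smul := fun a b v => Subtype.ext (show ((a * b : V') : M) * v * ((a * b : V') : M)⁻¹ =
        (a : M) * ((b : M) * v * (b : M)⁻¹) * (a : M)⁻¹ by
          rw [Subgroup.coe_mul]; group) }
  have hP : IsPGroup 2 V' := fun ⟨w, hw⟩ => by
    obtain ⟨v, hv, rfl⟩ := hw
    refine ⟨1, Subtype.ext ?_⟩
    show ((MulAut.conj g).toMonoidHom v) ^ (2 ^ 1) = 1
    rw [← map_pow, pow_one, pow_two, hc.invol v hv, map_one]
  obtain ⟨v₁, hv₁, hv₁1⟩ : ∃ v ∈ V, v ≠ 1 := by
    obtain ⟨a, ha⟩ := Subgroup.ne_bot_iff_exists_ne_one.1 hV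
    exact ⟨a, a.2, fun e => ha (Subtype.ext e)⟩
  have h2 : 2 ∣ Nat.card V := by
    have : orderOf (⟨v₁, hv₁⟩ : V) = 2 := orderOf_eq_prime (Subtype.ext (by
      simpa [pow_two] using hc.invol v₁ hv₁)) fun e => hv₁1 (congrArg Subtype.val e)
    rw [← this]
    exact orderOf_dvd_natCard _
  have h1fix : (1 : V) ∈ MulAction.fixedPoints V' V := fun w => Subtype.ext
    (show (w : M) * ((1 : V) : M) * (w : M)⁻¹ = 1 by simp)
  obtain ⟨z, hzfix, hz1⟩ := hP.exists_fixed_point_of_prime_dvd_card_of_fixed_point V h2 h1fix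
  have hzc : ∀ v ∈ V, g⁻¹ * (z : M) * g * v = v * (g⁻¹ * (z : M) * g) := fun v hv => by
    have h : g * v * g⁻¹ * (z : M) * (g * v * g⁻¹)⁻¹ = (z : M) :=
      congrArg Subtype.val (hzfix ⟨g * v * g⁻¹, v, hv, rfl⟩)
    have h' : g * v * g⁻¹ * (z : M) = (z : M) * (g * v * g⁻¹) := by
      conv_rhs => rw [← h]
      group
    calc g⁻¹ * (z : M) * g * v = g⁻¹ * ((z : M) * (g * v * g⁻¹)) * g := by group
      _ = g⁻¹ * (g * v * g⁻¹ * (z : M)) * g := by rw [h']
      _ = v * (g⁻¹ * (z : M) * g) := by group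
  have hzV : g⁻¹ * (z : M) * g ∈ V := hc.self _ (hc.cent v₁ hv₁ hv₁1 _ (hzc v₁ hv₁)) hzc
  refine hc.mem_of_conj_mem hzV (fun e => hz1 (Subtype.ext ?_)) ?_
  · calc (1 : M) = g * (g⁻¹ * (z : M) * g) * g⁻¹ := by rw [e]; group
      _ = (z : M) := by group
  · rw [show g * (g⁻¹ * (z : M) * g) * g⁻¹ = (z : M) by group]
    exact z.2

/-- No element of `H` outside `V` is conjugate to a nontrivial element of `V`. -/
theorem conj_mem [Finite M] {v : M} (hv : v ∈ V) (hv1 : v ≠ 1) {g : M} (hg : g * v * g⁻¹ ∈ H) :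
    g * v * g⁻¹ ∈ V := by
  classical
  haveI : Fact (Nat.Prime 2) := ⟨Nat.prime_two⟩
  by_contra hbad
  -- the centraliser in `V` of such an element, as large as possible
  let cV : M → Subgroup M := fun w => V ⊓ Subgroup.centralizer {w}
  let S : Set M := {w | w ∈ H ∧ w ∉ V ∧ ∃ v ∈ V, v ≠ 1 ∧ ∃ g : M, w = g * v * g⁻¹}
  obtain ⟨w, ⟨hwH, hwV, v, hv, hv1, g, rfl⟩, hmax⟩ :=
    Set.exists_max_image S (fun w => Nat.card (cV w)) (Set.toFinite _) ⟨_, hg, hbad, v, hv, hv1, g, rfl⟩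
  set w := g * v * g⁻¹ with hw
  have hgH : g ∉ H := fun h => hwV (hc.normal g h v hv)
  have hww : w * w = 1 := by
    rw [hw, show g * v * g⁻¹ * (g * v * g⁻¹) = g * (v * v) * g⁻¹ by group, hc.invol v hv]
    group
  set W := cV w with hWdef
  have hmemW : ∀ a, a ∈ W ↔ a ∈ V ∧ w * a = a * w := fun a => by
    simp [hWdef, cV, Subgroup.mem_inf, Subgroup.mem_centralizer_singleton_iff, eq_comm]
  have hVb : V ≠ ⊥ := fun e => hv1 (by simpa [e] using hv)
  -- the largest 2-subgroups of the centraliser inside `H` containing `W`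
  have hW0 : W ≠ ⊥ := by
    obtain ⟨a, ha, ha1⟩ : ∃ a ∈ V, a ≠ 1 := ⟨v, hv, hv1⟩
    rw [Subgroup.ne_bot_iff_exists_ne_one]
    by_cases h : w * a = a * w
    · exact ⟨⟨a, (hmemW a).2 ⟨ha, h⟩⟩, fun e => ha1 (congrArg Subtype.val e)⟩
    · have hb : a * (w * a * w⁻¹) ∈ V := V.mul_mem ha (hc.normal w hwH a ha)
      have hwi : w⁻¹ = w := inv_eq_of_mul_eq_one_right hww
      refine ⟨⟨a * (w * a * w⁻¹), (hmemW _).2 ⟨hb, ?_⟩⟩, fun e => h ?_⟩
      · have hc' : a * (w * a * w⁻¹) = w * a * w⁻¹ * a := hc.comm ha (hc.normal w hwH a ha)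
        calc w * (a * (w * a * w⁻¹)) = w * (w * a * w⁻¹ * a) := by rw [hc']
          _ = (w * w) * a * w⁻¹ * a := by group
          _ = a * w * a := by rw [hww, hwi, one_mul]
          _ = a * (w * a * w⁻¹) * w := by group
      · have h1 : a * (w * a * w⁻¹) = 1 := congrArg Subtype.val e
        have h2 : w * a * w⁻¹ = a := by
          have ha' : a⁻¹ = a := inv_eq_of_mul_eq_one_right (hc.invol a ha)
          calc w * a * w⁻¹ = a⁻¹ * (a * (w * a * w⁻¹)) := by group
            _ = a := by rw [h1, mul_one, ha']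
        conv_rhs => rw [← h2]
        group
  let C : Subgroup M := H ⊓ Subgroup.centralizer {w}
  have hWC : W ≤ C := fun a ha => ⟨hc.le ((hmemW a).1 ha).1,
    Subgroup.mem_centralizer_singleton_iff.2 ((hmemW a).1 ha).2.symm⟩
  let T : Set (Subgroup M) := {P | IsPGroup 2 P ∧ W ≤ P ∧ P ≤ C}
  have hWp : IsPGroup 2 W := fun ⟨a, ha⟩ => ⟨1, Subtype.ext (by
    simpa [pow_two] using hc.invol a ((hmemW a).1 ha).1)⟩
  obtain ⟨P, ⟨hP, hWP, hPC⟩, hPmax⟩ :=
    Set.exists_max_image T (fun P : Subgroup M => Nat.card P) (Set.toFinite _) ⟨W, hWp, le_rfl, hWC⟩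
  by_cases hn : ∃ n : M, n ∉ H ∧ n * w = w * n ∧ ∀ a, a ∈ P ↔ n * a * n⁻¹ ∈ P
  · obtain ⟨n, hnH, hnw, hnP⟩ := hn
    set E := W.map (MulAut.conj n).toMonoidHom with hE
    have hmemE : ∀ e ∈ E, ∃ a ∈ W, e = n * a * n⁻¹ := by
      rintro e ⟨a, ha, rfl⟩
      exact ⟨a, ha, rfl⟩
    have hEP : E ≤ P := fun e he => by
      obtain ⟨a, ha, rfl⟩ := hmemE e he
      exact (hnP a).1 (hWP ha)
    have hPn : ∀ p ∈ P, ∀ a ∈ W, p * a * p⁻¹ ∈ W := fun p hp a ha => by
      refine (hmemW _).2 ⟨hc.normal p (hPC hp).1 a ((hmemW a).1 ha).1, ?_⟩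
      have h1 := Subgroup.mem_centralizer_singleton_iff.1 (hPC hp).2
      have h2 := ((hmemW a).1 ha).2
      have h3 : p⁻¹ * w = w * p⁻¹ := by
        calc p⁻¹ * w = p⁻¹ * (w * p) * p⁻¹ := by group
          _ = p⁻¹ * (p * w) * p⁻¹ := by rw [h1]
          _ = w * p⁻¹ := by group
      calc w * (p * a * p⁻¹) = (w * p) * a * p⁻¹ := by group
        _ = p * (w * a) * p⁻¹ := by rw [← h1]; group
        _ = p * a * (w * p⁻¹) := by rw [h2]; group
        _ = p * a * p⁻¹ * w := by rw [← h3]; group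
    have hEV : ∀ e ∈ E, e ∈ V → e = 1 := fun e he heV => by
      obtain ⟨a, ha, rfl⟩ := hmemE e he
      by_contra h1
      exact hnH (hc.mem_of_conj_mem ((hmemW a).1 ha).1 (fun e => h1 (by rw [e]; group)) heV)
    have hEinv : ∀ e ∈ E, e * e = 1 := fun e he => by
      obtain ⟨a, ha, rfl⟩ := hmemE e he
      calc n * a * n⁻¹ * (n * a * n⁻¹) = n * (a * a) * n⁻¹ := by group
        _ = 1 := by rw [hc.invol a ((hmemW a).1 ha).1]; group
    have hEcomm : ∀ e ∈ E, ∀ f ∈ E, e * f = f * e := fun e he f hf => by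
      obtain ⟨a, ha, rfl⟩ := hmemE e he
      obtain ⟨b, hb, rfl⟩ := hmemE f hf
      calc n * a * n⁻¹ * (n * b * n⁻¹) = n * (a * b) * n⁻¹ := by group
        _ = n * (b * a) * n⁻¹ := by rw [hc.comm ((hmemW a).1 ha).1 ((hmemW b).1 hb).1]
        _ = _ := by group
    refine hc.fixer W E (fun a ha => ((hmemW a).1 ha).1) (fun e he => (hPC (hEP he)).1) hW0
      (Subgroup.card_map_of_injective (MulAut.conj n).injective) hEV hEinv hEcomm fun e he he1 => ?_
    -- `e` centralises `W`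
    have hEW : ∀ a ∈ W, e * a = a * e := fun a ha => by
      have hk : e * a * e⁻¹ * a⁻¹ ∈ W := W.mul_mem (hPn e (hEP he) a ha) (W.inv_mem ha)
      have hk' : e * a * e⁻¹ * a⁻¹ ∈ E := by
        have hae : a * e⁻¹ * a⁻¹ ∈ E := by
          have hq : n⁻¹ * a * n ∈ P := by
            refine (hnP _).2 ?_
            rw [show n * (n⁻¹ * a * n) * n⁻¹ = a by group]
            exact hWP ha
          obtain ⟨b, hb, hbe⟩ := hmemE _ (E.inv_mem he)
          refine ⟨_, hPn _ hq b hb, ?_⟩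
          rw [hbe]
          show n * (n⁻¹ * a * n * b * (n⁻¹ * a * n)⁻¹) * n⁻¹ = _
          group
        rw [show e * a * e⁻¹ * a⁻¹ = e * (a * e⁻¹ * a⁻¹) by group]
        exact E.mul_mem he hae
      have h1 := hEV _ hk' ((hmemW _).1 hk).1
      calc e * a = (e * a * e⁻¹ * a⁻¹) * (a * e) := by group
        _ = a * e := by rw [h1, one_mul]
    have heS : e ∈ S := by
      obtain ⟨a, ha, hea⟩ := hmemE e he
      exact ⟨(hPC (hEP he)).1, fun h => he1 (hEV e he h), a, ((hmemW a).1 ha).1,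
        fun h => he1 (by rw [hea, h]; group), n, hea⟩
    have hle : W ≤ cV e := fun a ha =>
      ⟨((hmemW a).1 ha).1, Subgroup.mem_centralizer_singleton_iff.2 (hEW a ha).symm⟩
    have heq : W = cV e := Subgroup.eq_of_le_of_card_ge hle (hmax e heS)
    intro a ha
    rw [heq]
    simp [cV, Subgroup.mem_inf, Subgroup.mem_centralizer_singleton_iff, ha, eq_comm]
  · -- otherwise `P` holds a conjugate of `V`
    refine hgH (hc.mem_of_conj_le (fun b hb => (hPC ?_).1) hVb)
    set K := Subgroup.centralizer {w} with hK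
    set V' := V.map (MulAut.conj g).toMonoidHom with hV'
    have hwK : ∀ k, k ∈ K → g⁻¹ * k * g ∈ H := fun k hk => by
      have h1 := Subgroup.mem_centralizer_singleton_iff.1 hk
      refine hc.cent v hv hv1 _ ?_
      calc g⁻¹ * k * g * v = g⁻¹ * (k * w) * g := by rw [hw]; group
        _ = g⁻¹ * (w * k) * g := by rw [h1]
        _ = v * (g⁻¹ * k * g) := by rw [hw]; group
    have hV'K : V' ≤ K := by
      rintro _ ⟨a, ha, rfl⟩
      refine Subgroup.mem_centralizer_singleton_iff.2 ?_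
      show g * a * g⁻¹ * w = w * (g * a * g⁻¹)
      calc g * a * g⁻¹ * w = g * (a * v) * g⁻¹ := by rw [hw]; group
        _ = g * (v * a) * g⁻¹ := by rw [hc.comm ha hv]
        _ = w * (g * a * g⁻¹) := by rw [hw]; group
    have hPK : P ≤ K := fun p hp => (hPC hp).2
    have hnorm : P ≤ Subgroup.normalizer (V' : Set M) := by
      intro p hp
      have key : ∀ k ∈ K, ∀ a ∈ V', k * a * k⁻¹ ∈ V' := by
        rintro k hk _ ⟨a, ha, rfl⟩
        refine ⟨_, hc.normal _ (hwK k hk) a ha, ?_⟩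
        show g * (g⁻¹ * k * g * a * (g⁻¹ * k * g)⁻¹) * g⁻¹ = k * (g * a * g⁻¹) * k⁻¹
        group
      refine Subgroup.mem_normalizer_iff.2 fun a => ⟨fun ha => key p (hPK hp) a ha, fun ha => ?_⟩
      have := key p⁻¹ (hPK (P.inv_mem hp)) _ ha
      rwa [show p⁻¹ * (p * a * p⁻¹) * p⁻¹⁻¹ = a by group] at this
    have hV'p : IsPGroup 2 V' := fun ⟨a, ha⟩ => by
      obtain ⟨c, hcV, rfl⟩ := ha
      refine ⟨1, Subtype.ext ?_⟩
      show ((MulAut.conj g).toMonoidHom c) ^ (2 ^ 1) = 1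
      rw [← map_pow, pow_one, pow_two, hc.invol c hcV, map_one]
    set Q := P ⊔ V' with hQ
    have hQp : IsPGroup 2 Q := hP.to_sup_of_normal_right' hV'p hnorm
    have hQK : Q ≤ K := sup_le hPK hV'K
    by_contra hbP
    have hlt : P < Q := lt_of_le_of_ne le_sup_left fun e =>
      hbP (e ▸ Subgroup.mem_sup_right ⟨b, hb, rfl⟩)
    haveI := hQp.isNilpotent
    obtain ⟨n, hnN, hnP⟩ := SetLike.exists_of_lt
      (Group.normalizerCondition_of_isNilpotent (G := Q) (P.subgroupOf Q) (lt_top_iff_ne_top.2 fun e =>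
        hlt.not_ge (Subgroup.subgroupOf_eq_top.1 e)))
    have hnP' : (n : M) ∉ P := hnP
    have hnH : (n : M) ∉ H := fun h => by
      have hN : ∀ a, a ∈ P ↔ (n : M) * a * (n : M)⁻¹ ∈ P := fun a => by
        refine ⟨fun ha => ?_, fun ha => ?_⟩
        · exact (Subgroup.mem_normalizer_iff.1 hnN ⟨a, hlt.le ha⟩).1 ha
        · have haQ : a ∈ Q := by
            have := Q.mul_mem (Q.mul_mem (Q.inv_mem n.2) (hlt.le ha)) n.2
            rwa [show (n : M)⁻¹ * ((n : M) * a * (n : M)⁻¹) * (n : M) = a by group] at this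
          exact (Subgroup.mem_normalizer_iff.1 hnN ⟨a, haQ⟩).2 ha
      let P' := P ⊔ Subgroup.zpowers (n : M)
      have hz : Subgroup.zpowers (n : M) ≤ Q := Subgroup.zpowers_le.2 n.2
      have hP'C : P' ≤ C := sup_le hPC (Subgroup.zpowers_le.2 ⟨h, hQK n.2⟩)
      have hP'p : IsPGroup 2 P' := hQp.to_le (sup_le hlt.le hz)
      have h1 := hPmax P' ⟨hP'p, hWP.trans le_sup_left, hP'C⟩
      exact hnP' ((Subgroup.eq_of_le_of_card_ge le_sup_left h1).symm ▸
        Subgroup.mem_sup_right (Subgroup.mem_zpowers _))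
    refine hn ⟨n, hnH, Subgroup.mem_centralizer_singleton_iff.1 (hQK n.2), fun a => ⟨fun ha => ?_, fun ha => ?_⟩⟩
    · exact (Subgroup.mem_normalizer_iff.1 hnN ⟨a, hlt.le ha⟩).1 ha
    · have haQ : a ∈ Q := by
        have := Q.mul_mem (Q.mul_mem (Q.inv_mem n.2) (hlt.le ha)) n.2
        rwa [show (n : M)⁻¹ * ((n : M) * a * (n : M)⁻¹) * (n : M) = a by group] at this
      exact (Subgroup.mem_normalizer_iff.1 hnN ⟨a, haQ⟩).2 ha

/-- Two classes in `V` kept apart force the subgroup to be everything. -/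
theorem eq_top [Finite M] {x u : M} (hx : x ∈ V) (hx1 : x ≠ 1) (hu : u ∈ V) (hu1 : u ≠ 1)
    (hxu : ∀ g : M, g * x * g⁻¹ ≠ u) : H = ⊤ := by
  classical
  refine eq_top_iff.2 fun g _ => ?_
  by_contra hgH
  obtain ⟨x', hx'⟩ : ∃ y, y = g * x * g⁻¹ := ⟨_, rfl⟩
  have hx'H : x' ∉ H := fun h => hgH (hc.mem_of_conj_mem hx hx1 (hc.conj_mem hx hx1 (hx' ▸ h)))
  have hxx : x' * x' = 1 := by
    rw [hx', show g * x * g⁻¹ * (g * x * g⁻¹) = g * (x * x) * g⁻¹ by group, hc.invol x hx]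
    group
  have huu := hc.invol u hu
  have hxi : x'⁻¹ = x' := inv_eq_of_mul_eq_one_right hxx
  have hui : u⁻¹ = u := inv_eq_of_mul_eq_one_right huu
  obtain ⟨r, hr⟩ : ∃ y, y = x' * u := ⟨_, rfl⟩
  have hflip : ∀ k : ℕ, u * r ^ k * u = (r ^ k)⁻¹ ∧ x' * r ^ k * x' = (r ^ k)⁻¹ := by
    intro k
    induction k with
    | zero => simp [huu, hxx]
    | succ k ih =>
      have e1 : u * r * u = r⁻¹ := by
        rw [hr, mul_inv_rev, hxi, hui, mul_assoc u, mul_assoc x', huu, mul_one]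
      have e2 : x' * r * x' = r⁻¹ := by
        rw [hr, mul_inv_rev, hxi, hui, ← mul_assoc, hxx, one_mul]
      constructor
      · calc u * r ^ (k + 1) * u = (u * r ^ k * u) * (u * r * u) := by
              rw [pow_succ]
              have : ∀ a b : M, u * (a * b) * u = u * a * (u * u) * b * u := fun a b => by rw [huu]; group
              rw [this]; group
          _ = (r ^ (k + 1))⁻¹ := by rw [ih.1, e1, ← mul_inv_rev, ← pow_succ']
      · calc x' * r ^ (k + 1) * x' = (x' * r ^ k * x') * (x' * r * x') := by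
              rw [pow_succ]
              have : ∀ a b : M, x' * (a * b) * x' = x' * a * (x' * x') * b * x' := fun a b => by rw [hxx]; group
              rw [this]; group
          _ = (r ^ (k + 1))⁻¹ := by rw [ih.2, e2, ← mul_inv_rev, ← pow_succ']
  have hn : r ^ orderOf r = 1 := pow_orderOf_eq_one r
  rcases Nat.even_or_odd (orderOf r) with ⟨l, hl⟩ | ⟨l, hl⟩
  swap
  · -- odd order: `x'` and `u` would be conjugate
    refine hxu (r ^ l * g) ?_
    have hz : r ^ l * r ^ l = r⁻¹ := by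
      refine eq_inv_of_mul_eq_one_left ?_
      rw [← pow_add, ← pow_succ, show l + l + 1 = orderOf r by omega, hn]
    have hzx : x' * (r ^ l)⁻¹ = r ^ l * x' := by
      rw [← (hflip l).2, ← mul_assoc, ← mul_assoc, hxx, one_mul]
    calc r ^ l * g * x * (r ^ l * g)⁻¹ = r ^ l * (x' * (r ^ l)⁻¹) := by rw [hx']; group
      _ = (r ^ l * r ^ l) * x' := by rw [hzx, mul_assoc]
      _ = u := by rw [hz, hr, mul_inv_rev, hxi, hui, mul_assoc, hxx, mul_one]
  have hlpos : 0 < l := by have := orderOf_pos r; omega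
  set w := r ^ l with hw
  have hw1 : w ≠ 1 := pow_ne_one_of_lt_orderOf (by omega) (by omega)
  have hwi : w⁻¹ = w := inv_eq_of_mul_eq_one_right (by rw [hw, ← pow_add, ← hl, hn])
  have hwu : w * u = u * w := by
    calc w * u = (u * u) * w * u := by rw [huu, one_mul]
      _ = u * (u * w * u) := by group
      _ = u * w := by rw [(hflip l).1, ← hw, hwi]
  have hwx : w * x' = x' * w := by
    calc w * x' = (x' * x') * w * x' := by rw [hxx, one_mul]
      _ = x' * (x' * w * x') := by group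
      _ = x' * w := by rw [(hflip l).2, ← hw, hwi]
  have hwH : w ∈ H := hc.cent u hu hu1 w hwu
  have huwH : u * w ∈ H := H.mul_mem (hc.le hu) hwH
  have huwV : u * w ∈ V := by
    rcases Nat.even_or_odd l with ⟨j, hj⟩ | ⟨j, hj⟩
    · set k := r ^ j with hk
      have hku : k * u = u * k⁻¹ := by
        rw [hk, ← (hflip j).1, ← mul_assoc, ← mul_assoc, huu, one_mul]
      have e : k⁻¹ * u * k⁻¹⁻¹ = u * w := by
        have h1 : k⁻¹ * u = u * k := by
          rw [hk, ← (hflip j).1, mul_assoc, huu, mul_one]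
        rw [inv_inv, h1, mul_assoc, hw, hj, pow_add]
      rw [← e]
      exact hc.conj_mem hu hu1 (by rw [e]; exact huwH)
    · set k := r ^ (j + 1) with hk
      -- `r ^ (l + 1) = r ^ (2 (j + 1))`
      have hkx : k⁻¹ * x' = x' * k := by
        rw [hk, ← (hflip (j + 1)).2, mul_assoc, hxx, mul_one]
      have hxr : x' * r = u := by rw [hr, ← mul_assoc, hxx, one_mul]
      have e : k⁻¹ * g * x * (k⁻¹ * g)⁻¹ = u * w := by
        calc k⁻¹ * g * x * (k⁻¹ * g)⁻¹ = (k⁻¹ * x') * k := by rw [hx']; group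
          _ = x' * r ^ (j + 1 + (j + 1)) := by rw [hkx, mul_assoc, hk, ← pow_add]
          _ = (x' * r) * r ^ l := by
            rw [show j + 1 + (j + 1) = l + 1 by omega, pow_succ', mul_assoc]
          _ = u * w := by rw [hxr]
      rw [← e]
      exact hc.conj_mem hx hx1 (by rw [e]; exact huwH)
  have hwV : w ∈ V := by
    have := V.mul_mem (V.inv_mem hu) huwV
    rwa [inv_mul_cancel_left] at this
  exact hx'H (hc.cent w hwV hw1 x' hwx.symm)

end Control

end CfsgLib.Geo.SpEight
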