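import Cfsg.Agent.Geo.SpEight.Group
import Cfsg.Agent.Forms.OfBilin
import Cfsg.Prelude.Def_GeometricClasses

/-!
A symplectic-type group of order 128 and minus type is a doubled group after a symplectic change of basis.
-/

set_option autoImplicit false
set_option linter.unusedSectionVars false
set_option linter.unusedSimpArgs false
set_option linter.style.haveILetI false

namespace CfsgLib.Geo.SpEight

open Matrix Cfsg.Geo CfsgLib.Elusive.PauliMinus

variable {F : Type*} [Field F]

/-- The facts about the big group used for the frame. -/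
structure Big (R : Subgroup (GL I8 F)) : Prop where
  two : (2 : F) ≠ 0
  le : R ≤ Cfsg.spGL 4 F
  commutant : ∀ M : M8 F, (∀ g ∈ R, M * (g : M8 F) = g * M) → ∃ c : F, M = c • 1
  neg : -(1 : GL I8 F) ∈ R
  comm : ∀ x ∈ R, ∀ y ∈ R, x * y = y * x ∨ x * y = -(y * x)
  sq : ∀ x ∈ R, x * x = 1 ∨ x * x = -1
  card : Nat.card R = 128
  minus : IsOfMinusType 3 R

theorem scalar_sq8 {x : GL I8 F} (hx : x ∈ Cfsg.spGL 4 F) {c : F} (hc : (x : M8 F) = c • 1) : c = 1 ∨ c = -1 := by
  have h := mem_spGL_iff.1 hx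
  rw [hc, Matrix.transpose_smul, Matrix.transpose_one, smul_mul_assoc, one_mul, smul_mul_assoc, mul_smul_comm,
    mul_one, smul_smul] at h
  have h1 := congrFun (congrFun h (Sum.inr 0)) (Sum.inl 0)
  simp [Matrix.J] at h1
  exact mul_self_eq_one_iff.1 h1

theorem big_of_data [Fintype F] (h2 : (2 : F) ≠ 0) {R : Subgroup (GL I8 F)} (hRs : IsSymplecticTypeGroup 2 R)
    (hRi : ActsAbsolutelyIrreducibly (matrixSet R)) (hle : R ≤ Cfsg.spGL 4 F) (hcard : Nat.card R = 128)
    (hRZ : Nat.card (Subgroup.center R) = 2) (hRm : IsOfMinusType 3 R) : Big R := by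
  classical
  have h4 : ∀ x : R, x ^ 4 = 1 := fun x => by
    have h := Monoid.pow_exponent_eq_one x
    rwa [hRs.exponent_eq] at h
  have hcomm := CfsgLib.Symp.comm_central_aux (Nat.card R) R rfl hRs.pGroup h4 hRs.cyclic_of_characteristic
  have hM : ∀ M : M8 F, (∀ g ∈ R, M * (g : M8 F) = g * M) → ∃ c : F, M = c • 1 := fun M h =>
    hRi.2 M (by rintro _ ⟨g, hg, rfl⟩; exact h g hg)
  have hcent : ∀ z : R, z ∈ Subgroup.center R → (z : GL I8 F) = 1 ∨ (z : GL I8 F) = -1 := fun z hz => by
    obtain ⟨c, hc⟩ := hM (z : GL I8 F) (fun g hg => by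
      have := Subgroup.mem_center_iff.1 hz ⟨g, hg⟩
      exact (congrArg (fun u : R => ((u : GL I8 F) : M8 F)) this).symm)
    rcases scalar_sq8 (hle z.2) hc with rfl | rfl
    · exact Or.inl (Units.ext (by rw [hc, one_smul, Units.val_one]))
    · exact Or.inr (Units.ext (by rw [hc, neg_one_smul, Units.val_neg, Units.val_one]))
  have hc2 : ∀ x ∈ R, ∀ y ∈ R, x * y = y * x ∨ x * y = -(y * x) := by
    intro x hx y hy
    obtain ⟨hz, -⟩ := hcomm ⟨x, hx⟩ ⟨y, hy⟩
    have hxy : x * y = (x * y * x⁻¹ * y⁻¹) * (y * x) := by group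
    rcases hcent _ hz with e | e <;> simp only [Subgroup.coe_mul, Subgroup.coe_inv] at e <;> rw [e] at hxy
    · exact Or.inl (by rw [hxy, one_mul])
    · exact Or.inr (by rw [hxy, neg_one_mul])
  refine ⟨h2, hle, hM, ?_, hc2, fun x hx => ?_, hcard, hRm⟩
  · by_contra hno
    have hle' : Nat.card (Subgroup.center R) ≤ 1 := by
      rw [Finite.card_le_one_iff_subsingleton]
      refine ⟨fun a b => ?_⟩
      have h1 : ∀ z : Subgroup.center R, ((z : R) : GL I8 F) = 1 := fun z =>
        (hcent z.1 z.2).resolve_right fun e => hno (e ▸ z.1.2)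
      exact Subtype.ext (Subtype.ext ((h1 a).trans (h1 b).symm))
    omega
  · refine hcent ⟨x * x, R.mul_mem hx hx⟩ (Subgroup.mem_center_iff.2 fun g => Subtype.ext ?_)
    show (g : GL I8 F) * (x * x) = x * x * g
    rcases hc2 g g.2 x hx with e | e
    · rw [← mul_assoc, e, mul_assoc, e, ← mul_assoc]
    · rw [← mul_assoc, e, neg_mul, mul_assoc, e, mul_neg, neg_neg, ← mul_assoc]

variable {R : Subgroup (GL I8 F)}

theorem Big.ne_neg (hB : Big R) (x : GL I8 F) : x ≠ -x := fun h => by
  have h0 : (2 : F) • (x : M8 F) = 0 := by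
    rw [two_smul]
    nth_rw 1 [h]
    rw [Units.val_neg, neg_add_cancel]
  exact x.ne_zero ((smul_eq_zero.1 h0).resolve_left hB.two)

theorem Big.exists_anti (hB : Big R) {x : GL I8 F} (hx : x ∈ R) (h1 : x ≠ 1) (h2 : x ≠ -1) :
    ∃ y ∈ R, x * y = -(y * x) := by
  by_contra hno
  push Not at hno
  obtain ⟨c, hc⟩ := hB.commutant (x : M8 F) fun g hg =>
    congrArg Units.val ((hB.comm x hx g hg).resolve_right (hno g hg))
  rcases scalar_sq8 (hB.le hx) hc with rfl | rfl
  · exact h1 (Units.ext (by rw [hc, one_smul, Units.val_one]))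
  · exact h2 (Units.ext (by rw [hc, neg_one_smul, Units.val_neg, Units.val_one]))

theorem Big.ne_of_anti (hB : Big R) {x y : GL I8 F} (h : x * y = -(y * x)) : x ≠ 1 ∧ x ≠ -1 := by
  refine ⟨fun e => hB.ne_neg y ?_, fun e => hB.ne_neg y ?_⟩
  · rw [e, one_mul, mul_one] at h; exact h
  · rw [e] at h; simpa using h.symm

theorem Big.exists_singular_pair (hB : Big R) :
    ∃ x ∈ R, ∃ y ∈ R, x * x = 1 ∧ y * y = 1 ∧ x * y = -(y * x) := by
  classical
  haveI : Finite R := Nat.finite_of_card_ne_zero (by rw [hB.card]; norm_num)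
  -- it is enough to find one noncentral involution
  suffices h : ∃ x ∈ R, x * x = 1 ∧ x ≠ 1 ∧ x ≠ -1 by
    obtain ⟨x, hx, hx2, h1, h1'⟩ := h
    obtain ⟨y, hy, hxy⟩ := hB.exists_anti hx h1 h1'
    rcases hB.sq y hy with e | e
    · exact ⟨x, hx, y, hy, hx2, e, hxy⟩
    refine ⟨x, hx, x * y, R.mul_mem hx hy, hx2, ?_, ?_⟩
    · rw [show x * y * (x * y) = x * (y * x) * y by simp only [mul_assoc],
        show y * x = -(x * y) by rw [hxy, neg_neg], mul_neg, neg_mul, ← mul_assoc, hx2, one_mul, e, neg_neg]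
    · rw [← mul_assoc, hx2, one_mul, mul_assoc, show y * x = -(x * y) by rw [hxy, neg_neg], mul_neg, ← mul_assoc,
        hx2, one_mul, neg_neg]
  by_contra hall
  push Not at hall
  obtain ⟨z, hz, hz1, hz1'⟩ : ∃ z ∈ R, z ≠ 1 ∧ z ≠ -1 := by
    by_contra hno
    push Not at hno
    have hsub : ∀ g : R, (g : GL I8 F) ∈ ({1, -1} : Finset (GL I8 F)) := fun g => by
      by_cases h : (g : GL I8 F) = 1
      · simp [h]
      · simp [hno _ g.2 h]
    have := Nat.card_le_card_of_injective (fun g : R => (⟨_, hsub g⟩ : ({1, -1} : Finset (GL I8 F))))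
      fun a b e => Subtype.ext (congrArg (fun u : ({1, -1} : Finset (GL I8 F)) => (u : GL I8 F)) e)
    rw [Nat.card_eq_finsetCard, hB.card] at this
    have := this.trans Finset.card_le_two
    omega
  obtain ⟨w, hw, hzw⟩ := hB.exists_anti hz hz1 hz1'
  -- something else commuting with both
  obtain ⟨c, hc, hcz, hcw, hc1, hc1'⟩ : ∃ c ∈ R, c * z = z * c ∧ c * w = w * c ∧ c ≠ 1 ∧ c ≠ -1 := by
    haveI : Fintype R := Fintype.ofFinite R
    let sgn : R → Bool × Bool := fun g =>
      (decide ((g : GL I8 F) * z = z * g), decide ((g : GL I8 F) * w = w * g))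
    obtain ⟨pat, -, hfib⟩ := Finset.exists_lt_card_fiber_of_mul_lt_card_of_maps_to
      (s := (Finset.univ : Finset R)) (t := (Finset.univ : Finset (Bool × Bool))) (f := sgn) (n := 2)
      (fun _ _ => Finset.mem_univ _) (by
        rw [Finset.card_univ, Finset.card_univ, ← Nat.card_eq_fintype_card (α := R), hB.card]
        decide)
    obtain ⟨g₀, h₀, g₁, h₁, g₂, h₂, h01, h02, h12⟩ := Finset.two_lt_card.1 hfib
    simp only [Finset.mem_filter, Finset.mem_univ, true_and] at h₀ h₁ h₂
    have hquot : ∀ g : R, sgn g = pat → ∀ u ∈ R, (decide ((g : GL I8 F) * u = u * g) =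
        decide ((g₀ : GL I8 F) * u = u * g₀)) →
        ((g₀ : GL I8 F)⁻¹ * g) * u = u * ((g₀ : GL I8 F)⁻¹ * g) := by
      intro g _ u hu hdec
      rw [decide_eq_decide] at hdec
      rcases hB.comm (g₀ : GL I8 F) g₀.2 u hu with e | e
      · rw [mul_assoc, hdec.2 e, ← mul_assoc, ← mul_assoc]
        refine congrArg (· * (g : GL I8 F)) ?_
        rw [inv_mul_eq_iff_eq_mul, ← mul_assoc, e, mul_inv_cancel_right]
      · have hne : ¬ (g₀ : GL I8 F) * u = u * g₀ := fun e' => hB.ne_neg _ (e'.symm.trans e)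
        have he : (g : GL I8 F) * u = -(u * g) := (hB.comm g g.2 u hu).resolve_left fun e' => hne (hdec.1 e')
        rw [mul_assoc, he, mul_neg, ← mul_assoc, ← mul_assoc, ← neg_mul]
        refine congrArg (· * (g : GL I8 F)) ?_
        rw [neg_eq_iff_eq_neg, inv_mul_eq_iff_eq_mul, mul_neg, ← mul_assoc, e, neg_mul, neg_neg, mul_inv_cancel_right]
    have hq : ∀ g : R, sgn g = pat → g ≠ g₀ → (g : GL I8 F) ≠ -(g₀ : GL I8 F) →
        ∃ c ∈ R, c * z = z * c ∧ c * w = w * c ∧ c ≠ 1 ∧ c ≠ -1 := fun g hg hne hne' =>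
      ⟨(g₀ : GL I8 F)⁻¹ * g, R.mul_mem (R.inv_mem g₀.2) g.2,
        hquot g hg z hz (congrArg Prod.fst (hg.trans h₀.symm)), hquot g hg w hw (congrArg Prod.snd (hg.trans h₀.symm)),
        fun e => hne (Subtype.ext (inv_mul_eq_one.1 e).symm),
        fun e => hne' (by rw [inv_mul_eq_iff_eq_mul] at e; rw [e, mul_neg, mul_one])⟩
    by_cases h : (g₁ : GL I8 F) = -(g₀ : GL I8 F)
    · exact hq g₂ h₂ (Ne.symm h02) fun h' => h12 (Subtype.ext (h.trans h'.symm))
    · exact hq g₁ h₁ (Ne.symm h01) h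
  have hz2 : z * z = -1 := (hB.sq z hz).resolve_left fun e => hz1' (hall z hz e hz1)
  have hc2 : c * c = -1 := (hB.sq c hc).resolve_left fun e => hc1' (hall c hc e hc1)
  have hne := hB.ne_of_anti (x := z * c) (y := w) (by
    rw [mul_assoc, hcw, ← mul_assoc, hzw, neg_mul, mul_assoc])
  refine hne.2 (hall (z * c) (R.mul_mem hz hc) ?_ hne.1)
  rw [show z * c * (z * c) = z * (c * z) * c by simp only [mul_assoc], hcz, ← mul_assoc, hz2, mul_assoc, hc2]
  simp

/-- The standard basis of a half. -/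
theorem exists_half_basis (hB : Big R) {x y : GL I8 F} (hx : x ∈ R) (hy : y ∈ R) (hx2 : x * x = 1) (hy2 : y * y = 1)
    (hxy : x * y = -(y * x)) : ∃ v : I4 → I8 → F, (∀ j, (x : M8 F) *ᵥ v j = v j) ∧
      ∀ j k, CfsgLib.Symp.form (v j) (v k) = J4 F j k := by
  classical
  have hxs := SpTv.mem_spGL.1 (hB.le hx)
  set X := Matrix.toLin' (x : M8 F) with hX
  have hXa : ∀ u, X u = (x : M8 F) *ᵥ u := fun u => Matrix.toLin'_apply _ u
  set Vp := LinearMap.ker (X - LinearMap.id) with hVp
  set Vm := LinearMap.ker (X + LinearMap.id) with hVm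
  have hp : ∀ u, u ∈ Vp ↔ (x : M8 F) *ᵥ u = u := fun u => by simp [hVp, hXa, sub_eq_zero]
  have hm : ∀ u, u ∈ Vm ↔ (x : M8 F) *ᵥ u = -u := fun u => by simp [hVm, hXa, eq_neg_iff_add_eq_zero]
  have hxx : ∀ u, (x : M8 F) *ᵥ ((x : M8 F) *ᵥ u) = u := fun u => by
    rw [Matrix.mulVec_mulVec, ← Units.val_mul, hx2, Units.val_one, Matrix.one_mulVec]
  have hyy : ∀ u, (y : M8 F) *ᵥ ((y : M8 F) *ᵥ u) = u := fun u => by
    rw [Matrix.mulVec_mulVec, ← Units.val_mul, hy2, Units.val_one, Matrix.one_mulVec]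
  have hswap : ∀ u, (x : M8 F) *ᵥ ((y : M8 F) *ᵥ u) = -((y : M8 F) *ᵥ ((x : M8 F) *ᵥ u)) := fun u => by
    rw [Matrix.mulVec_mulVec, Matrix.mulVec_mulVec, ← Units.val_mul, ← Units.val_mul, hxy, Units.val_neg,
      Matrix.neg_mulVec]
  have hc : IsCompl Vp Vm := by
    refine ⟨Submodule.disjoint_def.2 fun u h1 h2 => ?_, codisjoint_iff.2 (eq_top_iff.2 fun u _ => ?_)⟩
    · have h := ((hp u).1 h1).symm.trans ((hm u).1 h2)
      have : (2 : F) • u = 0 := by rw [two_smul]; nth_rw 1 [h]; exact neg_add_cancel u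
      exact (smul_eq_zero.1 this).resolve_left hB.two
    · refine Submodule.mem_sup.2 ⟨(2 : F)⁻¹ • (u + (x : M8 F) *ᵥ u), (hp _).2 ?_,
        (2 : F)⁻¹ • (u - (x : M8 F) *ᵥ u), (hm _).2 ?_, ?_⟩
      · rw [Matrix.mulVec_smul, Matrix.mulVec_add, hxx, add_comm]
      · rw [Matrix.mulVec_smul, Matrix.mulVec_sub, hxx, ← smul_neg, neg_sub]
      · rw [← smul_add, show u + (x : M8 F) *ᵥ u + (u - (x : M8 F) *ᵥ u) = (2 : F) • u by rw [two_smul]; abel,
          smul_smul, inv_mul_cancel₀ hB.two, one_smul]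
  let g : Vp ≃ₗ[F] Vm :=
    { toFun := fun u => ⟨(y : M8 F) *ᵥ (u : I8 → F), (hm _).2 (by rw [hswap, (hp _).1 u.2])⟩
      invFun := fun u => ⟨(y : M8 F) *ᵥ (u : I8 → F), (hp _).2 (by
        rw [hswap, (hm _).1 u.2, Matrix.mulVec_neg, neg_neg])⟩
      map_add' := fun a b => Subtype.ext (by simp [Matrix.mulVec_add])
      map_smul' := fun c a => Subtype.ext (by simp [Matrix.mulVec_smul])
      left_inv := fun u => Subtype.ext (hyy _)
      right_inv := fun u => Subtype.ext (hyy _) }
  have h4 : Module.finrank F Vp = 4 := by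
    have h1 := Submodule.finrank_add_eq_of_isCompl hc
    rw [← g.finrank_eq, Module.finrank_fintype_fun_eq_card] at h1
    simp only [Fintype.card_sum, Fintype.card_fin] at h1
    omega
  let B : LinearMap.BilinForm F Vp :=
    LinearMap.mk₂ F (fun a b : Vp => CfsgLib.Symp.form (a : I8 → F) (b : I8 → F))
      (fun a a' b => CfsgLib.Symp.form_add_left _ _ _) (fun c a b => CfsgLib.Symp.form_smul_left c _ _)
      (fun a b b' => CfsgLib.Symp.form_add_right _ _ _) (fun c a b => CfsgLib.Symp.form_smul_right c _ _)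
  obtain ⟨m, k, b, h1, h2', h3, hrad⟩ :=
    CfsgLib.Forms.exists_symplectic_basis _ Vp B (fun a => CfsgLib.Symp.form_self (a : I8 → F)) rfl
  have hk : k = 0 := by
    by_contra hk
    set a := b (Sum.inr ⟨0, Nat.pos_of_ne_zero hk⟩) with ha
    refine b.ne_zero (Sum.inr ⟨0, Nat.pos_of_ne_zero hk⟩) (Subtype.ext ?_)
    show ((a : Vp) : I8 → F) = 0
    refine CfsgLib.Symp.eq_zero_of_form_eq_zero fun u => ?_
    obtain ⟨up, hup, um, hum, rfl⟩ := Submodule.mem_sup.1 (hc.codisjoint.eq_top.symm ▸ Submodule.mem_top : u ∈ Vp ⊔ Vm)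
    have e1 : CfsgLib.Symp.form (a : I8 → F) up = 0 := hrad _ ⟨up, hup⟩
    have e2 : CfsgLib.Symp.form (a : I8 → F) um = 0 := by
      have := hxs (a : I8 → F) um
      rw [(hp _).1 a.2, (hm _).1 hum, ← neg_one_smul F um, CfsgLib.Symp.form_smul_right] at this
      have : (2 : F) * CfsgLib.Symp.form (a : I8 → F) um = 0 := by linear_combination -this
      exact (mul_eq_zero.1 this).resolve_left hB.two
    rw [CfsgLib.Symp.form_swap, CfsgLib.Symp.form_add_right, e1, e2, add_zero, neg_zero]
  subst hk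
  have hm2 : m = 2 := by
    have := Module.finrank_eq_card_basis b
    rw [h4] at this
    simp at this
    omega
  subst hm2
  have h1' : ∀ p q : Fin 2, CfsgLib.Symp.form ((b (Sum.inl (Sum.inr p)) : Vp) : I8 → F)
      ((b (Sum.inl (Sum.inl q)) : Vp) : I8 → F) = -(if q = p then 1 else 0) := fun p q => by
    rw [CfsgLib.Symp.form_swap]; exact congrArg Neg.neg (h1 q p)
  refine ⟨fun j => ((b (Sum.inl (Sum.elim Sum.inr Sum.inl j)) : Vp) : I8 → F), fun j => (hp _).1 (b _).2, ?_⟩
  rintro (j | j) (l | l)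
  · exact (h3 j l).trans (by simp [J4, Matrix.J])
  · exact (h1' j l).trans (by simp [J4, Matrix.J, Matrix.one_apply, eq_comm])
  · exact (h1 j l).trans (by simp [J4, Matrix.J, Matrix.one_apply])
  · exact (h2' j l).trans (by simp [J4, Matrix.J])

/-- The change of basis. -/
theorem exists_frame_change (hB : Big R) : ∃ P ∈ Cfsg.spGL 4 F,
    (x0 : GL I8 F) ∈ R.map (MulAut.conj P⁻¹).toMonoidHom ∧ (y0 : GL I8 F) ∈ R.map (MulAut.conj P⁻¹).toMonoidHom := by
  classical
  obtain ⟨x, hx, y, hy, hx2, hy2, hxy⟩ := hB.exists_singular_pair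
  obtain ⟨v, hv, hvf⟩ := exists_half_basis hB hx hy hx2 hy2 hxy
  have hxs := SpTv.mem_spGL.1 (hB.le hx)
  have hys := SpTv.mem_spGL.1 (hB.le hy)
  let col : I4 ⊕ I4 → I8 → F := Sum.elim v fun j => (y : M8 F) *ᵥ v j
  let P : M8 F := Matrix.of fun r s => col (e8.symm s) r
  have hcol : ∀ s, P *ᵥ Pi.single s 1 = col (e8.symm s) := fun s => by
    ext r; simp [P]
  have hswap : ∀ j, (x : M8 F) *ᵥ ((y : M8 F) *ᵥ v j) = -((y : M8 F) *ᵥ v j) := fun j => by
    rw [Matrix.mulVec_mulVec, ← Units.val_mul, hxy, Units.val_neg, Units.val_mul, Matrix.neg_mulVec,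
      ← Matrix.mulVec_mulVec, hv]
  have hzero : ∀ j k, CfsgLib.Symp.form (v j) ((y : M8 F) *ᵥ v k) = 0 := fun j k => by
    have := hxs (v j) ((y : M8 F) *ᵥ v k)
    rw [hv, hswap, ← neg_one_smul F ((y : M8 F) *ᵥ v k), CfsgLib.Symp.form_smul_right] at this
    have : (2 : F) * CfsgLib.Symp.form (v j) ((y : M8 F) *ᵥ v k) = 0 := by linear_combination -this
    exact (mul_eq_zero.1 this).resolve_left hB.two
  have hform : Pᵀ * Matrix.J (Fin 4) F * P = Matrix.J (Fin 4) F := by
    ext a b
    have e1 : (Pᵀ * Matrix.J (Fin 4) F * P) a b =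
        CfsgLib.Symp.form (col (e8.symm a)) (col (e8.symm b)) := by
      rw [← hcol, ← hcol, CfsgLib.Symp.form, Matrix.mulVec_mulVec, Matrix.dotProduct_mulVec,
        ← Matrix.vecMul_transpose, Matrix.vecMul_vecMul, ← Matrix.dotProduct_mulVec, single_dotProduct, one_mul,
        Matrix.mulVec_single_one, Matrix.mul_assoc]
      rfl
    rw [e1, ← blk_J, blk_eq, Matrix.submatrix_apply]
    rcases e8.symm a with j | j <;> rcases e8.symm b with k | k <;> simp only [col, Sum.elim_inl, Sum.elim_inr]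
    · rw [hvf]; rfl
    · rw [hzero]; rfl
    · rw [CfsgLib.Symp.form_swap, hzero, neg_zero]; rfl
    · rw [hys, hvf]; rfl
  have hinv : -(Matrix.J (Fin 4) F) * Pᵀ * Matrix.J (Fin 4) F * P = 1 := by
    rw [mul_assoc (-(Matrix.J (Fin 4) F)), mul_assoc (-(Matrix.J (Fin 4) F)), hform, neg_mul,
      Matrix.J_squared, neg_neg]
  let Pu : GL I8 F := ⟨P, _, mul_eq_one_comm.1 hinv, hinv⟩
  refine ⟨Pu, mem_spGL_iff.2 hform, ?_, ?_⟩
  · refine ⟨x, hx, ?_⟩
    show Pu⁻¹ * x * Pu⁻¹⁻¹ = x0
    rw [inv_inv, mul_assoc, inv_mul_eq_iff_eq_mul]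
    refine Units.ext (Matrix.ext_of_mulVec_single fun s => ?_)
    obtain ⟨t, rfl⟩ := e8.surjective s
    rw [Units.val_mul, Units.val_mul, ← Matrix.mulVec_mulVec, ← Matrix.mulVec_mulVec, hcol, x0_val,
      Equiv.symm_apply_apply]
    rcases t with j | j
    · have : blk 1 0 0 (-1) *ᵥ (Pi.single (e8 (Sum.inl j)) 1 : I8 → F) = Pi.single (e8 (Sum.inl j)) 1 := by
        funext r; obtain ⟨r', rfl⟩ := e8.surjective r
        simp [blk_eq]
        rcases r' with r' | r' <;> simp [Matrix.one_apply, Pi.single_apply]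
      rw [this, hcol, Equiv.symm_apply_apply]
      exact hv j
    · have : blk 1 0 0 (-1) *ᵥ (Pi.single (e8 (Sum.inr j)) 1 : I8 → F) = -Pi.single (e8 (Sum.inr j)) 1 := by
        funext r; obtain ⟨r', rfl⟩ := e8.surjective r
        simp [blk_eq]
        rcases r' with r' | r' <;> simp [Matrix.one_apply, Pi.single_apply, apply_ite]
      rw [this, Matrix.mulVec_neg, hcol, Equiv.symm_apply_apply]
      exact hswap j
  · refine ⟨y, hy, ?_⟩
    show Pu⁻¹ * y * Pu⁻¹⁻¹ = y0
    rw [inv_inv, mul_assoc, inv_mul_eq_iff_eq_mul]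
    refine Units.ext (Matrix.ext_of_mulVec_single fun s => ?_)
    obtain ⟨t, rfl⟩ := e8.surjective s
    rw [Units.val_mul, Units.val_mul, ← Matrix.mulVec_mulVec, ← Matrix.mulVec_mulVec, hcol, y0_val,
      Equiv.symm_apply_apply]
    have hsw : ∀ t : I4 ⊕ I4, blk 0 1 1 0 *ᵥ (Pi.single (e8 t) 1 : I8 → F) = Pi.single (e8 t.swap) 1 := fun t => by
      funext r; obtain ⟨r', rfl⟩ := e8.surjective r
      simp [blk_eq]
      rcases r' with r' | r' <;> rcases t with t | t <;> simp [Matrix.one_apply, Pi.single_apply]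
    rw [hsw, hcol, Equiv.symm_apply_apply]
    rcases t with j | j
    · rfl
    · show (y : M8 F) *ᵥ ((y : M8 F) *ᵥ v j) = v j
      rw [Matrix.mulVec_mulVec, ← Units.val_mul, hy2, Units.val_one, Matrix.one_mulVec]

/-- The normal form. -/
theorem exists_dbl (hB : Big R) : ∃ P ∈ Cfsg.spGL 4 F, ∃ (R4 : Subgroup (GL I4 F)) (hS : Grp R4),
    R4 ≤ Cfsg.spGL 2 F ∧ R.map (MulAut.conj P⁻¹).toMonoidHom = dbl hS := by
  classical
  obtain ⟨P, hP, hx0, hy0⟩ := exists_frame_change hB
  set R' := R.map (MulAut.conj P⁻¹).toMonoidHom with hR'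
  have hsp : R' ≤ Cfsg.spGL 4 F := by
    rintro _ ⟨g, hg, rfl⟩
    exact Subgroup.mul_mem _ (Subgroup.mul_mem _ (Subgroup.inv_mem _ hP) (hB.le hg))
      (Subgroup.inv_mem _ (Subgroup.inv_mem _ hP))
  have hcomm : ∀ a ∈ R', ∀ b ∈ R', a * b = b * a ∨ a * b = -(b * a) := by
    rintro _ ⟨a, ha, rfl⟩ _ ⟨b, hb, rfl⟩
    rcases hB.comm a ha b hb with e | e
    · exact Or.inl (by rw [← map_mul, ← map_mul, e])
    · refine Or.inr ?_
      rw [← map_mul, ← map_mul, e]
      simp [mul_assoc]
  let δ : GL I4 F →* GL I8 F := dg.comp ((MonoidHom.id _).prod (MonoidHom.id _))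
  let R4 := R'.comap δ
  have hle4 : R4 ≤ Cfsg.spGL 2 F := fun a ha => (dg_mem_iff.1 (hsp ha)).1
  -- every element comes from a pattern
  have hxy : (x0 : GL I8 F) * y0 = -(y0 * x0) :=
    Units.ext (by simp [Units.val_mul, x0_val, y0_val, blk_mul, blk_neg])
  have hpat : ∀ g ∈ R', ∃ a ∈ R4, ∃ j k : Bool, g = δ a * cond j x0 1 * cond k y0 1 := by
    intro g hg
    obtain ⟨k, hk⟩ : ∃ k : Bool, g * cond k y0 1 * x0 = x0 * (g * cond k y0 1) := by
      rcases hcomm g hg x0 hx0 with e | e
      · exact ⟨false, by simpa using e⟩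
      · refine ⟨true, ?_⟩
        show g * y0 * x0 = x0 * (g * y0)
        rw [mul_assoc g y0 x0, show (y0 : GL I8 F) * x0 = -(x0 * y0) by rw [hxy, neg_neg], mul_neg, ← mul_assoc, e,
          neg_mul, neg_neg, mul_assoc]
    have hkR : (cond k y0 1 : GL I8 F) ∈ R' := by
      cases k
      · exact R'.one_mem
      · exact hy0
    obtain ⟨g1, hg1⟩ : ∃ g1, g1 = g * cond k y0 1 := ⟨_, rfl⟩
    have hg1R : g1 ∈ R' := hg1 ▸ R'.mul_mem hg hkR
    rw [← hg1] at hk
    obtain ⟨j, hj⟩ : ∃ j : Bool, g1 * cond j x0 1 * y0 = y0 * (g1 * cond j x0 1) := by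
      rcases hcomm g1 hg1R y0 hy0 with e | e
      · exact ⟨false, by simpa using e⟩
      · refine ⟨true, ?_⟩
        show g1 * x0 * y0 = y0 * (g1 * x0)
        rw [mul_assoc, hxy, mul_neg, ← mul_assoc, e, neg_mul, neg_neg, mul_assoc]
    have hjR : (cond j x0 1 : GL I8 F) ∈ R' := by
      cases j
      · exact R'.one_mem
      · exact hx0
    have hjx : (cond j x0 1 : GL I8 F) * x0 = x0 * cond j x0 1 := by cases j <;> simp
    obtain ⟨a, b, hab⟩ := exists_dg hB.two (g := g1 * cond j x0 1) (by rw [mul_assoc, hjx, ← mul_assoc, hk, mul_assoc])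
    rw [hab] at hj
    have hab' : a = b := by
      have := congrArg Units.val hj
      simp [Units.val_mul, y0_val, dg_val, blk_mul, blk_inj] at this
      exact Units.ext this.1
    subst hab'
    refine ⟨a, ?_, j, k, ?_⟩
    · show dg (a, a) ∈ R'
      rw [← hab]; exact R'.mul_mem hg1R hjR
    · have hjj : (cond j x0 1 : GL I8 F) * cond j x0 1 = 1 := by
        cases j
        · simp
        · exact Units.ext (by simp [Units.val_mul, x0_val, blk_mul, blk_one])
      have hkk : (cond k y0 1 : GL I8 F) * cond k y0 1 = 1 := by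
        cases k
        · simp
        · exact y0_mul_y0
      show g = dg (a, a) * cond j x0 1 * cond k y0 1
      rw [← hab, mul_assoc g1, hjj, mul_one, hg1, mul_assoc, hkk, mul_one]
  have hS : Grp R4 := by
    refine ⟨hB.two, fun M hM => ?_, ?_, fun g hg c hc => scalar_sq (hle4 hg) hc, ?_, ?_, ?_⟩
    · obtain ⟨c, hc⟩ := hB.commutant ((P : M8 F) * blk M 0 0 M * ((P⁻¹ : GL I8 F) : M8 F)) fun g hg => by
        obtain ⟨a, ha, j, k, e⟩ := hpat _ (Subgroup.mem_map_of_mem _ hg)
        have hb : blk M 0 0 M * ((P⁻¹ * g * P : GL I8 F) : M8 F) = ((P⁻¹ * g * P : GL I8 F) : M8 F) * blk M 0 0 M := by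
          rw [show P⁻¹ * g * P = δ a * cond j x0 1 * cond k y0 1 by simpa using e]
          cases j <;> cases k <;>
            simp [δ, Units.val_mul, dg_val, x0_val, y0_val, blk_mul, blk_inj, hM a ha]
        have hg' : (g : M8 F) = (P : M8 F) * ((P⁻¹ * g * P : GL I8 F) : M8 F) * ((P⁻¹ : GL I8 F) : M8 F) := by
          rw [← Units.val_mul, ← Units.val_mul]; congr 1; group
        rw [hg']
        generalize ((P⁻¹ * g * P : GL I8 F) : M8 F) = G at hb ⊢
        simp only [mul_assoc, Units.inv_mul_cancel_left]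
        rw [← mul_assoc (blk M 0 0 M), hb, mul_assoc]
      refine ⟨c, ?_⟩
      have h' : blk M 0 0 M = c • (1 : M8 F) := by
        have := congrArg (fun X => ((P⁻¹ : GL I8 F) : M8 F) * X * (P : M8 F)) hc
        simpa [mul_assoc] using this
      rw [← blk_one, blk_smul, blk_inj] at h'
      exact h'.1
    · show δ (-1) ∈ R'
      have : δ (-1 : GL I4 F) = (MulAut.conj P⁻¹) (-1) :=
        Units.ext (by simp [δ, dg_val, blk_neg, ← blk_one, Units.val_mul])
      rw [this]; exact ⟨_, hB.neg, rfl⟩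
    · intro a ha b hb
      rcases hcomm _ ha _ hb with e | e <;> have := congrArg Units.val e <;>
        simp [δ, Units.val_mul, dg_val, blk_mul, blk_neg, blk_inj] at this
      · exact Or.inl this
      · exact Or.inr this
    · have hbij : Function.Bijective fun p : R4 × Bool × Bool =>
          (⟨δ p.1 * cond p.2.1 x0 1 * cond p.2.2 y0 1, R'.mul_mem (R'.mul_mem p.1.2 (by
            cases p.2.1
            · exact R'.one_mem
            · exact hx0)) (by
            cases p.2.2
            · exact R'.one_mem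
            · exact hy0)⟩ : R') := by
        refine ⟨fun ⟨a, j, k⟩ ⟨a', j', k'⟩ e => ?_, fun ⟨g, hg⟩ => ?_⟩
        · have h := congrArg (fun z : R' => ((z : GL I8 F) : M8 F)) e
          have ha := (a : GL I4 F).ne_zero
          have ha' := (a' : GL I4 F).ne_zero
          have hnn : ∀ u : GL I4 F, (u : M4 F) ≠ -(u : M4 F) := fun u h0 => u.ne_zero (by
            have : (2 : F) • (u : M4 F) = 0 := by rw [two_smul]; nth_rw 1 [h0]; exact neg_add_cancel _
            exact (smul_eq_zero.1 this).resolve_left hB.two)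
          have hneg : ((a' : GL I4 F) : M4 F) ≠ -((a' : GL I4 F) : M4 F) := fun h0 => ha' (by
            have : (2 : F) • ((a' : GL I4 F) : M4 F) = 0 := by rw [two_smul]; nth_rw 1 [h0]; exact neg_add_cancel _
            exact (smul_eq_zero.1 this).resolve_left hB.two)
          cases j <;> cases k <;> cases j' <;> cases k' <;>
            simp [δ, Units.val_mul, dg_val, x0_val, y0_val, blk_mul, blk_inj, ha, ha', Ne.symm ha, Ne.symm ha'] at h
          all_goals
            first
              | exact Prod.ext (Subtype.ext (Units.ext h)) rfl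
              | exact Prod.ext (Subtype.ext (Units.ext h.1)) rfl
              | exact absurd (h.1.symm.trans h.2) hneg
              | exact absurd (h.2.symm.trans h.1) hneg
              | exact absurd (h.2.trans h.1.symm).symm (hnn _)
              | exact absurd (h.1.trans h.2.symm) (hnn _)
              | exact absurd (h.1.trans h.2.symm).symm (hnn _)
        · obtain ⟨a, ha, j, k, e⟩ := hpat g hg
          exact ⟨(⟨a, ha⟩, j, k), Subtype.ext e.symm⟩
      have hR'c : Nat.card R' = 128 := by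
        rw [hR', Subgroup.card_map_of_injective (MulAut.conj P⁻¹).injective, hB.card]
      have h := Nat.card_eq_of_bijective _ hbij
      rw [hR'c, Nat.card_prod, Nat.card_prod] at h
      simp at h
      omega
    · intro A hA hA2
      by_contra hA8
      push Not at hA8
      haveI : Finite R' := Nat.finite_of_card_ne_zero (by
        rw [hR', Subgroup.card_map_of_injective (MulAut.conj P⁻¹).injective, hB.card]; norm_num)
      let e := R.equivMapOfInjective (MulAut.conj P⁻¹).toMonoidHom (MulAut.conj P⁻¹).injective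
      let X0 : R' := ⟨x0, hx0⟩
      let j : R4 →* R' := (δ.comp R4.subtype).codRestrict R' fun a => a.2
      have hjv : ∀ a : R4, (((j a : R') : GL I8 F) : M8 F) =
          blk ((a : GL I4 F) : M4 F) 0 0 ((a : GL I4 F) : M4 F) := fun a => rfl
      let A' : Subgroup R' := Subgroup.closure (Set.range (fun a : A => j a) ∪ {X0})
      have hX02 : X0 * X0 = 1 := Subtype.ext (Units.ext (by simp [X0, Units.val_mul, x0_val, blk_mul, blk_one]))
      have hXa : ∀ a : R4, j a * X0 = X0 * j a := fun a =>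
        Subtype.ext (Units.ext (by simp [X0, hjv, Units.val_mul, x0_val, blk_mul]))
      have hA'c : IsMulCommutative A' := by
        refine Subgroup.isMulCommutative_closure fun u hu w hw => ?_
        simp only [Set.mem_union, Set.mem_range, Set.mem_singleton_iff] at hu hw
        rcases hu with ⟨a, rfl⟩ | rfl <;> rcases hw with ⟨b, rfl⟩ | rfl
        · have hab : (a : R4) * (b : R4) = (b : R4) * (a : R4) := congrArg Subtype.val (mul_comm' a b)
          rw [← map_mul, ← map_mul, hab]
        · exact hXa _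
        · exact (hXa _).symm
        · rfl
      have hA'2 : ∀ u ∈ A', u * u = 1 := by
        intro u hu
        induction hu using Subgroup.closure_induction with
        | mem u hu =>
          simp only [Set.mem_union, Set.mem_range, Set.mem_singleton_iff] at hu
          rcases hu with ⟨a, rfl⟩ | rfl
          · rw [← map_mul, hA2 _ a.2, map_one]
          · exact hX02
        | one => exact one_mul 1
        | mul u w hu' hw' e e' =>
          have hc : u * w = w * u := congrArg Subtype.val (mul_comm' (⟨u, hu'⟩ : A') ⟨w, hw'⟩)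
          calc u * w * (u * w) = u * (w * u) * w := by group
            _ = (u * u) * (w * w) := by rw [← hc]; group
            _ = 1 := by rw [e, e', one_mul]
        | inv u _ e => rw [← _root_.mul_inv_rev, e, inv_one]
      have h16 : 16 ≤ Nat.card A' := by
        let f : A × Bool → A' := fun p => ⟨j p.1 * cond p.2 X0 1, A'.mul_mem
          (Subgroup.subset_closure (Or.inl ⟨p.1, rfl⟩)) (by
            cases p.2
            · exact A'.one_mem
            · exact Subgroup.subset_closure (Or.inr rfl))⟩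
        have hf : Function.Injective f := by
          rintro ⟨a, ja⟩ ⟨b, jb⟩ e
          have h := congrArg (fun z : A' => (((z : R') : GL I8 F) : M8 F)) e
          have hb0 := ((b : R4) : GL I4 F).ne_zero
          have hnn : ∀ u : GL I4 F, (u : M4 F) ≠ -(u : M4 F) := fun u h0 => u.ne_zero (by
            have : (2 : F) • (u : M4 F) = 0 := by rw [two_smul]; nth_rw 1 [h0]; exact neg_add_cancel _
            exact (smul_eq_zero.1 this).resolve_left hB.two)
          have hneg : (((b : R4) : GL I4 F) : M4 F) ≠ -(((b : R4) : GL I4 F) : M4 F) := fun h0 => hb0 (by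
            have : (2 : F) • (((b : R4) : GL I4 F) : M4 F) = 0 := by
              rw [two_smul]; nth_rw 1 [h0]; exact neg_add_cancel _
            exact (smul_eq_zero.1 this).resolve_left hB.two)
          cases ja <;> cases jb <;>
            simp [f, hjv, X0, Units.val_mul, x0_val, blk_mul, blk_inj] at h
          all_goals
            first
              | exact Prod.ext (Subtype.ext (Subtype.ext (Units.ext h))) rfl
              | exact Prod.ext (Subtype.ext (Subtype.ext (Units.ext h.1))) rfl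
              | exact absurd (h.1.trans h.2.symm) (hnn _)
              | exact absurd (h.1.symm.trans h.2) hneg
              | exact absurd (h.2.symm.trans h.1) hneg
              | exact absurd (h.1.symm.trans h.2).symm hneg
        have := Nat.card_le_card_of_injective f hf
        rw [Nat.card_prod] at this
        simp at this
        norm_num at hA8
        omega
      have hm := hB.minus (A'.map e.symm.toMonoidHom) inferInstance (by
        rintro _ ⟨u, hu, rfl⟩
        rw [← map_mul, hA'2 u hu, map_one])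
      rw [Subgroup.card_map_of_injective e.symm.injective] at hm
      norm_num at hm
      exact absurd hm (not_lt.2 h16)
  refine ⟨P, hP, R4, hS, hle4, le_antisymm (fun g hg => ?_) fun g hg => ?_⟩
  · obtain ⟨a, ha, j, k, rfl⟩ := hpat g hg
    refine (dbl hS).mul_mem ((dbl hS).mul_mem (InD.diag ⟨a, ha, rfl⟩) ?_) ?_
    · cases j
      · exact (dbl hS).one_mem
      · exact inD_x0
    · cases k
      · exact (dbl hS).one_mem
      · exact inD_y0
  · obtain ⟨s, ⟨a, ha, rfl⟩, hp⟩ := hg
    have haR : δ a ∈ R' := ha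
    rcases hp with e | e | e | e
    · rwa [show g = δ a from Units.ext e]
    · rw [show g = δ a * x0 from Units.ext (by simp [δ, e, Units.val_mul, dg_val, x0_val, blk_mul])]
      exact R'.mul_mem haR hx0
    · rw [show g = δ a * y0 from Units.ext (by simp [δ, e, Units.val_mul, dg_val, y0_val, blk_mul])]
      exact R'.mul_mem haR hy0
    · rw [show g = δ a * y0 * x0 from
        Units.ext (by simp [δ, e, Units.val_mul, dg_val, x0_val, y0_val, blk_mul])]
      exact R'.mul_mem (R'.mul_mem haR hy0) hx0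

end CfsgLib.Geo.SpEight
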