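import Cfsg.Agent.Geo.SpEight.MinusMain
import Cfsg.Agent.Geo.SLFour.Pauli
import Cfsg.Agent.Geo.SUFour.PauliUnit
import Mathlib.FieldTheory.Finite.GaloisField

/-!
The dimension-four maximality behind the centraliser of the element of square minus one, for both residues of
the characteristic modulo four.
-/

set_option autoImplicit false
set_option linter.unusedSectionVars false
set_option linter.unusedSimpArgs false
set_option linter.style.haveILetI false
set_option maxHeartbeats 1000000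

namespace CfsgLib.Geo.SpEight

open Matrix CfsgLib.Elusive.PauliMinus

variable {F : Type*} [Field F] [Finite F] {R : Subgroup (GL I4 F)}

/-- Maximality pulled back along an isomorphism. -/
theorem isMaximalIn_pull {G H : Type*} [Group G] [Group H] (e : G ≃* H) (I S : Subgroup G)
    (h : Cfsg.Geo.IsMaximalIn (I.map e.toMonoidHom)
      (Subgroup.normalizer (S.map e.toMonoidHom : Set H) ⊓ I.map e.toMonoidHom)) :
    Cfsg.Geo.IsMaximalIn I (Subgroup.normalizer (S : Set G) ⊓ I) := by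
  let Φ := e.mapSubgroup
  have hΦ : ∀ A, Φ A = A.map e.toMonoidHom := fun A => rfl
  have hN : Φ (Subgroup.normalizer (S : Set G) ⊓ I) =
      Subgroup.normalizer (S.map e.toMonoidHom : Set H) ⊓ I.map e.toMonoidHom := by
    rw [map_inf, hΦ, hΦ, Subgroup.map_equiv_normalizer_eq]
  rw [← hN, ← hΦ] at h
  refine ⟨Φ.lt_iff_lt.1 h.1, fun X h1 h2 => ?_⟩
  rcases h.2 (Φ X) (Φ.le_iff_le.2 h1) (Φ.le_iff_le.2 h2) with h3 | h3
  · exact Or.inl (Φ.injective h3)
  · exact Or.inr (Φ.injective h3)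

variable {K : Type*} [Field K] [Finite K] {ι : F →+* K} {i : K}

/-- The order of the image of the doubled group. -/
theorem card_RK (hS : Grp R) (hle : R ≤ Cfsg.spGL 2 F) (hi : i * i = -1) : Nat.card (RK hS ι hi) = 64 := by
  have hu : (u0 : GL I8 F) ∈ Cu F := u0_mem_Cu hi hle hS
  let f : R × Bool → RK hS ι hi := fun p =>
    ⟨phi (ι := ι) hi ((⟨dg ((p.1 : GL I4 F), (p.1 : GL I4 F)), dg_mem_Cu (hle p.1.2)⟩ : Cu F) *
        cond p.2 (⟨u0, hu⟩ : Cu F) 1),
      _, Subgroup.mul_mem _ (InD.diag ⟨_, p.1.2, rfl⟩) (by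
        cases p.2
        · exact Subgroup.one_mem _
        · exact inD_u0), rfl⟩
  have hval : ∀ p, ((f p : GL I4 K) : M4 K) = (cond p.2 i 1) • ι.mapMatrix ((p.1 : GL I4 F) : M4 F) := fun p => by
    obtain ⟨r, b⟩ := p
    cases b <;> simp only [f, map_mul, Units.val_mul, phi_dg hi (hle r.2), cond]
    · rw [map_one, Units.val_one, mul_one, one_smul]
    · rw [phi_u0 hi hu, mul_smul_comm, mul_one]
  have hinj : Function.Injective f := by
    rintro ⟨r, b⟩ ⟨r', b'⟩ e
    have h := (hval (r, b)).symm.trans ((congrArg (fun x : RK hS ι hi => ((x : GL I4 K) : M4 K)) e).trans (hval (r', b')))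
    have hne : ∀ (a c : R), ι.mapMatrix ((a : GL I4 F) : M4 F) ≠ i • ι.mapMatrix ((c : GL I4 F) : M4 F) := by
      intro a c h
      have h' : ((Units.map (ι.mapMatrix : M4 F →+* M4 K).toMonoidHom ((c : GL I4 F)⁻¹ * a) : GL I4 K) : M4 K) =
          i • 1 := by
        show ι.mapMatrix ((((c : GL I4 F)⁻¹ * a : GL I4 F)) : M4 F) = _
        rw [Units.val_mul, map_mul, h, mul_smul_comm, ← map_mul, Units.inv_mul, map_one]
      rcases (grp_map hS ι).scal _ (Subgroup.mem_map_of_mem _ (R.mul_mem (R.inv_mem c.2) a.2)) i h' with e | e <;>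
        rw [e] at hi <;> exact (grp_map hS ι).two (by linear_combination hi)
    cases b <;> cases b' <;> simp only [cond, one_smul] at h
    · exact Prod.ext (Subtype.ext (Units.ext (mapMatrix_injective ι h))) rfl
    · exact absurd h (hne r r')
    · exact absurd h.symm (hne r' r)
    · exact Prod.ext (Subtype.ext (Units.ext (mapMatrix_injective ι (smul_right_injective _ (i_ne_zero hi) h)))) rfl
  have hsurj : Function.Surjective f := by
    rintro ⟨_, ⟨D, hC⟩, hD, rfl⟩
    obtain ⟨s, ⟨g, hg, rfl⟩, h | h⟩ := dblU_cases (ι := ι) hi (hS := hS) hD hC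
    · exact ⟨(⟨g, hg⟩, false), Subtype.ext (Units.ext (by rw [hval, cond, one_smul]; exact h.symm))⟩
    · exact ⟨(⟨g, hg⟩, true), Subtype.ext (Units.ext (by rw [hval, cond]; exact h.symm))⟩
  rw [← Nat.card_eq_of_bijective f ⟨hinj, hsurj⟩, Nat.card_prod, hS.card, Nat.card_eq_fintype_card,
    Fintype.card_bool]

open CfsgLib.Elusive.Pauli in
/-- The frame facts for a transported image. -/
theorem sym_map (hS : Grp R) (hle : R ≤ Cfsg.spGL 2 F) (hi : i * i = -1) (e : GL I4 K ≃* GL (Fin 4) K)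
    (E : M4 K ≃ₐ[K] Matrix (Fin 4) (Fin 4) K) (hE : ∀ g : GL I4 K, (e g : Matrix (Fin 4) (Fin 4) K) = E g) :
    Sym ((RK hS ι hi).map e.toMonoidHom) i := by
  classical
  obtain ⟨v, hv⟩ := CfsgLib.Elusive.PauliMinus.exists_five hS
  refine ⟨(grp_map hS ι).two, hi, fun N hN => ?_, fun c hc => ?_, ?_, ?_, ?_⟩
  · obtain ⟨N', rfl⟩ := E.surjective N
    obtain ⟨c, hc⟩ := (five_map hv ι).commutant (grp_map hS ι) (M := N') fun j => by
      obtain ⟨g, hg, hge⟩ := hv.mem j
      have h := hN _ (Subgroup.mem_map_of_mem _ (RK_mem (ι := ι) hi (hS := hS) hle hg))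
      rw [MulEquiv.coe_toMonoidHom, hE, phi_dg hi (hle hg), ← map_mul, ← map_mul, hge] at h
      exact E.injective h
    exact ⟨c, by rw [hc, map_smul, map_one]⟩
  · have hc0 : c ≠ 0 := fun e0 => by rw [e0, zero_pow (by norm_num)] at hc; exact zero_ne_one hc
    let z : GL I4 K := ⟨c • 1, c⁻¹ • 1, by rw [smul_mul_smul_comm, mul_inv_cancel₀ hc0, mul_one, one_smul],
      by rw [smul_mul_smul_comm, inv_mul_cancel₀ hc0, mul_one, one_smul]⟩
    have hz : (z : M4 K) = c • 1 := rfl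
    refine ⟨e z, Subgroup.mem_map_of_mem _ (scalar_mem_RK hi hS hle hz ?_), ?_⟩
    · rw [hz, Matrix.det_smul, Matrix.det_one, mul_one]; exact hc
    · rw [hE, hz, map_smul, map_one]
  · rintro _ ⟨_, ⟨⟨D, hC⟩, hD, rfl⟩, rfl⟩ _ ⟨_, ⟨⟨D', hC'⟩, hD', rfl⟩, rfl⟩
    obtain ⟨s, hs, h⟩ := dblU_cases (ι := ι) hi (hS := hS) hD hC
    obtain ⟨s', hs', h'⟩ := dblU_cases (ι := ι) hi (hS := hS) hD' hC'
    obtain ⟨c, hc⟩ : ∃ c : K, (phi (ι := ι) hi ⟨D, hC⟩ : M4 K) = c • ι.mapMatrix s := by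
      rcases h with h | h
      · exact ⟨1, by rw [one_smul]; exact h⟩
      · exact ⟨i, h⟩
    obtain ⟨c', hc'⟩ : ∃ c : K, (phi (ι := ι) hi ⟨D', hC'⟩ : M4 K) = c • ι.mapMatrix s' := by
      rcases h' with h | h
      · exact ⟨1, by rw [one_smul]; exact h⟩
      · exact ⟨i, h⟩
    simp only [MulEquiv.coe_toMonoidHom, hE, ← map_mul, ← map_neg, E.injective.eq_iff]
    rcases hS.comm' hs hs' with q | q
    · exact Or.inl (by rw [hc, hc', smul_mul_smul_comm, smul_mul_smul_comm, ← map_mul, ← map_mul, q, mul_comm c])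
    · exact Or.inr (by
        rw [hc, hc', smul_mul_smul_comm, smul_mul_smul_comm, ← map_mul, ← map_mul, q, map_neg, mul_comm c, smul_neg])
  · rw [Subgroup.card_map_of_injective e.injective, card_RK hS hle hi]
  · rintro _ ⟨x, ⟨⟨D, hC⟩, hD, rfl⟩, rfl⟩
    rw [← map_pow, ← map_pow]
    have hD' : D ∈ dbl hS := hD
    have h4 : (⟨D, hC⟩ : Cu F) ^ 4 = 1 := by
      refine Subtype.ext (Units.ext ?_)
      show ((D ^ 4 : GL I8 F) : M8 F) = 1
      rw [Units.val_pow_eq_pow_val, show (D : M8 F) ^ 4 = ((D : M8 F) * D) * ((D : M8 F) * D) by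
        simp only [pow_succ, pow_zero, one_mul, mul_assoc]]
      rcases InD.sq hS hD' with q | q <;> rw [q] <;> simp
    rw [h4, map_one, map_one]

/-- The case of a square root of minus one in the prime field. -/
theorem hmax_split [Fintype F] {p : ℕ} (hp : p.Prime) (hcard : Fintype.card F = p) (h4 : p % 4 = 1) (hS : Grp R)
    (hle : R ≤ Cfsg.spGL 2 F) {i : F} (hi : i * i = -1) :
    Cfsg.Geo.IsMaximalIn (G0 (RingHom.id F) hi)
      (Subgroup.normalizer (RK hS (RingHom.id F) hi : Set (GL I4 F)) ⊓ G0 (RingHom.id F) hi) := by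
  classical
  let E : M4 F ≃ₐ[F] Matrix (Fin 4) (Fin 4) F := Matrix.reindexAlgEquiv F F finSumFinEquiv
  let e : GL I4 F ≃* GL (Fin 4) F := Units.mapEquiv E.toMulEquiv
  have hE : ∀ g : GL I4 F, (e g : Matrix (Fin 4) (Fin 4) F) = E g := fun g => rfl
  have hdet : ∀ X : M4 F, (E X).det = X.det := fun X => Matrix.det_reindexAlgEquiv F F _ X
  refine isMaximalIn_pull e _ _ ?_
  have himg : (G0 (RingHom.id F) hi).map e.toMonoidHom = Cfsg.Geo.specialLinear (Fin 4) F := by
    ext h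
    constructor
    · rintro ⟨g, ⟨-, hg⟩, rfl⟩
      refine MonoidHom.mem_ker.2 (Units.ext ?_)
      show (e g : Matrix (Fin 4) (Fin 4) F).det = 1
      rw [hE, hdet]
      exact congrArg Units.val (MonoidHom.mem_ker.1 hg)
    · intro hh
      obtain ⟨g, rfl⟩ := e.surjective h
      have hgd : (g : M4 F).det = 1 := by
        rw [← hdet, ← hE]; exact congrArg Units.val (MonoidHom.mem_ker.1 hh)
      set J := J4 F with hJ
      set h' := -(J * ((g⁻¹ : GL I4 F) : M4 F)ᵀ * J) with hh'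
      have hform : h'ᵀ * J * (g : M4 F) = J := by
        rw [hh', Matrix.transpose_neg, Matrix.transpose_mul, Matrix.transpose_mul, Matrix.transpose_transpose, hJ,
          Matrix.J_transpose]
        simp only [neg_mul, mul_neg, neg_neg, mul_assoc]
        rw [← mul_assoc (J4 F) (J4 F), Matrix.J_squared, neg_one_mul, mul_neg, Units.inv_mul, mul_neg, mul_one,
          neg_neg]
      have h20 : (2 : F) * i ≠ 0 := mul_ne_zero hS.two (i_ne_zero hi)
      obtain ⟨L, hL⟩ := exists_lift (ι := RingHom.id F) hi hS.two ((2 : F)⁻¹ • ((g : M4 F) + h'))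
        ((2 * i)⁻¹ • ((g : M4 F) - h')) (by
          have e1 : (RingHom.id F).mapMatrix ((2 : F)⁻¹ • ((g : M4 F) + h')) +
              i • (RingHom.id F).mapMatrix ((2 * i)⁻¹ • ((g : M4 F) - h')) = (g : M4 F) := by
            simp only [RingHom.mapMatrix_id, RingHom.id_apply, smul_smul]
            rw [show i * (2 * i)⁻¹ = (2 : F)⁻¹ by field_simp [i_ne_zero hi]]
            ext a b
            simp only [Matrix.add_apply, Matrix.smul_apply, Matrix.sub_apply, smul_eq_mul]
            field_simp [hS.two]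
            ring
          have e2 : (RingHom.id F).mapMatrix ((2 : F)⁻¹ • ((g : M4 F) + h')) -
              i • (RingHom.id F).mapMatrix ((2 * i)⁻¹ • ((g : M4 F) - h')) = h' := by
            simp only [RingHom.mapMatrix_id, RingHom.id_apply, smul_smul]
            rw [show i * (2 * i)⁻¹ = (2 : F)⁻¹ by field_simp [i_ne_zero hi]]
            ext a b
            simp only [Matrix.add_apply, Matrix.smul_apply, Matrix.sub_apply, smul_eq_mul]
            field_simp [hS.two]
            ring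
          rw [e1, e2]; exact hform)
      refine ⟨g, ⟨⟨L, Units.ext ?_⟩, MonoidHom.mem_ker.2 (Units.ext hgd)⟩, rfl⟩
      rw [hL]
      simp only [RingHom.mapMatrix_id, RingHom.id_apply, smul_smul]
      rw [show i * (2 * i)⁻¹ = (2 : F)⁻¹ by field_simp [i_ne_zero hi]]
      ext a b
      simp only [Matrix.add_apply, Matrix.smul_apply, Matrix.sub_apply, smul_eq_mul]
      field_simp [hS.two]
      ring
  rw [himg]
  exact (CfsgLib.Geo.SLFour.pauli_maximal_of_sym hp hcard h4 (sym_map hS hle hi e E hE)).2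

/-- The case needing the quadratic extension, for any such extension. -/
theorem hmax_unitary [Fintype F] {p : ℕ} [Fact p.Prime] [CharP K p] [Algebra (ZMod p) K] (hK : Nat.card K = p ^ 2)
    (hcard : Fintype.card F = p) (h3 : p % 4 = 3) (hS : Grp R) (hle : R ≤ Cfsg.spGL 2 F) {i : K} (hi : i * i = -1) :
    ∃ ι : F →+* K, Cfsg.Geo.IsMaximalIn (G0 ι hi)
        (Subgroup.normalizer (RK hS ι hi : Set (GL I4 K)) ⊓ G0 ι hi) := by
  classical
  let η : ZMod p ≃+* F := ZMod.ringEquivOfPrime F Fact.out hcard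
  let ι : F →+* K := (algebraMap (ZMod p) K).comp η.symm.toRingHom
  refine ⟨ι, ?_⟩
  let σ : K →+* K := (CfsgLib.Geo.UTv.frobEquiv hK).toRingHom
  have hσι : ∀ x : F, σ (ι x) = ι x := fun x => CfsgLib.Geo.SUFour.frob_prime hK (η.symm x)
  have hσi : σ i = -i := CfsgLib.Geo.SUFour.frob_sqrt hK h3 hi
  have hσmap : ∀ a : M4 F, σ.mapMatrix (ι.mapMatrix a) = ι.mapMatrix a := fun a => by
    ext x y; exact hσι _
  -- the change of basis
  have hu := CfsgLib.Geo.UTv.isUnitaryForm hK (n := 4)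
  obtain ⟨μ, hμ⟩ := CfsgLib.Geo.Unit.exists_norm_eq hu.ne_refl hu.involutive
    (t := (-1 : K)) (by rw [map_neg, map_one])
  have hμ0 : μ ≠ 0 := fun e => by rw [e, zero_mul] at hμ; exact neg_ne_zero.2 one_ne_zero hμ.symm
  have hμ' : μ * σ μ = -1 := hμ
  set Qm : M4 K := Matrix.fromBlocks 1 (i • 1) (μ • 1) ((-(μ * i)) • 1) with hQm
  have hQ : Qmᵀ * σ.mapMatrix Qm = (2 * i) • J4 K := by
    have hmap : σ.mapMatrix Qm = Matrix.fromBlocks 1 (σ i • 1) (σ μ • 1) ((-(σ μ * σ i)) • 1) := by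
      rw [hQm, RingHom.mapMatrix_apply, Matrix.fromBlocks_map]
      congr 1 <;> · ext x y; by_cases h : x = y <;> simp [Matrix.one_apply, h]
    rw [hmap, hQm, Matrix.fromBlocks_transpose, Matrix.fromBlocks_multiply]
    simp only [Matrix.transpose_one, Matrix.transpose_smul, one_mul, mul_one, smul_mul_smul_comm, smul_smul,
      smul_mul_assoc, mul_smul_comm, hσi, J4, Matrix.J, Matrix.fromBlocks_smul, smul_zero]
    congr 1
    · conv_lhs => arg 1; rw [← one_smul K (1 : Matrix (Fin 2) (Fin 2) K)]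
      rw [← add_smul, show (1 : K) + σ μ * μ = 0 by linear_combination hμ', zero_smul]
    · rw [← add_smul, smul_neg, ← neg_smul]; congr 1; linear_combination i * hμ'
    · rw [← add_smul]; congr 1; linear_combination (-i) * hμ'
    · rw [← add_smul]
      conv_rhs => rw [← zero_smul K (1 : Matrix (Fin 2) (Fin 2) K)]
      congr 1; linear_combination (-(i * i)) * hμ'
  have h2i : (2 : K) * i ≠ 0 := mul_ne_zero (grp_map hS ι).two (i_ne_zero hi)
  obtain ⟨Q, hQv⟩ : ∃ Q : GL I4 K, (Q : M4 K) = Qm := by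
    refine ⟨Matrix.GeneralLinearGroup.mkOfDetNeZero Qm fun h0 => ?_, rfl⟩
    have := congrArg Matrix.det hQ
    rw [Matrix.det_mul, Matrix.det_transpose, h0, zero_mul, Matrix.det_smul] at this
    exact mul_ne_zero (pow_ne_zero _ h2i) (Matrix.isUnit_det_J (Fin 2) K).ne_zero this.symm
  let E₀ : M4 K ≃ₐ[K] Matrix (Fin 4) (Fin 4) K := Matrix.reindexAlgEquiv K K finSumFinEquiv
  let Cq : M4 K ≃ₐ[K] M4 K :=
    { toFun := fun X => (Q : M4 K) * X * ((Q⁻¹ : GL I4 K) : M4 K)
      invFun := fun X => ((Q⁻¹ : GL I4 K) : M4 K) * X * (Q : M4 K)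
      left_inv := fun X => by simp [mul_assoc]
      right_inv := fun X => by simp [mul_assoc]
      map_mul' := fun X Y => by simp [mul_assoc]
      map_add' := fun X Y => by simp [mul_add, add_mul]
      commutes' := fun c => by simp [Algebra.algebraMap_eq_smul_one] }
  let E : M4 K ≃ₐ[K] Matrix (Fin 4) (Fin 4) K := Cq.trans E₀
  let e : GL I4 K ≃* GL (Fin 4) K := Units.mapEquiv E.toMulEquiv
  have hE : ∀ g : GL I4 K, (e g : Matrix (Fin 4) (Fin 4) K) = E g := fun g => rfl
  have hdet : ∀ X : M4 K, (E X).det = X.det := fun X => by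
    show (E₀ ((Q : M4 K) * X * ((Q⁻¹ : GL I4 K) : M4 K))).det = X.det
    rw [Matrix.det_reindexAlgEquiv, Matrix.det_units_conj]
  -- membership of the unitary group
  have hGU : ∀ h : GL (Fin 4) K, h ∈ Cfsg.GU 4 K p ↔
      (h : Matrix (Fin 4) (Fin 4) K)ᵀ * σ.mapMatrix (h : Matrix (Fin 4) (Fin 4) K) = 1 := by
    intro h
    set X := (h : Matrix (Fin 4) (Fin 4) K)
    have key : ∀ u v : Fin 4 → K, Cfsg.hermForm 4 K p (X *ᵥ u) (X *ᵥ v) =
        u ⬝ᵥ ((Xᵀ * σ.mapMatrix X) *ᵥ fun j => σ (v j)) := by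
      intro u v
      rw [← Matrix.mulVec_mulVec, Matrix.dotProduct_mulVec u, Matrix.vecMul_transpose]
      simp only [Cfsg.hermForm, dotProduct, ← CfsgLib.Geo.UTv.frobEquiv_apply hK]
      refine Finset.sum_congr rfl fun a _ => ?_
      congr 1
      simp [Matrix.mulVec, dotProduct, σ, map_sum]
    constructor
    · intro hh
      ext a b
      have := CfsgLib.Geo.UTv.mem_GU.1 hh (Pi.single a 1) (Pi.single b 1)
      rw [key] at this
      have hs : (fun j => σ ((Pi.single b (1 : K) : Fin 4 → K) j)) = Pi.single b 1 := by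
        funext j; by_cases hj : j = b
        · subst hj; simp
        · simp [Pi.single_apply, hj]
      rw [hs, single_dotProduct, one_mul, Matrix.mulVec_single_one] at this
      refine Eq.trans this ?_
      rw [CfsgLib.Unitary.herm_single_left, Matrix.one_apply]
      by_cases hab : a = b
      · subst hab; simp
      · simp [hab, Ne.symm hab, (Fact.out : p.Prime).ne_zero]
    · intro hh
      refine CfsgLib.Geo.UTv.mem_GU.2 fun u v => ?_
      rw [key, hh, Matrix.one_mulVec]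
      simp only [Cfsg.hermForm, dotProduct, ← CfsgLib.Geo.UTv.frobEquiv_apply hK]
      rfl
  have hconv : ∀ g : GL I4 K, e g ∈ Cfsg.GU 4 K p ↔ (g : M4 K)ᵀ * J4 K * σ.mapMatrix (g : M4 K) = J4 K := by
    intro g
    have hσQi : σ.mapMatrix ((Q⁻¹ : GL I4 K) : M4 K) * σ.mapMatrix (Q : M4 K) = 1 := by
      rw [← map_mul, Units.inv_mul, map_one]
    have hT : (((Q⁻¹ : GL I4 K) : M4 K))ᵀ * (Q : M4 K)ᵀ = 1 := by
      rw [← Matrix.transpose_mul, Units.mul_inv, Matrix.transpose_one]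
    rw [hGU, hE]
    rw [show E (g : M4 K) = E₀ ((Q : M4 K) * (g : M4 K) * ((Q⁻¹ : GL I4 K) : M4 K)) from rfl]
    have hE₀σ : ∀ X, σ.mapMatrix (E₀ X) = E₀ (σ.mapMatrix X) := fun X => rfl
    have hE₀t : ∀ X, (E₀ X)ᵀ = E₀ Xᵀ := fun X => rfl
    rw [hE₀σ, hE₀t, ← map_mul, ← map_one E₀, E₀.injective.eq_iff]
    show ((Q : M4 K) * (g : M4 K) * ((Q⁻¹ : GL I4 K) : M4 K))ᵀ *
      σ.mapMatrix ((Q : M4 K) * (g : M4 K) * ((Q⁻¹ : GL I4 K) : M4 K)) = 1 ↔ _
    rw [Matrix.transpose_mul, Matrix.transpose_mul, map_mul, map_mul]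
    have hQ' : (Q : M4 K)ᵀ * σ.mapMatrix (Q : M4 K) = (2 * i) • J4 K := by rw [hQv]; exact hQ
    constructor
    · intro h
      refine smul_right_injective _ h2i ?_
      show (2 * i) • ((g : M4 K)ᵀ * J4 K * σ.mapMatrix (g : M4 K)) = (2 * i) • J4 K
      rw [← smul_mul_assoc, ← mul_smul_comm, ← hQ']
      calc (g : M4 K)ᵀ * ((Q : M4 K)ᵀ * σ.mapMatrix (Q : M4 K)) * σ.mapMatrix (g : M4 K)
          = ((Q : M4 K)ᵀ * ((Q⁻¹ : GL I4 K) : M4 K)ᵀ) * ((g : M4 K)ᵀ * (Q : M4 K)ᵀ) *
            (σ.mapMatrix (Q : M4 K) * σ.mapMatrix (g : M4 K)) *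
            (σ.mapMatrix ((Q⁻¹ : GL I4 K) : M4 K) * σ.mapMatrix (Q : M4 K)) := by
            rw [hσQi, ← Matrix.transpose_mul, Units.inv_mul, Matrix.transpose_one]
            simp only [one_mul, mul_one, mul_assoc]
        _ = (Q : M4 K)ᵀ * (((Q⁻¹ : GL I4 K) : M4 K)ᵀ * ((g : M4 K)ᵀ * (Q : M4 K)ᵀ) *
            (σ.mapMatrix (Q : M4 K) * σ.mapMatrix (g : M4 K) * σ.mapMatrix ((Q⁻¹ : GL I4 K) : M4 K))) *
            σ.mapMatrix (Q : M4 K) := by simp only [mul_assoc]
        _ = (Q : M4 K)ᵀ * σ.mapMatrix (Q : M4 K) := by rw [h, mul_one]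
    · intro h
      calc _ = ((Q⁻¹ : GL I4 K) : M4 K)ᵀ * ((g : M4 K)ᵀ * ((Q : M4 K)ᵀ * σ.mapMatrix (Q : M4 K)) *
            σ.mapMatrix (g : M4 K)) * σ.mapMatrix ((Q⁻¹ : GL I4 K) : M4 K) := by simp only [mul_assoc]
        _ = ((Q⁻¹ : GL I4 K) : M4 K)ᵀ * ((Q : M4 K)ᵀ * σ.mapMatrix (Q : M4 K)) *
            σ.mapMatrix ((Q⁻¹ : GL I4 K) : M4 K) := by
            rw [hQ', mul_smul_comm (2 * i) (g : M4 K)ᵀ, smul_mul_assoc (2 * i) _ (σ.mapMatrix (g : M4 K)), h]
        _ = 1 := by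
            rw [← mul_assoc, hT, one_mul, ← map_mul, Units.mul_inv, map_one]
  have hbar : ∀ a b : M4 F, σ.mapMatrix (ι.mapMatrix a + i • ι.mapMatrix b) = ι.mapMatrix a - i • ι.mapMatrix b := by
    intro a b
    ext x y
    simp [hσι, hσi, sub_eq_add_neg]
  refine isMaximalIn_pull e _ _ ?_
  have himg : (G0 ι hi).map e.toMonoidHom = CfsgLib.Geo.UTv.suGL 4 K p := by
    ext h
    constructor
    · rintro ⟨g, ⟨⟨⟨L, hL⟩, rfl⟩, hg⟩, rfl⟩
      refine ⟨(hconv _).2 ?_, MonoidHom.mem_ker.2 (Units.ext ?_)⟩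
      · rw [phi_val, zmat, hbar, ← phi_bar hi hL]
        have := congrArg Matrix.transpose (phi_form (ι := ι) hi hL)
        simp only [Matrix.transpose_mul, Matrix.transpose_transpose, J4, Matrix.J_transpose, ← mul_assoc, mul_neg,
          neg_mul, neg_inj] at this
        exact this
      · show ((e (phi (ι := ι) hi ⟨L, hL⟩) : GL (Fin 4) K) : Matrix (Fin 4) (Fin 4) K).det = 1
        rw [hE, hdet]
        exact congrArg Units.val (MonoidHom.mem_ker.1 hg)
    · rintro ⟨hh, hh'⟩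
      obtain ⟨g, rfl⟩ := e.surjective h
      have hgd : (g : M4 K).det = 1 := by
        rw [← hdet, ← hE]; exact congrArg Units.val (MonoidHom.mem_ker.1 hh')
      have hc := (hconv g).1 hh
      choose a b hab using fun x y => CfsgLib.Geo.SUFour.exists_coord (p := p) hK h3 hi ((g : M4 K) x y)
      let A : M4 F := Matrix.of fun x y => η (a x y)
      let B : M4 F := Matrix.of fun x y => η (b x y)
      have hg : ι.mapMatrix A + i • ι.mapMatrix B = (g : M4 K) := by
        ext x y; simp [A, B, ι, hab]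
      obtain ⟨L, hL⟩ := exists_lift (ι := ι) hi hS.two A B (by
        rw [hg, ← hbar, hg]
        have := congrArg Matrix.transpose hc
        simp only [Matrix.transpose_mul, Matrix.transpose_transpose, J4, Matrix.J_transpose, ← mul_assoc, mul_neg,
          neg_mul, neg_inj] at this
        exact this)
      exact ⟨g, ⟨⟨L, Units.ext (hL.trans hg)⟩, MonoidHom.mem_ker.2 (Units.ext hgd)⟩, rfl⟩
  rw [himg]
  refine CfsgLib.Geo.SUFour.unitary_pauli_maximal_sym hK h3 (sym_map hS hle hi e E hE) ?_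
  exact (Subgroup.map_mono (RK_le hi hle)).trans (himg.le.trans inf_le_left)

/-- The case needing the quadratic extension. -/
theorem hmax_nonsplit [Fintype F] {p : ℕ} [Fact p.Prime] (hcard : Fintype.card F = p) (h3 : p % 4 = 3)
    (hS : Grp R) (hle : R ≤ Cfsg.spGL 2 F) :
    ∃ (ι : F →+* GaloisField p 2) (i : GaloisField p 2) (hi : i * i = -1),
      Cfsg.Geo.IsMaximalIn (G0 ι hi)
        (Subgroup.normalizer (RK hS ι hi : Set (GL I4 (GaloisField p 2))) ⊓ G0 ι hi) := by
  classical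
  have hK : Nat.card (GaloisField p 2) = p ^ 2 := GaloisField.card p 2 (by norm_num)
  haveI : Fintype (GaloisField p 2) := Fintype.ofFinite _
  haveI : CharP (GaloisField p 2) p := charP_of_injective_algebraMap (algebraMap (ZMod p) _).injective p
  obtain ⟨i, hi'⟩ : IsSquare (-1 : GaloisField p 2) := FiniteField.isSquare_neg_one_iff.2 (by
    rw [← Nat.card_eq_fintype_card, hK, Nat.pow_mod, h3]; norm_num)
  obtain ⟨ι, h⟩ := hmax_unitary hK hcard h3 hS hle hi'.symm
  exact ⟨ι, i, hi'.symm, h⟩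

end CfsgLib.Geo.SpEight
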