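import Cfsg.Agent.Geo.SpEight.Fixer
import Mathlib.GroupTheory.QuotientGroup.Basic
import Mathlib.Algebra.Module.ZMod
import Mathlib.FieldTheory.Finiteness
import Mathlib.Tactic

/-!
The fixer condition for an elementary abelian group of order 64 carrying a quadratic form of minus type.
-/

set_option autoImplicit false
set_option linter.unusedSectionVars false
set_option linter.style.haveILetI false

namespace CfsgLib.Geo.SpEight

variable {M : Type*} [Group M]

/-- No subgroup of isometries has one common fixed space of its own size. -/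
theorem fixer_of_form {H V : Subgroup M} (hnorm : ∀ h ∈ H, ∀ v ∈ V, h * v * h⁻¹ ∈ V)
    (hcomm : ∀ v ∈ V, ∀ w ∈ V, v * w = w * v) (hinvol : ∀ v ∈ V, v * v = 1) (hcard : Nat.card V = 64)
    (hself : ∀ h ∈ H, (∀ v ∈ V, h * v = v * h) → h ∈ V)
    (Q : M → ZMod 2) (B : M → M → ZMod 2) (hQB : ∀ v ∈ V, ∀ w ∈ V, Q (v * w) = Q v + Q w + B v w)
    (hBl : ∀ u ∈ V, ∀ v ∈ V, ∀ w ∈ V, B (u * v) w = B u w + B v w)
    (hBr : ∀ u ∈ V, ∀ v ∈ V, ∀ w ∈ V, B u (v * w) = B u v + B u w)
    (hBs : ∀ v ∈ V, B v v = 0) (hnd : ∀ v ∈ V, (∀ w ∈ V, B v w = 0) → v = 1)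
    (hQinv : ∀ h ∈ H, ∀ v ∈ V, Q (h * v * h⁻¹) = Q v)
    (hminus : ∀ A : Subgroup M, A ≤ V → (∀ a ∈ A, Q a = 0) → Nat.card A < 8)
    (W E : Subgroup M) (hWV : W ≤ V) (hEH : E ≤ H) (hW : W ≠ ⊥) (hEW : Nat.card E = Nat.card W)
    (hEV : ∀ e ∈ E, e ∈ V → e = 1) (hE2 : ∀ e ∈ E, e * e = 1)
    (hfix : ∀ e ∈ E, e ≠ 1 → ∀ v ∈ V, (e * v = v * e ↔ v ∈ W)) : False := by
  classical
  letI : CommGroup V := { (inferInstance : Group V) with mul_comm := fun a b => Subtype.ext (hcomm a a.2 b b.2) }
  letI : Module (ZMod 2) (Additive V) := AddCommGroup.zmodModule fun a => by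
    rw [two_nsmul]; exact congrArg Additive.ofMul (Subtype.ext (hinvol _ (Additive.toMul a).2) : _ = (1 : V))
  haveI : Finite V := Nat.finite_of_card_ne_zero (by rw [hcard]; norm_num)
  haveI : Finite (Additive V) := Finite.of_equiv V Additive.ofMul
  haveI : Module.Finite (ZMod 2) (Additive V) := Module.Finite.of_finite
  let val : Additive V → M := fun a => ((Additive.toMul a : V) : M)
  have hval : ∀ a, val a ∈ V := fun a => (Additive.toMul a).2
  have hvadd : ∀ a b, val (a + b) = val a * val b := fun a b => rfl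
  have hvinj : Function.Injective val := fun a b h => Additive.toMul.injective (Subtype.ext h)
  have hQ0 : Q 1 = 0 := by
    have := hQB 1 V.one_mem 1 V.one_mem
    rw [one_mul, hBs 1 V.one_mem] at this
    linear_combination -this
  have hBlz : ∀ v ∈ V, B 1 v = 0 := fun v hv => by
    have := hBl 1 V.one_mem 1 V.one_mem v hv
    rw [one_mul] at this
    linear_combination -this
  have hBrz : ∀ v ∈ V, B v 1 = 0 := fun v hv => by
    have := hBr v hv 1 V.one_mem 1 V.one_mem
    rw [one_mul] at this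
    linear_combination -this
  let Bl : LinearMap.BilinForm (ZMod 2) (Additive V) :=
    LinearMap.mk₂ (ZMod 2) (fun a b => B (val a) (val b))
      (fun a a' b => hBl _ (hval a) _ (hval a') _ (hval b))
      (fun c a b => by
        rcases zmod_two_eq c with rfl | rfl
        · rw [zero_smul, smul_eq_mul, zero_mul]; exact hBlz _ (hval b)
        · rw [one_smul, one_smul])
      (fun a b b' => hBr _ (hval a) _ (hval b) _ (hval b'))
      (fun c a b => by
        rcases zmod_two_eq c with rfl | rfl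
        · rw [zero_smul, smul_eq_mul, zero_mul]; exact hBrz _ (hval a)
        · rw [one_smul, one_smul])
  have halt : Bl.IsAlt := fun a => hBs _ (hval a)
  have hndl : ∀ a, (∀ b, Bl a b = 0) → a = 0 := fun a h =>
    hvinj (hnd _ (hval a) fun w hw => h (Additive.ofMul (⟨w, hw⟩ : V)))
  have hBl' : Bl.Nondegenerate := ⟨hndl, fun a h => hndl a fun b => by
    rw [← LinearMap.IsAlt.neg halt, h b, neg_zero]⟩
  have hd : Module.finrank (ZMod 2) (Additive V) = 6 := by
    have h := Module.natCard_eq_pow_finrank (K := ZMod 2) (V := Additive V)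
    rw [Nat.card_congr Additive.toMul, hcard, Nat.card_zmod] at h
    exact (Nat.pow_right_injective (le_refl 2) (h.symm.trans (by norm_num : (64 : ℕ) = 2 ^ 6)))
  -- the fixed space
  let Ws : Submodule (ZMod 2) (Additive V) :=
    { carrier := {a | val a ∈ W}
      zero_mem' := W.one_mem
      add_mem' := fun ha hb => W.mul_mem ha hb
      smul_mem' := fun c a ha => by
        rcases zmod_two_eq c with rfl | rfl
        · rw [zero_smul]; exact W.one_mem
        · rw [one_smul]; exact ha }
  have hWcard : Nat.card Ws = Nat.card W :=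
    Nat.card_congr
      { toFun := fun a => ⟨val a.1, a.2⟩
        invFun := fun w => ⟨Additive.ofMul (⟨w, hWV w.2⟩ : V), w.2⟩
        left_inv := fun a => rfl
        right_inv := fun w => rfl }
  have hWs : Ws ≠ ⊥ := by
    obtain ⟨w, hw⟩ := Subgroup.ne_bot_iff_exists_ne_one.1 hW
    intro e
    refine hw (Subtype.ext ?_)
    have : (Additive.ofMul (⟨w, hWV w.2⟩ : V)) ∈ (⊥ : Submodule (ZMod 2) (Additive V)) := e ▸ (w.2 : _ ∈ Ws)
    exact congrArg val ((Submodule.mem_bot _).1 this)
  -- the maps `v ↦ [e, v]`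
  have hS : ∀ e : E, ∀ v ∈ V, (e : M) * v * (e : M)⁻¹ * v ∈ W := fun e v hv => by
    rcases eq_or_ne (e : M) 1 with h | h
    · rw [h, one_mul, inv_one, mul_one, hinvol v hv]; exact W.one_mem
    have he := hEH e.2
    have hc := hnorm _ he v hv
    refine (hfix e e.2 h _ (V.mul_mem hc hv)).1 ?_
    have hi : (e : M)⁻¹ = e := inv_eq_of_mul_eq_one_right (hE2 e e.2)
    calc (e : M) * ((e : M) * v * (e : M)⁻¹ * v) = ((e : M) * (e : M)) * (v * ((e : M)⁻¹ * v)) := by group
      _ = v * ((e : M) * v) := by rw [hE2 e e.2, one_mul, hi]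
      _ = v * ((e : M) * v * (e : M)⁻¹) * e := by group
      _ = (e : M) * v * (e : M)⁻¹ * v * e := by rw [hcomm v hv _ hc]
  let S : E → (Additive V →ₗ[ZMod 2] Additive V) := fun e =>
    { toFun := fun a => Additive.ofMul (⟨(e : M) * val a * (e : M)⁻¹ * val a, hWV (hS e _ (hval a))⟩ : V)
      map_add' := fun a b => hvinj (by
        show (e : M) * (val a * val b) * (e : M)⁻¹ * (val a * val b) =
          (e : M) * val a * (e : M)⁻¹ * val a * ((e : M) * val b * (e : M)⁻¹ * val b)
        rw [show (e : M) * (val a * val b) * (e : M)⁻¹ = (e : M) * val a * (e : M)⁻¹ * ((e : M) * val b * (e : M)⁻¹) by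
          group]
        have hb := hnorm _ (hEH e.2) _ (hval b)
        rw [mul_assoc, ← mul_assoc _ (val a) (val b), hcomm _ hb _ (hval a)]
        simp only [mul_assoc])
      map_smul' := fun c a => by
        rcases zmod_two_eq c with rfl | rfl
        · refine hvinj ?_
          show (e : M) * val ((0 : ZMod 2) • a) * (e : M)⁻¹ * val ((0 : ZMod 2) • a) = _
          rw [RingHom.id_apply, zero_smul, zero_smul]
          show (e : M) * (1 : M) * (e : M)⁻¹ * 1 = 1
          group
        · simp [one_smul] }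
  have hSval : ∀ e a, val (S e a) = (e : M) * val a * (e : M)⁻¹ * val a := fun e a => rfl
  have hS1 : S 1 = 0 := LinearMap.ext fun a => hvinj (by
    rw [hSval, Subgroup.coe_one, one_mul, inv_one, mul_one, hinvol _ (hval a)]; rfl)
  have hadd : ∀ e f, S (e * f) = S e + S f := by
    intro e f
    refine LinearMap.ext fun a => hvinj ?_
    rw [LinearMap.add_apply, hvadd, hSval, hSval, hSval, Subgroup.coe_mul]
    set v := val a with hv
    have hv' : v ∈ V := hval a
    -- the commutator of one is fixed by the other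
    obtain ⟨w, hw⟩ : ∃ w, w = (f : M) * v * (f : M)⁻¹ * v := ⟨_, rfl⟩
    have hwW : w ∈ W := hw ▸ hS f v hv'
    have hew : (e : M) * w * (e : M)⁻¹ = w := by
      rcases eq_or_ne (e : M) 1 with h | h
      · rw [h]; group
      · rw [(hfix e e.2 h w (hWV hwW)).2 hwW, mul_inv_cancel_right]
    have hfv : (f : M) * v * (f : M)⁻¹ = w * v := by rw [hw, mul_assoc ((f : M) * v * (f : M)⁻¹), hinvol v hv', mul_one]
    calc (e : M) * f * v * ((e : M) * f)⁻¹ * v = (e : M) * ((f : M) * v * (f : M)⁻¹) * (e : M)⁻¹ * v := by group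
      _ = ((e : M) * w * (e : M)⁻¹) * ((e : M) * v * (e : M)⁻¹ * v) := by rw [hfv]; group
      _ = w * ((e : M) * v * (e : M)⁻¹ * v) := by rw [hew]
      _ = _ := by rw [hcomm w (hWV hwW) _ (hWV (hS e v hv')), hw]
  have hinj : Function.Injective S := by
    intro e f h
    have he2 : S (e * f) = 0 := by
      rw [hadd, h, ← hadd, show f * f = 1 from Subtype.ext (hE2 f f.2), hS1]
    have hef : (e : M) * f = 1 := hEV _ (E.mul_mem e.2 f.2) (hself _ (H.mul_mem (hEH e.2) (hEH f.2)) fun v hv => by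
      have := congrArg val (LinearMap.congr_fun he2 (Additive.ofMul (⟨v, hv⟩ : V)))
      rw [hSval] at this
      have h1 : (e : M) * f * v * ((e : M) * f)⁻¹ * v = 1 := this
      calc (e : M) * f * v = ((e : M) * f * v * ((e : M) * f)⁻¹ * v) * (v⁻¹ * ((e : M) * f)) := by group
        _ = v * ((e : M) * f) := by rw [h1, one_mul, inv_eq_of_mul_eq_one_right (hinvol v hv)])
    refine Subtype.ext ?_
    rw [eq_inv_of_mul_eq_one_left hef, inv_eq_of_mul_eq_one_right (hE2 f f.2)]
  let Es : Submodule (ZMod 2) (Additive V →ₗ[ZMod 2] Additive V) :=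
    { carrier := Set.range S
      zero_mem' := ⟨1, hS1⟩
      add_mem' := by rintro _ _ ⟨e, rfl⟩ ⟨f, rfl⟩; exact ⟨e * f, hadd e f⟩
      smul_mem' := by
        rintro c _ ⟨e, rfl⟩
        rcases zmod_two_eq c with rfl | rfl
        · exact ⟨1, by rw [hS1, zero_smul]⟩
        · exact ⟨e, by rw [one_smul]⟩ }
  have hEs : Nat.card Es = Nat.card E := (Nat.card_range_of_injective hinj)
  have hdim : Module.finrank (ZMod 2) Es = Module.finrank (ZMod 2) Ws := by
    refine Nat.pow_right_injective (le_refl 2) ?_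
    have h1 := Module.natCard_eq_pow_finrank (K := ZMod 2) (V := Es)
    have h2 := Module.natCard_eq_pow_finrank (K := ZMod 2) (V := Ws)
    rw [Nat.card_zmod, hEs, hEW, ← hWcard, h2, Nat.card_zmod] at h1
    exact h1.symm
  have hker : ∀ T ∈ Es, T ≠ 0 → LinearMap.ker T = Ws := by
    rintro _ ⟨e, rfl⟩ hT
    have he1 : (e : M) ≠ 1 := fun h => hT (by rw [show e = 1 from Subtype.ext h, hS1])
    refine Submodule.ext fun a => ?_
    rw [LinearMap.mem_ker]
    show S e a = 0 ↔ val a ∈ W
    rw [← hfix e e.2 he1 _ (hval a)]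
    constructor
    · intro h
      have h' : (e : M) * val a * (e : M)⁻¹ * val a = 1 := congrArg val h
      calc (e : M) * val a = ((e : M) * val a * (e : M)⁻¹ * val a) * ((val a)⁻¹ * e) := by group
        _ = val a * e := by rw [h', one_mul, inv_eq_of_mul_eq_one_right (hinvol _ (hval a))]
    · intro h
      refine hvinj ?_
      rw [hSval, h, mul_inv_cancel_right, hinvol _ (hval a)]
      rfl
  refine no_fixer hd Bl hBl' halt (fun a => Q (val a)) (fun a b => hQB _ (hval a) _ (hval b)) ?_ Ws hWs Es hdim hker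
    (fun T hT a => ?_) fun T hT a => ?_
  · intro U hU
    let A : Subgroup M :=
      { carrier := {m | ∃ a ∈ U, val a = m}
        one_mem' := ⟨0, U.zero_mem, rfl⟩
        mul_mem' := by rintro _ _ ⟨a, ha, rfl⟩ ⟨b, hb, rfl⟩; exact ⟨a + b, U.add_mem ha hb, rfl⟩
        inv_mem' := by rintro _ ⟨a, ha, rfl⟩; exact ⟨-a, U.neg_mem ha, rfl⟩ }
    have h8 := hminus A (by rintro _ ⟨a, -, rfl⟩; exact hval a) (by rintro _ ⟨a, ha, rfl⟩; exact hU a ha)
    have hAU : Nat.card A = Nat.card U :=
      (Nat.card_congr (Equiv.ofBijective (fun a : U => (⟨val a.1, a.1, a.2, rfl⟩ : A))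
        ⟨fun a b h => Subtype.ext (hvinj (congrArg (fun x : A => (x : M)) h)),
          fun ⟨_, a, ha, rfl⟩ => ⟨⟨a, ha⟩, rfl⟩⟩)).symm
    rw [hAU, Module.natCard_eq_pow_finrank (K := ZMod 2) (V := U), Nat.card_zmod] at h8
    exact (Nat.pow_lt_pow_iff_right (by norm_num : 1 < 2)).1 (h8.trans_eq (by norm_num : (8 : ℕ) = 2 ^ 3))
  · obtain ⟨e, rfl⟩ := hT
    rcases eq_or_ne (e : M) 1 with h | h
    · rw [show e = 1 from Subtype.ext h, hS1]; rfl
    have hk : S e a ∈ Ws := hS e _ (hval a)
    rw [← hker _ ⟨e, rfl⟩ (fun h0 => h (congrArg Subtype.val (hinj (h0.trans hS1.symm))))] at hk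
    exact LinearMap.mem_ker.1 hk
  · obtain ⟨e, rfl⟩ := hT
    show Q (val (a + S e a)) = Q (val a)
    rw [hvadd, hSval, hcomm _ (hval a) _ (hWV (hS e _ (hval a))), mul_assoc, hinvol _ (hval a), mul_one]
    exact hQinv _ (hEH e.2) _ (hval a)

end CfsgLib.Geo.SpEight
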