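import Cfsg.Agent.Geo.SpEight.Fusion
import Cfsg.Agent.Geo.SpEight.FixerGroup
import Cfsg.Agent.Geo.SpEight.Cases
import Cfsg.Agent.Geo.SpEight.Frame
import Cfsg.Agent.Geo.SpFourOdd.Pauli
import Cfsg.Agent.Geo.SubfieldOvergroup

/-!
The normaliser of a symplectic-type group of order 128 and minus type is maximal in the symplectic group of
dimension eight over a prime field.
-/

set_option autoImplicit false
set_option linter.unusedSectionVars false
set_option linter.unusedSimpArgs false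
set_option linter.style.haveILetI false
set_option maxHeartbeats 800000

namespace CfsgLib.Geo.SpEight

open Matrix Cfsg.Geo CfsgLib.Elusive.PauliMinus

variable {F : Type*} [Field F]

/-- A preimage under a homomorphism with kernel of order two is twice as large. -/
theorem card_comap_two {A B : Type*} [Group A] [Group B] (χ : A →* B) (hker : Nat.card χ.ker = 2)
    {S : Subgroup B} (hS : S ≤ χ.range) : Nat.card (S.comap χ) = 2 * Nat.card S := by
  let ψ : S.comap χ →* S := (χ.comp (S.comap χ).subtype).codRestrict S fun a => a.2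
  have hsurj : Function.Surjective ψ := fun ⟨b, hb⟩ => by
    obtain ⟨a, ha⟩ := hS hb
    exact ⟨⟨a, by show χ a ∈ S; rw [ha]; exact hb⟩, Subtype.ext ha⟩
  have hk : Nat.card ψ.ker = 2 := by
    rw [← hker]
    refine Nat.card_congr
      { toFun := fun a => ⟨(a.1 : A), congrArg Subtype.val (MonoidHom.mem_ker.1 a.2)⟩
        invFun := fun a => ⟨⟨a.1, ?_⟩, MonoidHom.mem_ker.2 (Subtype.ext (MonoidHom.mem_ker.1 a.2))⟩
        left_inv := fun a => rfl
        right_inv := fun a => rfl }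
    show χ a.1 ∈ S
    rw [MonoidHom.mem_ker.1 a.2]; exact S.one_mem
  rw [Subgroup.card_eq_card_quotient_mul_card_subgroup ψ.ker, hk,
    Nat.card_congr (QuotientGroup.quotientKerEquivOfSurjective ψ hsurj).toEquiv, mul_comm]

/-- The sign of a central square or commutator. -/
noncomputable def sg (a : GL I8 F) : ZMod 2 := by
  classical exact if a = 1 then 0 else 1

theorem sg_one : sg (1 : GL I8 F) = 0 := by simp [sg]

theorem neg_one_ne8 (h2 : (2 : F) ≠ 0) : (-1 : GL I8 F) ≠ 1 := fun e => by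
  have h := congrArg (fun m : GL I8 F => (m : M8 F) (Sum.inl 0) (Sum.inl 0)) e
  simp at h
  exact h2 (by linear_combination -h)

theorem sg_mul (h2 : (2 : F) ≠ 0) {a b : GL I8 F} (ha : a = 1 ∨ a = -1) (hb : b = 1 ∨ b = -1) :
    sg (a * b) = sg a + sg b := by
  have hne : (-1 : GL I8 F) ≠ 1 := neg_one_ne8 h2
  rcases ha with rfl | rfl <;> rcases hb with rfl | rfl <;> simp [sg, hne, CharTwo.add_self_eq_zero]

variable [Fintype F] {R : Subgroup (GL I4 F)}

/-- The core statement, in normal form. -/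
theorem nm_maximal {p : ℕ} (hp : p.Prime) (hcard : Fintype.card F = p) (hS : Grp R) (hle : R ≤ Cfsg.spGL 2 F)
    (hc : Nat.card (dbl hS) = 128) (hminus : IsOfMinusType 3 (dbl hS)) :
    IsMaximalIn (Cfsg.spGL 4 F) (Nm hS) := by
  classical
  haveI : Fact p.Prime := ⟨hp⟩
  have h2 := hS.two
  have hN4 : IsMaximalIn (Cfsg.spGL 2 F) (N4 R) := CfsgLib.Geo.SpFourOdd.pauli_maximal_of_grp hp hcard hle hS
  obtain ⟨e, hE⟩ := exists_five hS
  refine ⟨lt_of_le_of_ne (Nm_le hS) fun heq => ?_, fun M hHM hMs => ?_⟩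
  · obtain ⟨a, ha, haN⟩ := SetLike.exists_of_lt hN4.1
    refine haN ⟨mem_normalizer_of hS hE a fun j => ?_, ha⟩
    obtain ⟨s, hs, hse⟩ := hE.mem j
    have hg : dg (a, 1) ∈ Nm hS := heq.ge (dg_mem_iff.2 ⟨ha, Subgroup.one_mem _⟩)
    have hD : InD R ((dg (a, 1) * dg (s, s) * (dg (a, 1))⁻¹ : GL I8 F) : M8 F) :=
      Nm_conj hS hg (InD.diag ⟨s, hs, rfl⟩)
    rw [← map_inv, ← map_mul, ← map_mul, dg_val] at hD
    obtain ⟨t, ⟨t', ht', rfl⟩, hp' | hp' | hp' | hp'⟩ := hD <;> obtain ⟨h1, -, -, -⟩ := blk_inj.1 hp'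
    · refine ⟨_, ⟨t', ht', rfl⟩, ?_⟩
      rw [← hse, ← Units.val_mul, ← Units.val_mul, ← Units.ext h1]; simp [mul_assoc]
    · refine ⟨_, ⟨t', ht', rfl⟩, ?_⟩
      rw [← hse, ← Units.val_mul, ← Units.val_mul, ← Units.ext h1]; simp [mul_assoc]
    · exact absurd h1 (Units.ne_zero _)
    · exact absurd h1 (Units.ne_zero _)
  by_cases hfull : Cfsg.spGL 4 F ≤ M
  · exact Or.inr (le_antisymm hMs hfull)
  left
  have hO : Over hS M := ⟨hle, hN4, hHM, hMs, hfull⟩
  have hdM : dbl hS ≤ M := (dbl_le_Nm hS hle).trans hHM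
  -- the centraliser of the element of square minus one
  have hu0 : ∀ g ∈ M, g * u0 = u0 * g ∨ g * u0 = -(u0 * g) → g ∈ Nm hS := by
    intro g hg h
    by_cases h1 : IsSquare (-1 : F)
    · have h4 : p % 4 = 1 := by
        have hne3 := FiniteField.isSquare_neg_one_iff.1 h1
        have hodd : Fintype.card F % 2 = 1 := FiniteField.odd_card_of_char_ne_two fun e => h2 (by
          have := CharP.cast_eq_zero F (ringChar F)
          rw [e] at this
          exact_mod_cast this)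
        rw [hcard] at hne3 hodd
        omega
      obtain ⟨i, hi⟩ := h1
      exact hO.mem_of_comm_u0 hi.symm (hmax_split hp hcard h4 hS hle hi.symm) hg h
    · rw [FiniteField.isSquare_neg_one_iff, not_not, hcard] at h1
      obtain ⟨ι, i, hi, hmax⟩ := hmax_nonsplit hcard h1 hS hle
      haveI : Finite (GaloisField p 2) := inferInstance
      exact hO.mem_of_comm_u0 hi hmax hg h
  have hneg : ∀ (a : GL I8 F), -a = -1 * a := fun a => (neg_one_mul a).symm
  -- moving noncentral elements to the two standard ones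
  have hmove : ∀ X ∈ dbl hS, X ≠ 1 → X ≠ -1 →
      ∃ h ∈ Nm hS, (X * X = 1 ∧ h * X = x0 * h) ∨ (X * X = -1 ∧ h * X = u0 * h) := by
    intro X hX h1 h1'
    rcases InD.sq hS hX with q | q
    · obtain ⟨h, hh, he⟩ := good_of_sq hS hle hX q (fun e => h1 (Units.ext e))
        (fun e => h1' (Units.ext (by simpa using e)))
      exact ⟨h, hh, Or.inl ⟨Units.ext q, Units.ext (by rw [Units.val_mul, Units.val_mul]; exact he)⟩⟩
    · obtain ⟨h, hh, he⟩ := move_u0 hS hle hX q
      exact ⟨h, hh, Or.inr ⟨Units.ext (by simpa using q), Units.ext (by rw [Units.val_mul, Units.val_mul]; exact he)⟩⟩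
  have hcent : ∀ g ∈ M, ∀ X ∈ dbl hS, X ≠ 1 → X ≠ -1 → g * X = X * g ∨ g * X = -(X * g) → g ∈ Nm hS := by
    intro g hg X hX h1 h1' hgX
    obtain ⟨h, hh, hcase⟩ := hmove X hX h1 h1'
    have key : ∀ z : GL I8 F, h * X = z * h →
        h * g * h⁻¹ * z = z * (h * g * h⁻¹) ∨ h * g * h⁻¹ * z = -(z * (h * g * h⁻¹)) := by
      intro z hz
      have hz' : z = h * X * h⁻¹ := by rw [hz]; group
      rw [hz', show h * g * h⁻¹ * (h * X * h⁻¹) = h * (g * X) * h⁻¹ by group,
        show h * X * h⁻¹ * (h * g * h⁻¹) = h * (X * g) * h⁻¹ by group]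
      rcases hgX with q | q <;> rw [q]
      · exact Or.inl rfl
      · exact Or.inr (by simp)
    have hmem : h * g * h⁻¹ ∈ M := M.mul_mem (M.mul_mem (hHM hh) hg) (M.inv_mem (hHM hh))
    have hN : h * g * h⁻¹ ∈ Nm hS := by
      rcases hcase with ⟨-, he⟩ | ⟨-, he⟩
      · exact hO.mem_of_comm_x0 hmem (key _ he)
      · exact hu0 _ hmem (key _ he)
    have := Subgroup.mul_mem _ (Subgroup.mul_mem _ (Subgroup.inv_mem _ hh) hN) hh
    rwa [show h⁻¹ * (h * g * h⁻¹) * h = g by group] at this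
  -- the quotient by the centre
  have hnegM : (-1 : GL I8 F) ∈ M := hdM (neg_mem_dbl hS (dbl hS).one_mem)
  let N : Subgroup M := Subgroup.zpowers ⟨-1, hnegM⟩
  haveI : N.Normal := ⟨fun n hn g => by
    obtain ⟨k, rfl⟩ := hn
    have hc : Commute g (⟨-1, hnegM⟩ : M) := Subtype.ext (show (g : GL I8 F) * -1 = -1 * g by simp)
    show g * (⟨-1, hnegM⟩ : M) ^ k * g⁻¹ ∈ N
    rw [(hc.zpow_right k).eq, mul_inv_cancel_right]
    exact Subgroup.zpow_mem _ (Subgroup.mem_zpowers _) k⟩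
  have hN : ∀ n : M, n ∈ N ↔ (n : GL I8 F) = 1 ∨ (n : GL I8 F) = -1 := by
    intro n
    constructor
    · rintro ⟨k, rfl⟩
      show ((⟨-1, hnegM⟩ : M) ^ k : M).1 = 1 ∨ ((⟨-1, hnegM⟩ : M) ^ k : M).1 = -1
      rw [Subgroup.coe_zpow]
      rcases Int.even_or_odd k with ⟨l, rfl⟩ | ⟨l, rfl⟩
      · left; rw [_root_.zpow_add, ← (Commute.refl _).mul_zpow]; simp
      · right; rw [_root_.zpow_add_one, two_mul, _root_.zpow_add, ← (Commute.refl _).mul_zpow]; simp
    · rintro (h | h)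
      · rw [show n = 1 from Subtype.ext h]; exact N.one_mem
      · rw [show n = ⟨-1, hnegM⟩ from Subtype.ext h]; exact Subgroup.mem_zpowers _
  set π := QuotientGroup.mk' N with hπdef
  have hπ : ∀ a b : M, π a = π b ↔ (b : GL I8 F) = a ∨ (b : GL I8 F) = -a := by
    intro a b
    rw [QuotientGroup.mk'_eq_mk']
    constructor
    · rintro ⟨z, hz, rfl⟩
      rcases (hN z).1 hz with q | q
      · left; rw [Subgroup.coe_mul, q, mul_one]
      · right; rw [Subgroup.coe_mul, q, mul_neg, mul_one]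
    · rintro (q | q)
      · exact ⟨1, N.one_mem, Subtype.ext (by rw [Subgroup.coe_mul, q, Subgroup.coe_one, mul_one])⟩
      · exact ⟨⟨-1, hnegM⟩, Subgroup.mem_zpowers _, Subtype.ext (by
          rw [Subgroup.coe_mul, q]; show (a : GL I8 F) * -1 = _; rw [mul_neg, mul_one])⟩
  let Hb := ((Nm hS).subgroupOf M).map π
  let V := ((dbl hS).subgroupOf M).map π
  have hHb : ∀ g : M, π g ∈ Hb ↔ (g : GL I8 F) ∈ Nm hS := fun g => by
    refine ⟨fun ⟨h, hh, he⟩ => ?_, fun h => ⟨g, h, rfl⟩⟩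
    rcases (hπ h g).1 he with q | q <;> rw [q]
    · exact hh
    · rw [hneg]; exact Subgroup.mul_mem _ (dbl_le_Nm hS hle (neg_mem_dbl hS (dbl hS).one_mem)) hh
  have hV : ∀ g : M, π g ∈ V ↔ (g : GL I8 F) ∈ dbl hS := fun g => by
    refine ⟨fun ⟨h, hh, he⟩ => ?_, fun h => ⟨g, h, rfl⟩⟩
    rcases (hπ h g).1 he with q | q <;> rw [q]
    · exact hh
    · exact neg_mem_dbl hS hh
  have hsurj : ∀ x : M ⧸ N, ∃ a : M, π a = x := QuotientGroup.mk'_surjective N
  have hscal : ∀ g : M, π g = 1 ↔ (g : GL I8 F) = 1 ∨ (g : GL I8 F) = -1 := fun g => by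
    rw [← hN g]; exact QuotientGroup.eq_one_iff g
  have hne : ∀ g : M, π g ≠ 1 → (g : GL I8 F) ≠ 1 ∧ (g : GL I8 F) ≠ -1 := fun g h =>
    ⟨fun q => h ((hscal g).2 (Or.inl q)), fun q => h ((hscal g).2 (Or.inr q))⟩
  have hsq : ∀ a : M, (a : GL I8 F) ∈ dbl hS → (a : GL I8 F) * a = 1 ∨ (a : GL I8 F) * a = -1 := fun a ha => by
    rcases InD.sq hS ha with q | q
    · exact Or.inl (Units.ext q)
    · exact Or.inr (Units.ext (by simpa using q))
  have hcm : ∀ a b : M, (a : GL I8 F) ∈ dbl hS → (b : GL I8 F) ∈ dbl hS →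
      (a : GL I8 F) * b * (a : GL I8 F)⁻¹ * (b : GL I8 F)⁻¹ = 1 ∨
        (a : GL I8 F) * b * (a : GL I8 F)⁻¹ * (b : GL I8 F)⁻¹ = -1 := fun a b ha hb => by
    rcases InD.comm hS ha hb with q | q
    · left
      rw [show (a : GL I8 F) * b = b * a from Units.ext q]; group
    · right
      rw [show (a : GL I8 F) * b = -((b : GL I8 F) * a) from Units.ext (by simpa using q)]; simp [mul_assoc]
  have hVcomm : ∀ v ∈ V, ∀ w ∈ V, v * w = w * v := by
    rintro _ ⟨a, ha, rfl⟩ _ ⟨b, hb, rfl⟩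
    rw [← map_mul, ← map_mul, hπ]
    rcases InD.comm hS hb ha with q | q
    · exact Or.inl (Units.ext q)
    · exact Or.inr (Units.ext (by simpa using q))
  have hinvol : ∀ v ∈ V, v * v = 1 := by
    rintro _ ⟨a, ha, rfl⟩
    rw [← map_mul, hscal]; exact hsq a ha
  have hnormal : ∀ h ∈ Hb, ∀ v ∈ V, h * v * h⁻¹ ∈ V := by
    rintro _ ⟨h, hh, rfl⟩ _ ⟨a, ha, rfl⟩
    rw [← map_inv, ← map_mul, ← map_mul, hV]
    exact Nm_conj hS hh ha
  have hself : ∀ h ∈ Hb, (∀ v ∈ V, h * v = v * h) → h ∈ V := by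
    rintro _ ⟨h, hh, rfl⟩ hcv
    rw [hV]
    refine mem_dbl_of_pm hS hle (Nm_le hS hh) fun a ha => ?_
    have := hcv (π ⟨a, hdM ha⟩) ((hV _).2 ha)
    rw [← map_mul, ← map_mul, hπ] at this
    rcases this with q | q
    · exact Or.inl q.symm
    · exact Or.inr (neg_eq_iff_eq_neg.1 q.symm)
  have hcard64 : Nat.card V = 64 := by
    let χ : dbl hS →* M ⧸ N := π.comp (Subgroup.inclusion hdM)
    have hker : Nat.card χ.ker = 2 := by
      rw [Nat.card_eq_two_iff]
      refine ⟨⟨1, χ.ker.one_mem⟩, ⟨⟨-1, neg_mem_dbl hS (dbl hS).one_mem⟩, (hscal _).2 (Or.inr rfl)⟩, ?_, ?_⟩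
      · intro q
        have := congrArg (fun z : χ.ker => ((z : dbl hS) : GL I8 F)) q
        simp at this
        exact neg_one_ne8 h2 this.symm
      · refine Set.eq_univ_iff_forall.2 fun z => ?_
        rcases (hscal _).1 z.2 with q | q
        · exact Or.inl (Subtype.ext (Subtype.ext q))
        · exact Or.inr (Subtype.ext (Subtype.ext q))
    have hr : V ≤ χ.range := by
      rintro _ ⟨a, ha, rfl⟩
      exact ⟨⟨a, ha⟩, rfl⟩
    have h := card_comap_two χ hker hr
    rw [show V.comap χ = ⊤ from eq_top_iff.2 fun a _ => (hV _).2 a.2, Subgroup.card_top, hc] at h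
    omega
  -- the quadratic form
  let rp : M ⧸ N → M := Function.surjInv (QuotientGroup.mk'_surjective N)
  have hrp : ∀ a : M, (rp (π a) : GL I8 F) = a ∨ (rp (π a) : GL I8 F) = -a := fun a =>
    (hπ a _).1 (Function.surjInv_eq (QuotientGroup.mk'_surjective N) (π a)).symm
  let Q : M ⧸ N → ZMod 2 := fun x => sg ((rp x : GL I8 F) * (rp x : GL I8 F))
  let B : M ⧸ N → M ⧸ N → ZMod 2 := fun x y =>
    sg ((rp x : GL I8 F) * (rp y : GL I8 F) * (rp x : GL I8 F)⁻¹ * (rp y : GL I8 F)⁻¹)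
  have hQv : ∀ a : M, Q (π a) = sg ((a : GL I8 F) * (a : GL I8 F)) := fun a => by
    show sg _ = _
    rcases hrp a with q | q <;> rw [q]
    simp
  have hBv : ∀ a b : M, B (π a) (π b) = sg ((a : GL I8 F) * (b : GL I8 F) * (a : GL I8 F)⁻¹ * (b : GL I8 F)⁻¹) := fun a b => by
    show sg _ = _
    rcases hrp a with q | q <;> rcases hrp b with q' | q' <;> rw [q, q'] <;> simp
  have hfix : ∀ W E : Subgroup (M ⧸ N), W ≤ V → E ≤ Hb → W ≠ ⊥ → Nat.card E = Nat.card W →
      (∀ e ∈ E, e ∈ V → e = 1) → (∀ e ∈ E, e * e = 1) → (∀ e ∈ E, ∀ f ∈ E, e * f = f * e) →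
      (∀ e ∈ E, e ≠ 1 → ∀ v ∈ V, (e * v = v * e ↔ v ∈ W)) → False := by
    intro W E hWV hEH hW hEW hEV hE2 _ hEfix
    refine fixer_of_form hnormal hVcomm hinvol hcard64 hself Q B ?_ ?_ ?_ ?_ ?_ ?_ ?_ W E hWV hEH hW hEW hEV hE2
      hEfix
    · rintro _ ⟨a, ha, rfl⟩ _ ⟨b, hb, rfl⟩
      rw [← map_mul, hQv, hQv, hQv, hBv, Subgroup.coe_mul]
      have hc := hcm a b ha hb
      rw [← sg_mul h2 (hsq a ha) (hsq b hb), ← sg_mul h2 _ hc]
      · congr 1
        set c := (a : GL I8 F) * (b : GL I8 F) * (a : GL I8 F)⁻¹ * (b : GL I8 F)⁻¹ with hcdef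
        have hab : (a : GL I8 F) * (b : GL I8 F) = c * (b * a) := by rw [hcdef]; group
        calc (a : GL I8 F) * (b : GL I8 F) * (a * b) = c * (b * a) * (a * b) := by rw [← hab]
          _ = c * (b * ((a : GL I8 F) * (a : GL I8 F)) * b) := by simp only [mul_assoc]
          _ = ((a : GL I8 F) * (a : GL I8 F)) * ((b : GL I8 F) * (b : GL I8 F)) * c := by
            rcases hsq a ha with q | q <;> rcases hc with q' | q' <;> rw [q, q'] <;> simp
      · rcases hsq a ha with q | q <;> rcases hsq b hb with q' | q' <;> rw [q, q'] <;> simp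
    · rintro _ ⟨a, ha, rfl⟩ _ ⟨b, hb, rfl⟩ _ ⟨c, hc', rfl⟩
      rw [← map_mul, hBv, hBv, hBv, Subgroup.coe_mul, ← sg_mul h2 (hcm a c ha hc') (hcm b c hb hc')]
      congr 1
      rcases hcm b c hb hc' with q | q <;> rw [q] <;> rw [mul_inv_eq_iff_eq_mul] at q
      · calc (a : GL I8 F) * (b : GL I8 F) * (c : GL I8 F) * ((a : GL I8 F) * (b : GL I8 F))⁻¹ * (c : GL I8 F)⁻¹
            = (a : GL I8 F) * ((b : GL I8 F) * (c : GL I8 F) * (b : GL I8 F)⁻¹) * (a : GL I8 F)⁻¹ * (c : GL I8 F)⁻¹ := by group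
          _ = _ := by rw [q]; simp
      · calc (a : GL I8 F) * (b : GL I8 F) * (c : GL I8 F) * ((a : GL I8 F) * (b : GL I8 F))⁻¹ * (c : GL I8 F)⁻¹
            = (a : GL I8 F) * ((b : GL I8 F) * (c : GL I8 F) * (b : GL I8 F)⁻¹) * (a : GL I8 F)⁻¹ * (c : GL I8 F)⁻¹ := by group
          _ = _ := by rw [q]; simp [mul_assoc]
    · rintro _ ⟨a, ha, rfl⟩ _ ⟨b, hb, rfl⟩ _ ⟨c, hc', rfl⟩
      rw [← map_mul, hBv, hBv, hBv, Subgroup.coe_mul, ← sg_mul h2 (hcm a b ha hb) (hcm a c ha hc')]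
      congr 1
      rcases hcm a c ha hc' with q | q <;> rw [q] <;> rw [mul_inv_eq_iff_eq_mul] at q
      · calc (a : GL I8 F) * (b * c) * (a : GL I8 F)⁻¹ * ((b : GL I8 F) * (c : GL I8 F))⁻¹
            = (a : GL I8 F) * (b : GL I8 F) * (a : GL I8 F)⁻¹ * ((a : GL I8 F) * (c : GL I8 F) * (a : GL I8 F)⁻¹) * (c : GL I8 F)⁻¹ *
              (b : GL I8 F)⁻¹ := by group
          _ = _ := by rw [q]; simp [mul_assoc]
      · calc (a : GL I8 F) * (b * c) * (a : GL I8 F)⁻¹ * ((b : GL I8 F) * (c : GL I8 F))⁻¹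
            = (a : GL I8 F) * (b : GL I8 F) * (a : GL I8 F)⁻¹ * ((a : GL I8 F) * (c : GL I8 F) * (a : GL I8 F)⁻¹) * (c : GL I8 F)⁻¹ *
              (b : GL I8 F)⁻¹ := by group
          _ = _ := by rw [q]; simp [mul_assoc]
    · rintro _ ⟨a, ha, rfl⟩
      rw [hBv, show (a : GL I8 F) * (a : GL I8 F) * (a : GL I8 F)⁻¹ * (a : GL I8 F)⁻¹ = 1 by group, sg_one]
    · rintro _ ⟨a, ha, rfl⟩ hall
      by_contra hne'
      obtain ⟨h1, h1'⟩ := hne a hne'
      obtain ⟨h, hh, hcase⟩ := hmove a ha h1 h1'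
      have hz : ∃ y ∈ dbl hS, h * a * h⁻¹ * y = -(y * (h * a * h⁻¹)) := by
        rcases hcase with ⟨-, he⟩ | ⟨-, he⟩ <;> rw [he, mul_inv_cancel_right]
        · exact ⟨y0, inD_y0, Units.ext (by simp [Units.val_mul, x0_val, y0_val, blk_mul, blk_neg])⟩
        · exact ⟨x0, inD_x0, Units.ext (by simp [Units.val_mul, x0_val, u0_val, blk_mul, blk_neg])⟩
      obtain ⟨y, hy, hay⟩ := hz
      have hyD : h⁻¹ * y * h ∈ dbl hS := by
        have := Nm_conj hS (Subgroup.inv_mem _ hh) hy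
        rwa [inv_inv] at this
      have hB := hall (π ⟨h⁻¹ * y * h, hdM hyD⟩) ((hV _).2 hyD)
      rw [hBv] at hB
      have hval : (a : GL I8 F) * (h⁻¹ * y * h) * (a : GL I8 F)⁻¹ * (h⁻¹ * y * h)⁻¹ = -1 := by
        calc (a : GL I8 F) * (h⁻¹ * y * h) * (a : GL I8 F)⁻¹ * (h⁻¹ * y * h)⁻¹
            = h⁻¹ * (h * a * h⁻¹ * y) * (h * (a : GL I8 F)⁻¹ * (h⁻¹ * y⁻¹ * h)) := by group
          _ = -1 := by rw [hay]; simp [mul_assoc]
      change sg ((a : GL I8 F) * (h⁻¹ * y * h) * (a : GL I8 F)⁻¹ * (h⁻¹ * y * h)⁻¹) = 0 at hB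
      rw [hval] at hB
      have hne1 : (-1 : GL I8 F) ≠ 1 := neg_one_ne8 h2
      simp [sg, hne1] at hB
    · rintro _ ⟨h, hh, rfl⟩ _ ⟨a, ha, rfl⟩
      rw [← map_inv, ← map_mul, ← map_mul, hQv, hQv, Subgroup.coe_mul, Subgroup.coe_mul, Subgroup.coe_inv,
        show (h : GL I8 F) * (a : GL I8 F) * (h : GL I8 F)⁻¹ * ((h : GL I8 F) * (a : GL I8 F) * (h : GL I8 F)⁻¹) =
          h * ((a : GL I8 F) * (a : GL I8 F)) * (h : GL I8 F)⁻¹ by group]
      rcases hsq a ha with q | q <;> rw [q] <;> simp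
    · intro A hAV hA0
      by_contra h8
      push Not at h8
      let χ : dbl hS →* M ⧸ N := π.comp (Subgroup.inclusion hdM)
      have hker : Nat.card χ.ker = 2 := by
        rw [Nat.card_eq_two_iff]
        refine ⟨⟨1, χ.ker.one_mem⟩, ⟨⟨-1, neg_mem_dbl hS (dbl hS).one_mem⟩, (hscal _).2 (Or.inr rfl)⟩, ?_, ?_⟩
        · intro q
          have := congrArg (fun z : χ.ker => ((z : dbl hS) : GL I8 F)) q
          simp at this
          exact neg_one_ne8 h2 this.symm
        · refine Set.eq_univ_iff_forall.2 fun z => ?_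
          rcases (hscal _).1 z.2 with q | q
          · exact Or.inl (Subtype.ext (Subtype.ext q))
          · exact Or.inr (Subtype.ext (Subtype.ext q))
      have hsq1 : ∀ x ∈ A.comap χ, x * x = 1 := fun x hx => by
        have h0 : Q (π (Subgroup.inclusion hdM x)) = 0 := hA0 _ hx
        rw [hQv] at h0
        refine Subtype.ext ?_
        by_contra hq
        rw [sg, if_neg (by simpa using hq)] at h0
        exact one_ne_zero h0
      have hm := hminus (A.comap χ) ⟨⟨fun x y => Subtype.ext (by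
          have h1 := hsq1 _ ((A.comap χ).mul_mem x.2 y.2)
          have hx1 := hsq1 _ x.2
          have hy1 := hsq1 _ y.2
          show (x : dbl hS) * y = (y : dbl hS) * x
          rw [← inv_eq_of_mul_eq_one_right h1, _root_.mul_inv_rev, inv_eq_of_mul_eq_one_right hx1,
            inv_eq_of_mul_eq_one_right hy1])⟩⟩ hsq1
      rw [card_comap_two χ hker fun x hx => ?_] at hm
      · rw [show (2 : ℕ) ^ (3 + 1) = 16 from rfl] at hm
        omega
      · obtain ⟨a, ha⟩ := hsurj x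
        have : (a : GL I8 F) ∈ dbl hS := (hV a).1 (ha ▸ hAV hx)
        exact ⟨⟨a, this⟩, ha⟩
  have hctrl : Control Hb V :=
    { le := Subgroup.map_mono fun x hx => dbl_le_Nm hS hle hx
      normal := hnormal
      invol := hinvol
      self := hself
      cent := by
        rintro _ ⟨a, ha, rfl⟩ hv1 g hgv
        obtain ⟨g', rfl⟩ := hsurj g
        rw [hHb]
        rw [← map_mul, ← map_mul, hπ] at hgv
        obtain ⟨h1, h1'⟩ := hne a hv1
        refine hcent _ g'.2 _ ha h1 h1' ?_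
        rcases hgv with q | q
        · exact Or.inl q.symm
        · exact Or.inr (neg_eq_iff_eq_neg.1 q.symm)
      fused := by
        rintro _ ⟨a, ha, rfl⟩ hv1 g hg
        obtain ⟨g', rfl⟩ := hsurj g
        rw [← map_inv, ← map_mul, ← map_mul, hV] at hg
        obtain ⟨h1, h1'⟩ := hne a hv1
        set Y := (g' : GL I8 F) * (a : GL I8 F) * (g' : GL I8 F)⁻¹ with hY
        have hYd : Y ∈ dbl hS := hg
        have hY2 : Y * Y = (a : GL I8 F) * (a : GL I8 F) := by
          rw [hY, show (g' : GL I8 F) * (a : GL I8 F) * (g' : GL I8 F)⁻¹ * ((g' : GL I8 F) * (a : GL I8 F) * (g' : GL I8 F)⁻¹) =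
            g' * ((a : GL I8 F) * (a : GL I8 F)) * (g' : GL I8 F)⁻¹ by group]
          rcases hsq a ha with q | q <;> rw [q] <;> simp
        have hY1 : Y ≠ 1 ∧ Y ≠ -1 := by
          refine ⟨fun q => h1 ?_, fun q => h1' ?_⟩ <;>
            rw [hY, mul_inv_eq_iff_eq_mul] at q
          · rw [one_mul] at q; exact mul_left_cancel (q.trans (mul_one (g' : GL I8 F)).symm)
          · rw [neg_one_mul] at q
            have : (g' : GL I8 F) * (a : GL I8 F) = g' * -1 := by rw [q, mul_neg, mul_one]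
            exact mul_left_cancel this
        obtain ⟨h, hh, hcase⟩ := hmove a ha h1 h1'
        obtain ⟨k, hk, hcase'⟩ := hmove Y hYd hY1.1 hY1.2
        have hne1 : (1 : GL I8 F) ≠ -1 := (neg_one_ne8 h2).symm
        obtain ⟨z, hz, hz'⟩ : ∃ z, h * a = z * h ∧ k * Y = z * k := by
          rcases hcase with ⟨q, he⟩ | ⟨q, he⟩ <;> rcases hcase' with ⟨q', he'⟩ | ⟨q', he'⟩
          · exact ⟨_, he, he'⟩
          · exact absurd ((hY2.trans q).symm.trans q') hne1
          · exact absurd ((hY2.trans q).symm.trans q').symm hne1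
          · exact ⟨_, he, he'⟩
        refine ⟨π ⟨k⁻¹ * h, M.mul_mem (M.inv_mem (hHM hk)) (hHM hh)⟩,
          (hHb _).2 (Subgroup.mul_mem _ (Subgroup.inv_mem _ hk) hh), ?_⟩
        rw [← map_inv, ← map_inv, ← map_mul, ← map_mul, ← map_mul, ← map_mul, hπ]
        left
        simp only [Subgroup.coe_mul, Subgroup.coe_inv]
        show (g' : GL I8 F) * (a : GL I8 F) * (g' : GL I8 F)⁻¹ = k⁻¹ * h * a * (k⁻¹ * h)⁻¹
        calc (g' : GL I8 F) * (a : GL I8 F) * (g' : GL I8 F)⁻¹ = k⁻¹ * (k * Y) := by rw [hY]; group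
          _ = k⁻¹ * (h * a * h⁻¹ * k) := by rw [hz', hz]; group
          _ = k⁻¹ * h * a * (k⁻¹ * h)⁻¹ := by group
      fixer := hfix }
  have hx0 : (x0 : GL I8 F) ∈ dbl hS := inD_x0
  have hu0' : (u0 : GL I8 F) ∈ dbl hS := inD_u0
  have hxne : π ⟨x0, hdM hx0⟩ ≠ 1 := fun q => by
    rcases (hscal _).1 q with q | q <;> have h := congrArg Units.val q <;>
      simp [x0_val, ← blk_one, blk_neg, blk_inj] at h
    all_goals exact hS.ne_neg InR.one (by first | exact h.symm | exact h)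
  have hune : π ⟨u0, hdM hu0'⟩ ≠ 1 := fun q => by
    rcases (hscal _).1 q with q | q <;> have h := congrArg Units.val q <;>
      simp [u0_val, ← blk_one, blk_neg, blk_inj] at h
  have htop := hctrl.eq_top ((hV _).2 hx0) hxne ((hV _).2 hu0') hune (by
    intro g hgx
    obtain ⟨g', rfl⟩ := hsurj g
    rw [← map_inv, ← map_mul, ← map_mul, hπ] at hgx
    simp only [Subgroup.coe_mul, Subgroup.coe_inv] at hgx
    have h2' : (g' : GL I8 F) * x0 * (g' : GL I8 F)⁻¹ * ((g' : GL I8 F) * x0 * (g' : GL I8 F)⁻¹) = 1 := by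
      rw [show (g' : GL I8 F) * x0 * (g' : GL I8 F)⁻¹ * ((g' : GL I8 F) * x0 * (g' : GL I8 F)⁻¹) =
        (g' : GL I8 F) * (x0 * x0) * (g' : GL I8 F)⁻¹ by group, x0_mul_x0]
      group
    have hu2 : (u0 : GL I8 F) * u0 = -1 :=
      Units.ext (by simp [Units.val_mul, u0_val, blk_mul, blk_neg, ← blk_one])
    generalize (g' : GL I8 F) * x0 * (g' : GL I8 F)⁻¹ = w at hgx h2'
    have huw : (u0 : GL I8 F) * u0 = 1 := by
      rcases hgx with q | q <;> rw [q]
      · exact h2'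
      · rw [neg_mul, mul_neg, neg_neg, h2']
    rw [hu2] at huw
    exact neg_one_ne8 h2 huw)
  refine le_antisymm (fun g hg => ?_) hHM
  exact (hHb ⟨g, hg⟩).1 (by rw [htop]; trivial)

/-- The normaliser is maximal. -/
theorem normalizer_maximal {p : ℕ} (hp : p.Prime) (hodd : Odd p) (hcard : Fintype.card F = p)
    {R : Subgroup (GL I8 F)} (hRs : IsSymplecticTypeGroup 2 R) (hRi : ActsAbsolutelyIrreducibly (matrixSet R))
    (hle : R ≤ Cfsg.spGL 4 F) (hc : Nat.card R = 128) (hRZ : Nat.card (Subgroup.center R) = 2)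
    (hRm : IsOfMinusType 3 R) :
    IsMaximalIn (Cfsg.spGL 4 F) (subgroupNormalizer R ⊓ Cfsg.spGL 4 F) := by
  classical
  have h2 : (2 : F) ≠ 0 := by
    intro e
    have hch : ringChar F = 2 := CharP.ringChar_of_prime_eq_zero Nat.prime_two (by exact_mod_cast e)
    have := FiniteField.even_card_iff_char_two.1 hch
    rw [hcard] at this
    rw [Nat.odd_iff] at hodd
    omega
  have hB := big_of_data h2 hRs hRi hle hc hRZ hRm
  obtain ⟨P, hP, R4, hS, hle4, hR⟩ := exists_dbl hB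
  have hc' : Nat.card (dbl hS) = 128 := by
    rw [← hR, Subgroup.card_map_of_injective (MulAut.conj P⁻¹).injective, hc]
  have hm' : IsOfMinusType 3 (dbl hS) := by
    intro A hA hA2
    let e : R ≃* dbl hS :=
      (R.equivMapOfInjective (MulAut.conj P⁻¹).toMonoidHom (MulAut.conj P⁻¹).injective).trans
        (MulEquiv.subgroupCongr hR)
    have := hRm (A.map e.symm.toMonoidHom) inferInstance (by
      rintro _ ⟨x, hx, rfl⟩; rw [← map_mul, hA2 x hx, map_one])
    rwa [Subgroup.card_map_of_injective e.symm.injective] at this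
  have hmax := nm_maximal hp hcard hS hle4 hc' hm'
  have hnorm : subgroupNormalizer R =
      (Subgroup.normalizer (dbl hS : Set (GL I8 F))).map (MulAut.conj P).toMonoidHom := by
    have hrm : (dbl hS).map (MulAut.conj P).toMonoidHom = R := by
      rw [← hR, Subgroup.map_map]
      convert Subgroup.map_id R
      ext x
      simp [mul_assoc]
    rw [Subgroup.map_equiv_normalizer_eq, hrm]
    rfl
  rw [hnorm]
  refine CfsgLib.Geo.isMaximalIn_conj P ?_ hmax
  ext x
  constructor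
  · rintro ⟨y, hy, rfl⟩
    exact Subgroup.mul_mem _ (Subgroup.mul_mem _ hP hy) (Subgroup.inv_mem _ hP)
  · intro hx
    exact ⟨P⁻¹ * x * P, Subgroup.mul_mem _ (Subgroup.mul_mem _ (Subgroup.inv_mem _ hP) hx) hP, by simp [mul_assoc]⟩

end CfsgLib.Geo.SpEight
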