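import Cfsg.Agent.Geo.SympTv
import Cfsg.Agent.Elusive.PauliMinusFrame

/-!
Eight-dimensional symplectic space as two orthogonal four-dimensional halves.
-/

set_option autoImplicit false
set_option linter.unusedSectionVars false

namespace CfsgLib.Geo.SpEight

open Matrix CfsgLib.Elusive.PauliMinus

variable {F : Type*} [Field F]

/-- The index type of the eight-dimensional space. -/
abbrev I8 := Fin 4 ⊕ Fin 4

/-- Matrices of that size. -/
abbrev M8 (F : Type*) := Matrix I8 I8 F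

/-- The first half takes the first two hyperbolic pairs, the second half the last two. -/
def e8 : (I4 ⊕ I4) ≃ I8 where
  toFun
    | .inl (.inl i) => .inl ⟨i, by omega⟩
    | .inl (.inr i) => .inr ⟨i, by omega⟩
    | .inr (.inl i) => .inl ⟨2 + i, by omega⟩
    | .inr (.inr i) => .inr ⟨2 + i, by omega⟩
  invFun
    | .inl i => if h : i.val < 2 then .inl (.inl ⟨i, h⟩) else .inr (.inl ⟨i - 2, by omega⟩)
    | .inr i => if h : i.val < 2 then .inl (.inr ⟨i, h⟩) else .inr (.inr ⟨i - 2, by omega⟩)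
  left_inv := by
    rintro ((i | i) | (i | i)) <;> fin_cases i <;> rfl
  right_inv := by
    rintro (i | i) <;> fin_cases i <;> rfl

/-- A matrix given by four blocks. -/
def blk (a b c d : M4 F) : M8 F := Matrix.reindexAlgEquiv F F e8 (Matrix.fromBlocks a b c d)

theorem blk_eq (a b c d : M4 F) : blk a b c d = (Matrix.fromBlocks a b c d).submatrix e8.symm e8.symm := rfl

theorem blk_mul (a b c d a' b' c' d' : M4 F) : blk a b c d * blk a' b' c' d' =
    blk (a * a' + b * c') (a * b' + b * d') (c * a' + d * c') (c * b' + d * d') := by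
  rw [blk, blk, ← map_mul, Matrix.fromBlocks_multiply]; rfl

theorem blk_one : blk (1 : M4 F) 0 0 1 = 1 := by
  rw [blk, Matrix.fromBlocks_one, map_one]

theorem blk_neg (a b c d : M4 F) : -blk a b c d = blk (-a) (-b) (-c) (-d) := by
  rw [blk, ← map_neg, Matrix.fromBlocks_neg]; rfl

theorem blk_add (a b c d a' b' c' d' : M4 F) :
    blk a b c d + blk a' b' c' d' = blk (a + a') (b + b') (c + c') (d + d') := by
  rw [blk, blk, ← map_add, Matrix.fromBlocks_add]; rfl

theorem blk_smul (t : F) (a b c d : M4 F) : t • blk a b c d = blk (t • a) (t • b) (t • c) (t • d) := by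
  rw [blk, ← map_smul, Matrix.fromBlocks_smul]; rfl

theorem blk_transpose (a b c d : M4 F) : (blk a b c d)ᵀ = blk aᵀ cᵀ bᵀ dᵀ := by
  rw [blk_eq, Matrix.transpose_submatrix, Matrix.fromBlocks_transpose]; rfl

theorem blk_inj {a b c d a' b' c' d' : M4 F} :
    blk a b c d = blk a' b' c' d' ↔ a = a' ∧ b = b' ∧ c = c' ∧ d = d' := by
  rw [blk, blk, (Matrix.reindexAlgEquiv F F e8).injective.eq_iff, Matrix.fromBlocks_inj]

theorem exists_blk (X : M8 F) : ∃ a b c d, X = blk a b c d := by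
  set Y := (Matrix.reindexAlgEquiv F F e8).symm X with hY
  refine ⟨Y.toBlocks₁₁, Y.toBlocks₁₂, Y.toBlocks₂₁, Y.toBlocks₂₂, ?_⟩
  rw [blk, Matrix.fromBlocks_toBlocks, hY, AlgEquiv.apply_symm_apply]

/-- The form on a half. -/
abbrev J4 (F : Type*) [Field F] : M4 F := Matrix.J (Fin 2) F

theorem blk_J : blk (J4 F) 0 0 (J4 F) = Matrix.J (Fin 4) F := by
  ext i j
  rw [blk_eq, Matrix.submatrix_apply]
  rcases i with i | i <;> rcases j with j | j <;> fin_cases i <;> fin_cases j <;>
    simp [e8, Matrix.J, Matrix.fromBlocks]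

theorem mem_spGL_iff {m : ℕ} {g : GL (Fin m ⊕ Fin m) F} :
    g ∈ Cfsg.spGL m F ↔ (g : Matrix (Fin m ⊕ Fin m) (Fin m ⊕ Fin m) F)ᵀ * Matrix.J (Fin m) F *
      (g : Matrix (Fin m ⊕ Fin m) (Fin m ⊕ Fin m) F) = Matrix.J (Fin m) F := by
  rw [SpTv.mem_spGL]
  let G : Matrix (Fin m ⊕ Fin m) (Fin m ⊕ Fin m) F := g
  have key : ∀ u v : Fin m ⊕ Fin m → F, CfsgLib.Symp.form (G *ᵥ u) (G *ᵥ v) =
      u ⬝ᵥ ((Gᵀ * Matrix.J (Fin m) F * G) *ᵥ v) := fun u v => by
    rw [← Matrix.mulVec_mulVec, ← Matrix.mulVec_mulVec, Matrix.dotProduct_mulVec u,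
      Matrix.vecMul_transpose]
    rfl
  constructor
  · intro h
    ext i j
    have := h (Pi.single i 1) (Pi.single j 1)
    rw [key] at this
    simpa [CfsgLib.Symp.form, single_dotProduct, Matrix.mulVec_single_one] using this
  · intro h u v
    rw [key, h]
    rfl

/-- A pair of vectors. -/
def pr (v w : I4 → F) : I8 → F := Sum.elim v w ∘ e8.symm

theorem blk_mulVec (a b c d : M4 F) (v w : I4 → F) :
    blk a b c d *ᵥ pr v w = pr (a *ᵥ v + b *ᵥ w) (c *ᵥ v + d *ᵥ w) := by
  rw [blk_eq, pr, pr, Matrix.submatrix_mulVec_equiv, Equiv.symm_symm, Function.comp_assoc,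
    Equiv.symm_comp_self, Function.comp_id, Matrix.fromBlocks_mulVec]
  rfl

theorem exists_pr (z : I8 → F) : ∃ v w, z = pr v w :=
  ⟨fun i => z (e8 (.inl i)), fun i => z (e8 (.inr i)), funext fun i => by
    obtain ⟨j, rfl⟩ := e8.surjective i
    rcases j with j | j <;> simp [pr]⟩

theorem form_pr (v w v' w' : I4 → F) :
    CfsgLib.Symp.form (pr v w) (pr v' w') = CfsgLib.Symp.form v v' + CfsgLib.Symp.form w w' := by
  rw [CfsgLib.Symp.form, ← blk_J, blk_mulVec, pr, pr, comp_equiv_dotProduct_comp_equiv,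
    sumElim_dotProduct_sumElim]
  simp [CfsgLib.Symp.form]

theorem pr_add (v w v' w' : I4 → F) : pr v w + pr v' w' = pr (v + v') (w + w') :=
  funext fun i => by
    show Sum.elim v w (e8.symm i) + Sum.elim v' w' (e8.symm i) = Sum.elim (v + v') (w + w') (e8.symm i)
    rcases e8.symm i with j | j <;> rfl

theorem pr_smul (c : F) (v w : I4 → F) : c • pr v w = pr (c • v) (c • w) :=
  funext fun i => by
    show c • Sum.elim v w (e8.symm i) = Sum.elim (c • v) (c • w) (e8.symm i)
    rcases e8.symm i with j | j <;> rfl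

theorem pr_inj {v w v' w' : I4 → F} : pr v w = pr v' w' ↔ v = v' ∧ w = w' := by
  refine ⟨fun h => ?_, fun ⟨h, h'⟩ => h ▸ h' ▸ rfl⟩
  exact ⟨funext fun i => by simpa [pr] using congrFun h (e8 (.inl i)),
    funext fun i => by simpa [pr] using congrFun h (e8 (.inr i))⟩

/-- The block diagonal element with two given halves. -/
def dg : GL I4 F × GL I4 F →* GL I8 F where
  toFun p := ⟨blk p.1 0 0 p.2, blk (p.1⁻¹ : GL I4 F) 0 0 (p.2⁻¹ : GL I4 F),
    by rw [blk_mul]; simp [blk_one], by rw [blk_mul]; simp [blk_one]⟩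
  map_one' := Units.ext (by show blk _ _ _ _ = _; simp [blk_one])
  map_mul' p q := Units.ext (by show blk _ _ _ _ = blk _ _ _ _ * blk _ _ _ _; rw [blk_mul]; simp)

theorem dg_val (a b : GL I4 F) : (dg (a, b) : M8 F) = blk a 0 0 b := rfl

theorem dg_injective : Function.Injective (dg (F := F)) := fun p q h => by
  obtain ⟨h1, -, -, h4⟩ := blk_inj.1 (congrArg Units.val h)
  exact Prod.ext (Units.ext h1) (Units.ext h4)

theorem dg_mem_iff {a b : GL I4 F} :
    dg (a, b) ∈ Cfsg.spGL 4 F ↔ a ∈ Cfsg.spGL 2 F ∧ b ∈ Cfsg.spGL 2 F := by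
  rw [mem_spGL_iff, mem_spGL_iff, mem_spGL_iff, dg_val, ← blk_J, blk_transpose, blk_mul, blk_mul, blk_inj]
  simp

/-- The element changing the sign of the second half. -/
def x0 : GL I8 F := dg (1, -1)

theorem x0_val : ((x0 : GL I8 F) : M8 F) = blk 1 0 0 (-1) := by
  rw [x0, dg_val]; simp

/-- What commutes with the sign change is block diagonal. -/
theorem exists_dg (h2 : (2 : F) ≠ 0) {g : GL I8 F} (h : g * x0 = x0 * g) : ∃ a b, g = dg (a, b) := by
  obtain ⟨a, b, c, d, e⟩ := exists_blk (g : M8 F)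
  have h' := congrArg Units.val h
  rw [Units.val_mul, Units.val_mul, x0_val, e, blk_mul, blk_mul, blk_inj] at h'
  simp only [mul_zero, zero_mul, mul_one, one_mul, mul_neg, neg_mul, add_zero, zero_add] at h'
  have hz : ∀ M : M4 F, M = -M → M = 0 := fun M hM => by
    have : (2 : F) • M = 0 := by rw [two_smul]; nth_rw 1 [hM]; exact neg_add_cancel M
    exact (smul_eq_zero.1 this).resolve_left h2
  obtain rfl := hz b h'.2.1.symm
  obtain rfl := hz c h'.2.2.1
  obtain ⟨a', b', c', d', e'⟩ := exists_blk ((g⁻¹ : GL I8 F) : M8 F)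
  have h1 := Units.mul_inv g
  rw [e, e', blk_mul, ← blk_one, blk_inj] at h1
  have h2' := Units.inv_mul g
  rw [e, e', blk_mul, ← blk_one, blk_inj] at h2'
  simp only [zero_mul, mul_zero, add_zero, zero_add] at h1 h2'
  exact ⟨⟨a, a', h1.1, h2'.1⟩, ⟨d, d', h1.2.2.2, h2'.2.2.2⟩, Units.ext e⟩

end CfsgLib.Geo.SpEight
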