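import Cfsg.Agent.Geo.SpEight.Group

/-!
Every sign pattern on the five involutions is induced by an element of the group.
-/

set_option autoImplicit false
set_option linter.unusedSectionVars false
set_option linter.unusedSimpArgs false
set_option linter.style.haveILetI false

namespace CfsgLib.Geo.SpEight

open Matrix CfsgLib.Elusive.PauliMinus

variable {F : Type*} [Field F] {R : Subgroup (GL I4 F)} {e : Fin 5 → M4 F}

/-- Which of the five involutions anticommute with a product of at most two of them. -/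
def anti5 : Unit ⊕ Fin 5 ⊕ {p : Fin 5 × Fin 5 // p.1 < p.2} → Fin 5 → Bool
  | Sum.inl _, _ => false
  | Sum.inr (Sum.inl j), i => decide (i ≠ j)
  | Sum.inr (Sum.inr p), i => decide (i = p.1.1 ∨ i = p.1.2)

theorem anti5_surj : ∀ f : Fin 5 → Bool,
    (f 0).xor ((f 1).xor ((f 2).xor ((f 3).xor (f 4)))) = false → ∃ t, ∀ i, f i = anti5 t i := by
  decide +kernel

theorem U_comm (hE : Five R e) (t) (i : Fin 5) :
    U e t * e i = (if anti5 t i then (-1 : F) else 1) • (e i * U e t) := by
  rcases t with t | j | ⟨⟨j, k⟩, hjk⟩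
  · simp [U, anti5]
  · by_cases h : i = j
    · subst h; simp [U, anti5]
    · simp [U, anti5, h, hE.anti i j h]
  · show e j * e k * e i = _
    by_cases hj : i = j
    · subst hj
      simp only [U, anti5, true_or, decide_true, if_true, neg_one_smul]
      rw [mul_assoc, hE.anti k i hjk.ne', mul_neg]
    by_cases hk : i = k
    · subst hk
      simp only [U, anti5, or_true, decide_true, if_true, neg_one_smul]
      rw [← mul_assoc (e i), hE.anti i j hj, neg_mul, neg_neg]
    · simp only [U, anti5, hj, hk, or_self, decide_false, Bool.false_eq_true, if_false, one_smul]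
      rw [mul_assoc, hE.anti k i (Ne.symm hk), mul_neg, ← mul_assoc, hE.anti j i (Ne.symm hj), neg_mul, neg_neg,
        mul_assoc]

/-- An element commuting with the five involutions up to sign is a scalar multiple of one of the group. -/
theorem exists_of_pm (hS : Grp R) (hE : Five R e) (a : GL I4 F)
    (h : ∀ i, (a : M4 F) * e i = e i * a ∨ (a : M4 F) * e i = -(e i * a)) :
    ∃ t, ∃ c : F, InR R t ∧ (a : M4 F) = c • t := by
  classical
  let f : Fin 5 → Bool := fun i => !decide ((a : M4 F) * e i = e i * a)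
  let σ : Fin 5 → F := fun i => if f i then -1 else 1
  have hσ : ∀ i, (a : M4 F) * e i = σ i • (e i * a) := fun i => by
    by_cases h1 : (a : M4 F) * e i = e i * a
    · simp [σ, f, h1]
    · have h' := (h i).resolve_left h1
      simp only [σ, f, h1, decide_false, Bool.not_false, if_true, neg_one_smul]
      exact h'
  set P := e 0 * e 1 * e 2 * e 3 * e 4 with hP
  have hPR : InR R P := ((((hE.mem 0).mul (hE.mem 1)).mul (hE.mem 2)).mul (hE.mem 3)).mul (hE.mem 4)
  have hPc : ∀ i, P * e i = e i * P := by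
    have an : ∀ {i j : Fin 5}, i ≠ j → ∀ X : M4 F, e i * (e j * X) = -(e j * (e i * X)) := fun {i j} hij X => by
      rw [← mul_assoc, hE.anti i j hij, neg_mul, mul_assoc]
    have sq : ∀ i, ∀ X : M4 F, e i * (e i * X) = X := fun i X => by rw [← mul_assoc, hE.sq, one_mul]
    intro i
    fin_cases i <;>
      simp (disch := decide) only [hP, mul_assoc, Fin.zero_eta, Fin.mk_one, Fin.reduceFinMk, sq, hE.sq, mul_one,
        hE.anti 1 0, hE.anti 2 0, hE.anti 3 0, hE.anti 4 0, hE.anti 2 1, hE.anti 3 1, hE.anti 4 1,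
        hE.anti 3 2, hE.anti 4 2, hE.anti 4 3, an (i := 1) (j := 0), an (i := 2) (j := 0), an (i := 3) (j := 0),
        an (i := 4) (j := 0), an (i := 2) (j := 1), an (i := 3) (j := 1), an (i := 4) (j := 1),
        an (i := 3) (j := 2), an (i := 4) (j := 2), an (i := 4) (j := 3), mul_neg, neg_neg]
  obtain ⟨p, hp⟩ := hE.commutant hS hPc
  have hprod : σ 0 * σ 1 * σ 2 * σ 3 * σ 4 = 1 := by
    have h1 : (a : M4 F) * P = (σ 0 * σ 1 * σ 2 * σ 3 * σ 4) • (P * a) := by
      have mv : ∀ i, ∀ X : M4 F, (a : M4 F) * (e i * X) = σ i • (e i * ((a : M4 F) * X)) := fun i X => by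
        rw [← mul_assoc, hσ i, smul_mul_assoc, mul_assoc]
      simp only [hP, mul_assoc, mv, mul_smul_comm, smul_smul, hσ 4]
    have hp0 : p ≠ 0 := fun e0 => by
      obtain ⟨g, -, hg⟩ := hPR
      exact g.ne_zero (by rw [hg, hp, e0, zero_smul])
    rw [hp, mul_smul_comm, mul_one, smul_mul_assoc, one_mul, smul_smul] at h1
    have := smul_left_injective F a.ne_zero h1
    exact mul_right_cancel₀ hp0 (by rw [one_mul]; exact this.symm)
  have hpar : (f 0).xor ((f 1).xor ((f 2).xor ((f 3).xor (f 4)))) = false := by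
    have hne : (-1 : F) ≠ 1 := fun e => hS.two (by linear_combination -e)
    simp only [σ] at hprod
    generalize f 0 = b0, f 1 = b1, f 2 = b2, f 3 = b3, f 4 = b4 at hprod ⊢
    cases b0 <;> cases b1 <;> cases b2 <;> cases b3 <;> cases b4 <;> simp at hprod ⊢ <;>
      exact hne hprod
  obtain ⟨t, ht⟩ := anti5_surj f hpar
  obtain ⟨gt, hgt, hgte⟩ := hE.U_mem t
  obtain ⟨c, hc⟩ := hE.commutant hS (M := (a : M4 F) * U e t) fun i => by
    rw [mul_assoc, U_comm hE t i, mul_smul_comm, ← mul_assoc, hσ i, smul_mul_assoc, smul_smul, mul_assoc]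
    have : (if anti5 t i then (-1 : F) else 1) * σ i = 1 := by
      simp only [σ, ht i]; cases anti5 t i <;> simp
    rw [this, one_smul]
  refine ⟨_, c, ⟨gt⁻¹, R.inv_mem hgt, rfl⟩, ?_⟩
  rw [← hgte] at hc
  calc (a : M4 F) = (a : M4 F) * gt * ((gt⁻¹ : GL I4 F) : M4 F) := (Units.mul_inv_cancel_right _ _).symm
    _ = c • ((gt⁻¹ : GL I4 F) : M4 F) := by rw [hc, smul_mul_assoc, one_mul]

/-- Inside the symplectic group it lies in the group. -/
theorem mem_of_pm (hS : Grp R) (hle : R ≤ Cfsg.spGL 2 F) (hE : Five R e) {a : GL I4 F}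
    (ha : a ∈ Cfsg.spGL 2 F)
    (h : ∀ i, (a : M4 F) * e i = e i * a ∨ (a : M4 F) * e i = -(e i * a)) : a ∈ R := by
  obtain ⟨t, c, ⟨g, hg, rfl⟩, hc⟩ := exists_of_pm hS hE a h
  have h1 : ((a * g⁻¹ : GL I4 F) : M4 F) = c • 1 := by
    rw [Units.val_mul, hc, smul_mul_assoc, Units.mul_inv]
  rcases scalar_sq (Subgroup.mul_mem _ ha (Subgroup.inv_mem _ (hle hg))) h1 with rfl | rfl
  · rwa [show a = g from Units.ext (by rw [hc, one_smul])]
  · rw [show a = -1 * g from Units.ext (by rw [hc, neg_one_smul]; simp)]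
    exact R.mul_mem hS.neg hg

/-- An element of the normaliser centralising the doubled group up to sign lies in it. -/
theorem mem_dbl_of_pm (hS : Grp R) (hle : R ≤ Cfsg.spGL 2 F) {h : GL I8 F} (hh : h ∈ Cfsg.spGL 4 F)
    (hc : ∀ a ∈ dbl hS, h * a = a * h ∨ h * a = -(a * h)) : h ∈ dbl hS := by
  obtain ⟨e, hE⟩ := exists_five hS
  have hxy : (x0 : GL I8 F) * y0 = -(y0 * x0) :=
    Units.ext (by simp [Units.val_mul, x0_val, y0_val, blk_mul, blk_neg])
  have key : ∀ g : GL I8 F, g ∈ Cfsg.spGL 4 F → (∀ a ∈ dbl hS, g * a = a * g ∨ g * a = -(a * g)) →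
      g * x0 = x0 * g → g * y0 = y0 * g → g ∈ dbl hS := by
    intro g hg hc hgx hgy
    obtain ⟨a, b, rfl⟩ := exists_dg hS.two hgx
    have hab : a = b := by
      have := congrArg Units.val hgy
      simp [Units.val_mul, y0_val, dg_val, blk_mul, blk_inj] at this
      exact Units.ext (this.1)
    subst hab
    have haR : a ∈ R := mem_of_pm hS hle hE (dg_mem_iff.1 hg).1 fun i => by
      obtain ⟨g', hg', hge⟩ := hE.mem i
      rcases hc (dg (g', g')) (InD.diag ⟨g', hg', rfl⟩) with q | q <;> have := congrArg Units.val q <;>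
        simp [Units.val_mul, dg_val, blk_mul, blk_neg, blk_inj, hge] at this
      · exact Or.inl this
      · exact Or.inr this
    exact InD.diag ⟨a, haR, rfl⟩
  have step : ∀ (g w a : GL I8 F), g * a = a * g ∨ g * a = -(a * g) → w * a = a * w ∨ w * a = -(a * w) →
      (w * g) * a = a * (w * g) ∨ (w * g) * a = -(a * (w * g)) := by
    intro g w a h1 h2
    rcases h1 with h1 | h1 <;> rcases h2 with h2 | h2 <;>
      simp [mul_assoc, h1, ← mul_assoc w a, h2]
  have hD : ∀ w ∈ dbl hS, ∀ a ∈ dbl hS, w * a = a * w ∨ w * a = -(a * w) := fun w hw a ha => by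
    rcases InD.comm hS hw ha with q | q
    · exact Or.inl (Units.ext q)
    · exact Or.inr (Units.ext (by simpa using q))
  have hy : (y0 : GL I8 F) ∈ dbl hS := inD_y0
  have hx : (x0 : GL I8 F) ∈ dbl hS := inD_x0
  have hsp : dbl hS ≤ Cfsg.spGL 4 F := fun _ hg => InD.mem_sp hS hle hg
  -- adjust by the two standard elements
  have key2 : ∀ g : GL I8 F, g ∈ Cfsg.spGL 4 F → (∀ a ∈ dbl hS, g * a = a * g ∨ g * a = -(a * g)) →
      g * x0 = x0 * g → g ∈ dbl hS := by
    intro g hg hc hgx
    rcases hc y0 hy with q | q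
    · exact key g hg hc hgx q
    · have := key (x0 * g) (Subgroup.mul_mem _ (hsp hx) hg) (fun a ha => step g x0 a (hc a ha) (hD x0 hx a ha))
        (by rw [mul_assoc, hgx]) (by
          rw [mul_assoc, q, mul_neg, ← mul_assoc, hxy, neg_mul, neg_neg, mul_assoc])
      exact (Subgroup.mul_mem_cancel_left _ hx).1 this
  rcases hc x0 hx with q | q
  · exact key2 h hh hc q
  · have := key2 (y0 * h) (Subgroup.mul_mem _ (hsp hy) hh) (fun a ha => step h y0 a (hc a ha) (hD y0 hy a ha)) (by
      rw [mul_assoc, q, mul_neg, ← mul_assoc, ← neg_mul, ← hxy, mul_assoc])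
    exact (Subgroup.mul_mem_cancel_left _ hy).1 this

end CfsgLib.Geo.SpEight
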