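import Cfsg.Agent.Geo.SpEight.Blocks
import Cfsg.Agent.Elusive.PauliMinus

/-!
The group of order 128 built from a group of order 32 on each half, and transitivity of its normaliser
on involutions and on elements of square minus one.
-/

set_option autoImplicit false
set_option linter.unusedSectionVars false
set_option linter.unusedSimpArgs false
set_option linter.style.haveILetI false

namespace CfsgLib.Geo.SpEight

open Matrix CfsgLib.Elusive.PauliMinus

variable {F : Type*} [Field F] {R : Subgroup (GL I4 F)}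

/-- The element exchanging the halves. -/
def y0 : GL I8 F :=
  ⟨blk 0 1 1 0, blk 0 1 1 0, by rw [blk_mul]; simp [blk_one], by rw [blk_mul]; simp [blk_one]⟩

/-- The element of square minus one exchanging the halves. -/
def u0 : GL I8 F :=
  ⟨blk 0 (-1) 1 0, blk 0 1 (-1) 0, by rw [blk_mul]; simp [blk_one], by rw [blk_mul]; simp [blk_one]⟩

theorem y0_val : ((y0 : GL I8 F) : M8 F) = blk 0 1 1 0 := rfl
theorem u0_val : ((u0 : GL I8 F) : M8 F) = blk 0 (-1) 1 0 := rfl

theorem y0_mul_y0 : (y0 : GL I8 F) * y0 = 1 :=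
  Units.ext (by rw [Units.val_mul, y0_val, blk_mul, Units.val_one]; simp [blk_one])

theorem y0_dg (a b : GL I4 F) : y0 * dg (a, b) = dg (b, a) * y0 :=
  Units.ext (by simp [Units.val_mul, y0_val, dg_val, blk_mul])

/-- The four patterns built from one matrix. -/
def Pat (s : M4 F) (X : M8 F) : Prop :=
  X = blk s 0 0 s ∨ X = blk s 0 0 (-s) ∨ X = blk 0 s s 0 ∨ X = blk 0 (-s) s 0

/-- Matrices of elements of the doubled group. -/
def InD (R : Subgroup (GL I4 F)) (X : M8 F) : Prop := ∃ s, InR R s ∧ Pat s X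

theorem InD.diag {s : M4 F} (hs : InR R s) : InD R (blk s 0 0 s) := ⟨s, hs, Or.inl rfl⟩
theorem InD.diag_neg {s : M4 F} (hs : InR R s) : InD R (blk s 0 0 (-s)) := ⟨s, hs, Or.inr (Or.inl rfl)⟩
theorem InD.anti {s : M4 F} (hs : InR R s) : InD R (blk 0 s s 0) := ⟨s, hs, Or.inr (Or.inr (Or.inl rfl))⟩
theorem InD.anti_neg {s : M4 F} (hs : InR R s) : InD R (blk 0 (-s) s 0) := ⟨s, hs, Or.inr (Or.inr (Or.inr rfl))⟩

theorem InD.one : InD R (1 : M8 F) := blk_one (F := F) ▸ InD.diag InR.one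
theorem inD_x0 : InD R ((x0 : GL I8 F) : M8 F) := by rw [x0_val]; exact InD.diag_neg InR.one
theorem inD_y0 : InD R ((y0 : GL I8 F) : M8 F) := InD.anti InR.one
theorem inD_u0 : InD R ((u0 : GL I8 F) : M8 F) := InD.anti_neg InR.one

variable (hS : Grp R)
include hS

theorem InD.neg {X : M8 F} (h : InD R X) : InD R (-X) := by
  obtain ⟨s, hs, rfl | rfl | rfl | rfl⟩ := h <;> refine ⟨-s, hs.neg hS, ?_⟩ <;>
    simp [Pat, blk_neg]

theorem InD.mul {X Y : M8 F} (hX : InD R X) (hY : InD R Y) : InD R (X * Y) := by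
  obtain ⟨s, hs, hX⟩ := hX
  obtain ⟨t, ht, hY⟩ := hY
  rcases hX with rfl | rfl | rfl | rfl <;> rcases hY with rfl | rfl | rfl | rfl <;>
    first
      | (refine ⟨s * t, hs.mul ht, ?_⟩; simp [Pat, blk_mul]; done)
      | (refine ⟨-(s * t), (hs.mul ht).neg hS, ?_⟩; simp [Pat, blk_mul]; done)

theorem InD.comm {X Y : M8 F} (hX : InD R X) (hY : InD R Y) : X * Y = Y * X ∨ X * Y = -(Y * X) := by
  obtain ⟨s, hs, hX⟩ := hX
  obtain ⟨t, ht, hY⟩ := hY
  rcases hX with rfl | rfl | rfl | rfl <;> rcases hY with rfl | rfl | rfl | rfl <;>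
    rcases hS.comm' hs ht with e | e <;> simp [blk_mul, blk_neg, e]

theorem InD.sq {X : M8 F} (hX : InD R X) : X * X = 1 ∨ X * X = -1 := by
  obtain ⟨s, hs, hX⟩ := hX
  rcases hX with rfl | rfl | rfl | rfl <;> rcases hS.sq hs with e | e <;>
    simp [blk_mul, blk_neg, e, ← blk_one]

theorem InD.mem_sp (hle : R ≤ Cfsg.spGL 2 F) {g : GL I8 F} (hg : InD R (g : M8 F)) : g ∈ Cfsg.spGL 4 F := by
  obtain ⟨s, ⟨a, ha, rfl⟩, hp⟩ := hg
  have h := mem_spGL_iff.1 (hle ha)
  rw [mem_spGL_iff, ← blk_J]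
  rcases hp with e | e | e | e <;> rw [e] <;> simp [blk_transpose, blk_mul, h]

/-- The doubled group. -/
def dbl : Subgroup (GL I8 F) where
  carrier := {g | InD R (g : M8 F)}
  one_mem' := by simpa using InD.one
  mul_mem' {g h} hg hh := by simpa using InD.mul hS hg hh
  inv_mem' {g} (hg : InD R (g : M8 F)) := by
    show InD R ((g⁻¹ : GL I8 F) : M8 F)
    rcases InD.sq hS hg with e | e
    · rwa [inv_eq_of_mul_eq_one_right (Units.ext (by simpa using e) : g * g = 1)]
    · rw [inv_eq_of_mul_eq_one_right (Units.ext (by simp [e]) : g * (-g) = 1), Units.val_neg]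
      exact InD.neg hS hg

theorem mem_dbl {g : GL I8 F} : g ∈ dbl hS ↔ InD R (g : M8 F) := Iff.rfl

/-- Its normaliser in the symplectic group. -/
def Nm : Subgroup (GL I8 F) := Subgroup.normalizer (dbl hS : Set (GL I8 F)) ⊓ Cfsg.spGL 4 F

omit hS in
/-- The normaliser of the small group in the small symplectic group. -/
def N4 (R : Subgroup (GL I4 F)) : Subgroup (GL I4 F) :=
  Subgroup.normalizer (R : Set (GL I4 F)) ⊓ Cfsg.spGL 2 F

theorem dbl_le_Nm (hle : R ≤ Cfsg.spGL 2 F) : dbl hS ≤ Nm hS :=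
  le_inf Subgroup.le_normalizer fun _ hg => InD.mem_sp hS hle hg

theorem Nm_le : Nm hS ≤ Cfsg.spGL 4 F := inf_le_right

theorem neg_mem_dbl {g : GL I8 F} (hg : g ∈ dbl hS) : -g ∈ dbl hS := by
  rw [mem_dbl, Units.val_neg]; exact InD.neg hS hg

/-- An element of the symplectic group carrying the doubled group into itself lies in the normaliser. -/
theorem mem_Nm_of [Finite F] {g : GL I8 F} (hg : g ∈ Cfsg.spGL 4 F)
    (h : ∀ X, InD R X → ∃ X', InD R X' ∧ (g : M8 F) * X = X' * g) : g ∈ Nm hS := by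
  refine ⟨?_, hg⟩
  have hmaps : ∀ a ∈ dbl hS, g * a * g⁻¹ ∈ dbl hS := fun a ha => by
    obtain ⟨X, hX, e⟩ := h _ ha
    rw [mem_dbl, Units.val_mul, Units.val_mul, e, Units.mul_inv_cancel_right]
    exact hX
  haveI : Finite (GL I8 F) := inferInstance
  let f : dbl hS → dbl hS := fun a => ⟨g * a * g⁻¹, hmaps a a.2⟩
  have hf : Function.Surjective f := Finite.surjective_of_injective fun a b hab => Subtype.ext (by
    have h' : g * (a : GL I8 F) * g⁻¹ = g * b * g⁻¹ := congrArg Subtype.val hab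
    simpa using h')
  refine Subgroup.mem_normalizer_iff.2 fun a => ⟨hmaps a, fun ha => ?_⟩
  obtain ⟨b, hb⟩ := hf ⟨_, ha⟩
  have h' : g * (b : GL I8 F) * g⁻¹ = g * a * g⁻¹ := congrArg Subtype.val hb
  have : (b : GL I8 F) = a := by simpa using h'
  exact this ▸ b.2

theorem Nm_conj {h : GL I8 F} (hh : h ∈ Nm hS) {a : GL I8 F} (ha : a ∈ dbl hS) :
    h * a * h⁻¹ ∈ dbl hS := (Subgroup.mem_normalizer_iff.1 hh.1 a).1 ha

/-- Elements of the small normaliser act on both halves at once. -/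
theorem dg_self_mem [Finite F] {a : GL I4 F} (ha : a ∈ N4 R) : dg (a, a) ∈ Nm hS := by
  refine mem_Nm_of hS (dg_mem_iff.2 ⟨ha.2, ha.2⟩) ?_
  rintro X ⟨s, ⟨b, hb, rfl⟩, hp⟩
  have e : (a : M4 F) * b = ((a * b * a⁻¹ : GL I4 F) : M4 F) * a := by
    rw [← Units.val_mul, ← Units.val_mul, inv_mul_cancel_right]
  have hc : InR R ((a * b * a⁻¹ : GL I4 F) : M4 F) := ⟨_, (Subgroup.mem_normalizer_iff.1 ha.1 b).1 hb, rfl⟩
  generalize ((a * b * a⁻¹ : GL I4 F) : M4 F) = c at e hc
  rcases hp with rfl | rfl | rfl | rfl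
  · exact ⟨_, InD.diag hc, by simp only [dg_val, blk_mul]; simp [e]⟩
  · exact ⟨_, InD.diag_neg hc, by simp only [dg_val, blk_mul]; simp [e]⟩
  · exact ⟨_, InD.anti hc, by simp only [dg_val, blk_mul]; simp [e]⟩
  · exact ⟨_, InD.anti_neg hc, by simp only [dg_val, blk_mul]; simp [e]⟩

/-- An element of the small group on the first half alone. -/
theorem dg_one_mem [Finite F] (hle : R ≤ Cfsg.spGL 2 F) {t : GL I4 F} (ht : t ∈ R) :
    dg (t, 1) ∈ Nm hS := by
  refine mem_Nm_of hS (dg_mem_iff.2 ⟨hle ht, Subgroup.one_mem _⟩) ?_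
  rintro X ⟨s, hs, hp⟩
  have ht' : InR R (t : M4 F) := ⟨t, ht, rfl⟩
  have hti : InR R ((t⁻¹ : GL I4 F) : M4 F) := ⟨_, R.inv_mem ht, rfl⟩
  have h1 := Units.mul_inv t
  have h2 := Units.inv_mul t
  have hflip : (t : M4 F) * s = s * ((t⁻¹ : GL I4 F) : M4 F) ∨ (t : M4 F) * s = -(s * ((t⁻¹ : GL I4 F) : M4 F)) := by
    rcases hS.sq ht' with q | q <;> rcases hS.comm' ht' hs with e | e
    · rw [Units.inv_eq_of_mul_eq_one_right (u := t) q]; exact Or.inl e
    · rw [Units.inv_eq_of_mul_eq_one_right (u := t) q]; exact Or.inr e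
    · rw [Units.inv_eq_of_mul_eq_one_right (u := t) (a := -(t : M4 F)) (by rw [mul_neg, q, neg_neg]), mul_neg,
        neg_neg]
      exact Or.inr e
    · rw [Units.inv_eq_of_mul_eq_one_right (u := t) (a := -(t : M4 F)) (by rw [mul_neg, q, neg_neg]), mul_neg]
      exact Or.inl e
  rcases hp with rfl | rfl | rfl | rfl
  · rcases hS.comm' ht' hs with e | e
    · exact ⟨_, InD.diag hs, by simp [dg_val, blk_mul, e]⟩
    · exact ⟨_, InD.diag_neg (hs.neg hS), by simp [dg_val, blk_mul, e]⟩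
  · rcases hS.comm' ht' hs with e | e
    · exact ⟨_, InD.diag_neg hs, by simp [dg_val, blk_mul, e]⟩
    · exact ⟨_, InD.diag (hs.neg hS), by simp [dg_val, blk_mul, e]⟩
  · rcases hflip with e | e
    · exact ⟨_, InD.anti (hs.mul hti), by simp [dg_val, blk_mul, mul_assoc, e]⟩
    · exact ⟨_, InD.anti_neg (hs.mul hti), by simp [dg_val, blk_mul, mul_assoc, e]⟩
  · rcases hflip with e | e
    · exact ⟨_, InD.anti_neg (hs.mul hti), by simp [dg_val, blk_mul, mul_assoc, e]⟩
    · exact ⟨_, InD.anti (hs.mul hti), by simp [dg_val, blk_mul, mul_assoc, e]⟩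

end CfsgLib.Geo.SpEight
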