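import Cfsg.Agent.Geo.SpEight.Blocks
import Cfsg.Agent.Geo.SpEight.Group
import Mathlib.LinearAlgebra.Matrix.GeneralLinearGroup.Basic

/-!
The centraliser of the element of square minus one as matrices over a field with a square root of minus one.
-/

set_option autoImplicit false
set_option linter.unusedSectionVars false
set_option linter.unusedSimpArgs false
set_option linter.style.haveILetI false

namespace CfsgLib.Geo.SpEight

open Matrix CfsgLib.Elusive.PauliMinus

variable {F : Type*} [Field F]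

/-- The upper left block. -/
def re (L : M8 F) : M4 F := ((Matrix.reindexAlgEquiv F F e8).symm L).toBlocks₁₁

/-- The lower left block. -/
def im (L : M8 F) : M4 F := ((Matrix.reindexAlgEquiv F F e8).symm L).toBlocks₂₁

theorem re_blk (a b c d : M4 F) : re (blk a b c d) = a := by
  rw [re, blk, AlgEquiv.symm_apply_apply, Matrix.toBlocks_fromBlocks₁₁]

theorem im_blk (a b c d : M4 F) : im (blk a b c d) = c := by
  rw [im, blk, AlgEquiv.symm_apply_apply, Matrix.toBlocks_fromBlocks₂₁]

/-- The centraliser in the symplectic group. -/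
def Cu (F : Type*) [Field F] : Subgroup (GL I8 F) :=
  Subgroup.centralizer {(u0 : GL I8 F)} ⊓ Cfsg.spGL 4 F

theorem mem_Cu {L : GL I8 F} : L ∈ Cu F ↔ L * u0 = u0 * L ∧ L ∈ Cfsg.spGL 4 F := by
  simp [Cu, Subgroup.mem_centralizer_singleton_iff, eq_comm]

theorem Cu_blk {L : GL I8 F} (hL : L ∈ Cu F) :
    (L : M8 F) = blk (re (L : M8 F)) (-im (L : M8 F)) (im (L : M8 F)) (re (L : M8 F)) := by
  obtain ⟨a, b, c, d, e⟩ := exists_blk (L : M8 F)
  have h := congrArg Units.val (mem_Cu.1 hL).1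
  rw [Units.val_mul, Units.val_mul, u0_val, e, blk_mul, blk_mul, blk_inj] at h
  simp only [mul_zero, zero_mul, mul_one, one_mul, mul_neg, neg_mul, add_zero, zero_add] at h
  rw [e, re_blk, im_blk, blk_inj]
  exact ⟨rfl, h.1, rfl, (neg_inj.1 h.2.1).symm⟩

theorem Cu_form {L : GL I8 F} (hL : L ∈ Cu F) :
    (re (L : M8 F))ᵀ * J4 F * re (L : M8 F) + (im (L : M8 F))ᵀ * J4 F * im (L : M8 F) = J4 F ∧
      (re (L : M8 F))ᵀ * J4 F * im (L : M8 F) = (im (L : M8 F))ᵀ * J4 F * re (L : M8 F) := by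
  have h := mem_spGL_iff.1 (mem_Cu.1 hL).2
  rw [Cu_blk hL, ← blk_J, blk_transpose, blk_mul, blk_mul, blk_inj] at h
  simp only [mul_zero, zero_mul, add_zero, zero_add, Matrix.transpose_neg, neg_mul, mul_neg, neg_neg] at h
  exact ⟨h.1, neg_add_eq_zero.1 h.2.1⟩

theorem x0_mem_sp : (x0 : GL I8 F) ∈ Cfsg.spGL 4 F := by
  rw [mem_spGL_iff, x0_val, ← blk_J, blk_transpose, blk_mul, blk_mul]
  simp

theorem x0_mul_x0 : (x0 : GL I8 F) * x0 = 1 :=
  Units.ext (by simp [Units.val_mul, x0_val, blk_mul, blk_one])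

theorem conj_x0_mem {L : GL I8 F} (hL : L ∈ Cu F) : x0 * L * x0 ∈ Cu F := by
  obtain ⟨h1, h2⟩ := mem_Cu.1 hL
  have hxu : (x0 : GL I8 F) * u0 = -(u0 * x0) :=
    Units.ext (by simp [Units.val_mul, x0_val, u0_val, blk_mul, blk_neg])
  refine mem_Cu.2 ⟨?_, Subgroup.mul_mem _ (Subgroup.mul_mem _ x0_mem_sp h2) x0_mem_sp⟩
  calc x0 * L * x0 * u0 = -(x0 * (L * u0) * x0) := by rw [mul_assoc _ x0 u0, hxu]; simp [mul_assoc]
    _ = -(x0 * (u0 * L) * x0) := by rw [h1]
    _ = u0 * (x0 * L * x0) := by rw [← mul_assoc x0, hxu]; simp [mul_assoc]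

variable {K : Type*} [Field K] (ι : F →+* K) (i : K)

/-- The matrix over the larger field. -/
def zmat (L : M8 F) : M4 K := ι.mapMatrix (re L) + i • ι.mapMatrix (im L)

theorem mapMatrix_smul (c : F) (M : M4 F) : ι.mapMatrix (c • M) = ι c • ι.mapMatrix M := by
  ext a b; simp

theorem mapMatrix_injective : Function.Injective (ι.mapMatrix : M4 F → M4 K) :=
  fun a b h => Matrix.map_injective ι.injective h

theorem mapMatrix_transpose (M : M4 F) : ι.mapMatrix Mᵀ = (ι.mapMatrix M)ᵀ := by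
  ext a b; simp

theorem mapMatrix_J : ι.mapMatrix (J4 F) = J4 K := by
  simp [J4, Matrix.map_J]

variable {ι i} (hi : i * i = -1)
include hi

theorem zmat_one : zmat ι i (1 : M8 F) = 1 := by
  rw [← blk_one, zmat, re_blk, im_blk, map_one, map_zero, smul_zero, add_zero]

theorem zmat_mul {L L' : GL I8 F} (hL : L ∈ Cu F) (hL' : L' ∈ Cu F) :
    zmat ι i ((L * L' : GL I8 F) : M8 F) = zmat ι i (L : M8 F) * zmat ι i (L' : M8 F) := by
  rw [Units.val_mul, zmat, zmat, zmat, Cu_blk hL, Cu_blk hL', blk_mul, re_blk, im_blk, re_blk, im_blk, re_blk,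
    im_blk]
  simp only [map_add, map_mul, map_neg, neg_mul, add_mul, mul_add, smul_mul_assoc, mul_smul_comm, smul_smul, hi,
    smul_add, neg_one_smul]
  abel

/-- The homomorphism to matrices over the larger field. -/
def phi : Cu F →* GL I4 K :=
  MonoidHom.toHomUnits
    { toFun := fun L => zmat ι i ((L : GL I8 F) : M8 F)
      map_one' := zmat_one hi
      map_mul' := fun L L' => zmat_mul hi L.2 L'.2 }

theorem phi_val (L : Cu F) : (phi (ι := ι) hi L : M4 K) = zmat ι i ((L : GL I8 F) : M8 F) := rfl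

theorem phi_bar {L : GL I8 F} (hL : L ∈ Cu F) :
    zmat ι i ((x0 * L * x0 : GL I8 F) : M8 F) = ι.mapMatrix (re (L : M8 F)) - i • ι.mapMatrix (im (L : M8 F)) := by
  rw [zmat, Units.val_mul, Units.val_mul, x0_val, Cu_blk hL, blk_mul, blk_mul, re_blk, im_blk, re_blk, im_blk]
  simp only [mul_one, one_mul, mul_zero, zero_mul, add_zero, zero_add, neg_mul, mul_neg, neg_neg, map_neg, smul_neg,
    sub_eq_add_neg]

/-- The conjugate of the image is the partner under the form. -/
theorem phi_form {L : GL I8 F} (hL : L ∈ Cu F) :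
    (zmat ι i ((x0 * L * x0 : GL I8 F) : M8 F))ᵀ * J4 K * zmat ι i (L : M8 F) = J4 K := by
  obtain ⟨h1, h2⟩ := Cu_form hL
  have e1 := congrArg ι.mapMatrix h1
  have e2 := congrArg ι.mapMatrix h2
  simp only [map_add, map_mul, mapMatrix_transpose, mapMatrix_J] at e1 e2
  rw [phi_bar hi hL, zmat, Matrix.transpose_sub, Matrix.transpose_smul]
  simp only [sub_mul, mul_add, smul_mul_assoc, mul_smul_comm, smul_smul, hi, neg_one_smul, smul_add, smul_sub]
  rw [← e2]
  conv_rhs => rw [← e1]
  abel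

theorem i_ne_zero : i ≠ 0 := fun e => by
  rw [e, mul_zero] at hi; exact neg_ne_zero.2 one_ne_zero hi.symm

theorem phi_injective (h2 : (2 : F) ≠ 0) : Function.Injective (phi (ι := ι) hi : Cu F → GL I4 K) := by
  rw [injective_iff_map_eq_one]
  intro L hL
  have hz : zmat ι i ((L : GL I8 F) : M8 F) = 1 := congrArg Units.val hL
  have hf := phi_form (ι := ι) hi L.2
  rw [hz, mul_one] at hf
  have hb : zmat ι i ((x0 * (L : GL I8 F) * x0 : GL I8 F) : M8 F) = 1 := by
    have := congrArg Matrix.transpose (congrArg (fun X => -(X * J4 K)) hf)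
    simp only [mul_assoc, Matrix.J_squared, mul_neg, mul_one, neg_neg, Matrix.transpose_transpose,
      Matrix.transpose_one] at this ⊢
    exact this
  rw [phi_bar hi L.2] at hb
  rw [zmat] at hz
  have h2' : (2 : K) ≠ 0 := fun e => h2 (ι.injective (by rw [map_ofNat, e, map_zero]))
  have him : im ((L : GL I8 F) : M8 F) = 0 := by
    refine mapMatrix_injective ι ?_
    rw [map_zero]
    have : ((2 : K) * i) • ι.mapMatrix (im ((L : GL I8 F) : M8 F)) = 0 := by
      linear_combination (norm := module) hz - hb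
    exact (smul_eq_zero.1 this).resolve_left (mul_ne_zero h2' (i_ne_zero hi))
  rw [him, map_zero, smul_zero, add_zero] at hz
  refine Subtype.ext (Units.ext ?_)
  rw [Cu_blk L.2, him, neg_zero, mapMatrix_injective ι (hz.trans (map_one ι.mapMatrix).symm), blk_one]
  simp

/-- An element with a partner under the form lifts. -/
theorem exists_lift (h2 : (2 : F) ≠ 0) (a b : M4 F)
    (h : (ι.mapMatrix a - i • ι.mapMatrix b)ᵀ * J4 K * (ι.mapMatrix a + i • ι.mapMatrix b) = J4 K) :
    ∃ L : Cu F, (phi (ι := ι) hi L : M4 K) = ι.mapMatrix a + i • ι.mapMatrix b := by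
  have h' := congrArg Matrix.transpose h
  simp only [Matrix.transpose_mul, Matrix.transpose_transpose, Matrix.J_transpose, ← mul_assoc, mul_neg, neg_mul,
    neg_inj] at h'
  have h2' : (2 : K) ≠ 0 := fun e => h2 (ι.injective (by rw [map_ofNat, e, map_zero]))
  rw [Matrix.transpose_sub, Matrix.transpose_smul] at h
  rw [Matrix.transpose_add, Matrix.transpose_smul] at h'
  simp only [sub_mul, mul_add, add_mul, mul_sub, smul_mul_assoc, mul_smul_comm, smul_smul, hi, neg_one_smul,
    smul_add, smul_sub] at h h'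
  have hre : aᵀ * J4 F * a + bᵀ * J4 F * b = J4 F := by
    refine mapMatrix_injective ι (smul_right_injective _ h2' ?_)
    simp only [map_add, map_mul, mapMatrix_transpose, mapMatrix_J]
    linear_combination (norm := module) h + h'
  have him : aᵀ * J4 F * b = bᵀ * J4 F * a := by
    refine mapMatrix_injective ι (smul_right_injective _ (mul_ne_zero h2' (i_ne_zero hi)) ?_)
    simp only [map_mul, mapMatrix_transpose, mapMatrix_J]
    linear_combination (norm := module) h - h'
  set Lm := blk a (-b) b a with hLm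
  have hsymp : Lmᵀ * Matrix.J (Fin 4) F * Lm = Matrix.J (Fin 4) F := by
    rw [hLm, ← blk_J, blk_transpose, blk_mul, blk_mul, blk_inj]
    simp only [mul_zero, zero_mul, add_zero, zero_add, Matrix.transpose_neg, neg_mul, mul_neg, neg_neg]
    exact ⟨hre, by rw [him, neg_add_cancel], by rw [him, neg_add_cancel], by rw [add_comm]; exact hre⟩
  have hinv : -(Matrix.J (Fin 4) F) * Lmᵀ * Matrix.J (Fin 4) F * Lm = 1 := by
    rw [mul_assoc (-(Matrix.J (Fin 4) F)), mul_assoc (-(Matrix.J (Fin 4) F)), hsymp, neg_mul,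
      Matrix.J_squared, neg_neg]
  let L : GL I8 F := ⟨Lm, _, mul_eq_one_comm.1 hinv, hinv⟩
  have hL : L ∈ Cu F := mem_Cu.2 ⟨Units.ext (by simp [L, Lm, Units.val_mul, u0_val, blk_mul]), mem_spGL_iff.2 hsymp⟩
  refine ⟨⟨L, hL⟩, ?_⟩
  rw [phi_val, zmat]
  show ι.mapMatrix (re Lm) + i • ι.mapMatrix (im Lm) = _
  rw [hLm, re_blk, im_blk]

end CfsgLib.Geo.SpEight
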