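import Mathlib.LinearAlgebra.BilinearForm.Orthogonal
import Mathlib.LinearAlgebra.Dual.Lemmas
import Mathlib.FieldTheory.Finite.Basic
import Mathlib.Tactic

/-!
In a six-dimensional quadratic space of minus type over the field of two elements no space of isometries
shares one fixed space and has the same dimension as it.
-/

set_option autoImplicit false
set_option linter.unusedSectionVars false

namespace CfsgLib.Geo.SpEight

open Module

variable {V : Type*} [AddCommGroup V] [Module (ZMod 2) V] [FiniteDimensional (ZMod 2) V]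

theorem zmod_two_eq (a : ZMod 2) : a = 0 ∨ a = 1 :=
  (by decide : ∀ a : ZMod 2, a = 0 ∨ a = 1) a

theorem no_fixer (hV : finrank (ZMod 2) V = 6) (B : LinearMap.BilinForm (ZMod 2) V) (hB : B.Nondegenerate)
    (halt : B.IsAlt) (Q : V → ZMod 2) (hQ : ∀ v w, Q (v + w) = Q v + Q w + B v w)
    (hminus : ∀ W : Submodule (ZMod 2) V, (∀ w ∈ W, Q w = 0) → finrank (ZMod 2) W < 3)
    (W : Submodule (ZMod 2) V) (hW : W ≠ ⊥) (E : Submodule (ZMod 2) (V →ₗ[ZMod 2] V))
    (hdim : finrank (ZMod 2) E = finrank (ZMod 2) W) (hker : ∀ S ∈ E, S ≠ 0 → LinearMap.ker S = W)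
    (hsq : ∀ S ∈ E, ∀ v, S (S v) = 0) (hiso : ∀ S ∈ E, ∀ v, Q (v + S v) = Q v) : False := by
  classical
  have hWpos : 0 < finrank (ZMod 2) W :=
    Nat.pos_of_ne_zero fun h => hW (Submodule.finrank_eq_zero.1 h)
  have hz : ∀ S ∈ E, ∀ v, v ∈ W → S v = 0 := by
    intro S hS v hv
    by_cases h : S = 0
    · simp [h]
    · exact LinearMap.mem_ker.1 (by rw [hker S hS h]; exact hv)
  have hrW : ∀ S ∈ E, ∀ v, S v ∈ W := by
    intro S hS v
    by_cases h : S = 0
    · simp [h]
    · rw [← hker S hS h]; exact LinearMap.mem_ker.2 (hsq S hS v)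
  have hperp : ∀ S ∈ E, ∀ v, ∀ w ∈ W, B (S v) w = 0 := by
    intro S hS v w hw
    have h1 := hiso S hS (v + w)
    rw [map_add, hz S hS w hw, add_zero, add_right_comm, hQ (v + S v) w, hiso S hS v, hQ v w, map_add,
      LinearMap.add_apply] at h1
    linear_combination h1
  have hsym : ∀ S ∈ E, ∀ v w, B (S v) w = B v (S w) := by
    intro S hS v w
    have h1 := hiso S hS (v + w)
    rw [map_add, show v + w + (S v + S w) = v + S v + (w + S w) by abel, hQ (v + S v) (w + S w), hiso S hS v,
      hiso S hS w, hQ v w] at h1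
    simp only [map_add, LinearMap.add_apply, hperp S hS v _ (hrW S hS w)] at h1
    have h2 : B (S v) w + B v (S w) = 0 := by linear_combination h1
    rcases zmod_two_eq (B (S v) w) with e | e <;> rcases zmod_two_eq (B v (S w)) with e' | e' <;>
      rw [e, e'] <;> rw [e, e'] at h2 <;> first | rfl | exact absurd h2 (by decide)
  -- the common range
  obtain ⟨S₁, hS₁, hS₁0⟩ : ∃ S ∈ E, S ≠ 0 := by
    by_contra hall
    push Not at hall
    have : E = ⊥ := (Submodule.eq_bot_iff _).2 hall
    rw [this, finrank_bot] at hdim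
    omega
  set L := B.orthogonal W with hL
  have hmemL : ∀ v, v ∈ L ↔ ∀ w ∈ W, B w v = 0 := fun v => Iff.rfl
  have hrL : ∀ S ∈ E, ∀ v, S v ∈ L := fun S hS v w hw => by
    show B w (S v) = 0
    rw [← LinearMap.IsAlt.neg halt, hperp S hS v w hw, neg_zero]
  have hLdim : finrank (ZMod 2) L = 6 - finrank (ZMod 2) W := by
    rw [hL, LinearMap.BilinForm.finrank_orthogonal hB, hV]
  have hrn := S₁.finrank_range_add_finrank_ker
  rw [hker S₁ hS₁ hS₁0, hV] at hrn
  have hrange : LinearMap.range S₁ = L := Submodule.eq_of_le_of_finrank_le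
    (by rintro _ ⟨v, rfl⟩; exact hrL S₁ hS₁ v) (by omega)
  have hLW : L ≤ W := by
    rw [← hrange]; rintro _ ⟨v, rfl⟩; exact hrW S₁ hS₁ v
  obtain ⟨v₀, hv₀⟩ : ∃ v, v ∉ W := by
    by_contra hall
    push Not at hall
    exact hS₁0 (LinearMap.ext fun v => hz S₁ hS₁ v (hall v))
  let ev : E →ₗ[ZMod 2] L :=
    { toFun := fun S => ⟨(S : V →ₗ[ZMod 2] V) v₀, hrL S S.2 v₀⟩
      map_add' := fun S T => rfl
      map_smul' := fun c S => rfl }
  have hev : Function.Injective ev := by
    rw [injective_iff_map_eq_zero]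
    intro S hS
    by_contra h0
    exact hv₀ (by rw [← hker S S.2 fun e => h0 (Subtype.ext e)]; exact LinearMap.mem_ker.2 (congrArg Subtype.val hS))
  have h3 : finrank (ZMod 2) W = 3 := by
    have h1 := LinearMap.finrank_le_finrank_of_injective hev
    have h2 := Submodule.finrank_mono hLW
    omega
  have hWW : L = W := Submodule.eq_of_le_of_finrank_le hLW (by omega)
  have hWiso : ∀ v ∈ W, ∀ w ∈ W, B v w = 0 := fun v hv w hw => (hmemL w).1 (hWW.symm ▸ hw) v hv
  -- the vector giving the quadratic form on `W`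
  let f : W →ₗ[ZMod 2] ZMod 2 :=
    { toFun := fun w => Q w
      map_add' := fun v w => by
        show Q ((v : V) + w) = Q v + Q w
        rw [hQ, hWiso v v.2 w w.2, add_zero]
      map_smul' := fun c w => by
        rcases zmod_two_eq c with rfl | rfl
        · have h0 := hQ 0 0
          simp only [add_zero, map_zero, LinearMap.zero_apply] at h0
          show Q (((0 : ZMod 2) • w : W) : V) = (0 : ZMod 2) • Q (w : V)
          rw [zero_smul, zero_smul, Submodule.coe_zero]
          linear_combination -h0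
        · show Q (((1 : ZMod 2) • w : W) : V) = (1 : ZMod 2) • Q (w : V)
          rw [one_smul, one_smul] }
  obtain ⟨g, hg⟩ := f.exists_extend
  obtain ⟨c, hc⟩ : ∃ c, ∀ w ∈ W, B c w = Q w := by
    refine ⟨(B.toDual hB).symm g, fun w hw => ?_⟩
    rw [LinearMap.BilinForm.apply_toDual_symm_apply]
    exact LinearMap.congr_fun hg ⟨w, hw⟩
  have hcW : c ∉ W := fun h => absurd (hminus W fun w hw => by rw [← hc w hw, hWiso c h w hw]) (by omega)
  have hself : ∀ S ∈ E, ∀ v, B v (S v) = B c (S v) := by
    intro S hS v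
    have h1 := hiso S hS v
    rw [hQ, ← hc _ (hrW S hS v)] at h1
    have h2 : B c (S v) + B v (S v) = 0 := by linear_combination h1
    rcases zmod_two_eq (B v (S v)) with e | e <;> rcases zmod_two_eq (B c (S v)) with e' | e' <;>
      rw [e, e'] <;> rw [e, e'] at h2 <;> first | rfl | exact absurd h2 (by decide)
  let ψ : E →ₗ[ZMod 2] ZMod 2 :=
    { toFun := fun S => B c ((S : V →ₗ[ZMod 2] V) c)
      map_add' := fun S T => by simp
      map_smul' := fun a S => by simp }
  obtain ⟨⟨S, hS⟩, hS0, hSne⟩ : ∃ S : E, ψ S = 0 ∧ S ≠ 0 := by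
    by_contra hall
    push Not at hall
    have h1 := LinearMap.finrank_le_finrank_of_injective ((injective_iff_map_eq_zero ψ).2 hall)
    rw [finrank_self] at h1
    omega
  have hScc : B c (S c) = 0 := hS0
  have hSk := hker S hS fun e => hSne (Subtype.ext e)
  let φ : V → (V →ₗ[ZMod 2] ZMod 2) := fun t => (B t).comp S
  set X := LinearMap.ker (φ c) with hX
  have hWX : ∀ t, W ≤ LinearMap.ker (φ t) := fun t v hv => LinearMap.mem_ker.2 (by simp [φ, hz S hS v hv])
  have hX5 : 5 ≤ finrank (ZMod 2) X := by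
    have h1 := (φ c).finrank_range_add_finrank_ker
    have h2 := Submodule.finrank_le (LinearMap.range (φ c))
    rw [finrank_self] at h2
    rw [hV] at h1
    rw [hX]
    omega
  set U := W ⊔ Submodule.span (ZMod 2) {c} with hU
  have hU4 : finrank (ZMod 2) U ≤ 4 := by
    have := Submodule.finrank_add_le_finrank_add_finrank W (Submodule.span (ZMod 2) {c})
    have h1 : finrank (ZMod 2) (Submodule.span (ZMod 2) {c}) ≤ 1 := (finrank_span_le_card {c}).trans (by simp)
    rw [← hU] at this
    omega
  obtain ⟨t, htX, htU⟩ : ∃ t ∈ X, t ∉ U := by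
    by_contra hall
    push Not at hall
    have := Submodule.finrank_mono (hall : X ≤ U)
    omega
  have htX' : B c (S t) = 0 := htX
  set U' := U ⊔ Submodule.span (ZMod 2) {t} with hU'
  have hle : ∀ a, B a (S c) = 0 → B a (S t) = 0 → U' ≤ LinearMap.ker (φ a) := fun a h1 h2 =>
    sup_le (sup_le (hWX a) ((Submodule.span_singleton_le_iff_mem _ _).2 h1))
      ((Submodule.span_singleton_le_iff_mem _ _).2 h2)
  have hct : B t (S c) = 0 := by rw [← hsym S hS, ← LinearMap.IsAlt.neg halt, htX', neg_zero]
  have hne : ∀ a, a ∉ W → LinearMap.ker (φ a) ≠ ⊤ := fun a ha e => ha (by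
    rw [← hSk]
    refine LinearMap.mem_ker.2 (hB.1 _ fun v => ?_)
    rw [hsym S hS]
    exact LinearMap.mem_ker.1 (show v ∈ LinearMap.ker (φ a) by rw [e]; trivial))
  have hU5 : 5 ≤ finrank (ZMod 2) U' := by
    have h1 : W < U := by
      refine lt_of_le_of_ne le_sup_left fun e => hcW ?_
      rw [e]
      exact Submodule.mem_sup_right (Submodule.mem_span_singleton_self c)
    have h2 : U < U' := by
      refine lt_of_le_of_ne le_sup_left fun e => htU ?_
      rw [e]
      exact Submodule.mem_sup_right (Submodule.mem_span_singleton_self t)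
    have := Submodule.finrank_lt_finrank_of_lt h1
    have := Submodule.finrank_lt_finrank_of_lt h2
    omega
  have heq : ∀ a, a ∉ W → B a (S c) = 0 → B a (S t) = 0 → U' = LinearMap.ker (φ a) := fun a ha h1 h2 =>
    Submodule.eq_of_le_of_finrank_le (hle a h1 h2) (by
      have := Submodule.finrank_lt (hne a ha)
      omega)
  have htW : t ∉ W := fun h => htU (Submodule.mem_sup_left h)
  have k1 := heq c hcW hScc htX'
  have k2 := heq t htW hct (by rw [hself S hS t]; exact htX')
  have hk : φ t = φ c := by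
    refine LinearMap.ext fun v => ?_
    rcases zmod_two_eq (φ t v) with e | e <;> rcases zmod_two_eq (φ c v) with e' | e' <;> rw [e, e']
    · have : v ∈ LinearMap.ker (φ c) := k1 ▸ k2.symm ▸ LinearMap.mem_ker.2 e
      exact absurd (e'.symm.trans (LinearMap.mem_ker.1 this)) (by decide)
    · have : v ∈ LinearMap.ker (φ t) := k2 ▸ k1.symm ▸ LinearMap.mem_ker.2 e'
      exact absurd (e.symm.trans (LinearMap.mem_ker.1 this)) (by decide)
  refine hne (t + c) (fun h => htU ?_) (LinearMap.ker_eq_top.2 (LinearMap.ext fun v => ?_))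
  · have := Submodule.sub_mem U (Submodule.mem_sup_left h)
      (Submodule.mem_sup_right (Submodule.mem_span_singleton_self c) : c ∈ U)
    rwa [add_sub_cancel_right] at this
  · have := LinearMap.congr_fun hk v
    simp only [φ, LinearMap.comp_apply] at this ⊢
    rw [map_add, LinearMap.add_apply, this]
    exact CharTwo.add_self_eq_zero _

end CfsgLib.Geo.SpEight
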