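import Cfsg.Agent.Geo.SpEight.Plus
import Cfsg.Agent.Geo.SpEight.Cx

/-!
Inside a proper overgroup of the normaliser, the centraliser of the element of square minus one lies in
the normaliser, once the image of the group in dimension four over the larger field has maximal normaliser.
-/

set_option autoImplicit false
set_option linter.unusedSectionVars false
set_option linter.unusedSimpArgs false
set_option linter.style.haveILetI false

namespace CfsgLib.Geo.SpEight

open Matrix CfsgLib.Elusive.PauliMinus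

variable {F : Type*} [Field F] [Finite F] {R : Subgroup (GL I4 F)} {hS : Grp R}
  {K : Type*} [Field K] {ι : F →+* K} {i : K} (hi : i * i = -1)

variable (ι) in
/-- The special linear group over the larger field, inside the image of the centraliser. -/
def G0 : Subgroup (GL I4 K) :=
  (phi (ι := ι) hi).range ⊓ (Matrix.GeneralLinearGroup.det : GL I4 K →* Kˣ).ker

variable (hS) (ι) in
/-- The image of the doubled group. -/
def RK : Subgroup (GL I4 K) := ((dbl hS).subgroupOf (Cu F)).map (phi (ι := ι) hi)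

/-- The small group over the larger field. -/
theorem grp_map (hS : Grp R) (ι : F →+* K) : Grp (R.map (Units.map (ι.mapMatrix : M4 F →+* M4 K).toMonoidHom)) := by
  have hinj : Function.Injective (Units.map (ι.mapMatrix : M4 F →+* M4 K).toMonoidHom) :=
    Units.map_injective (mapMatrix_injective ι)
  refine ⟨fun e => hS.two (ι.injective (by rw [map_ofNat, e, map_zero])), fun M hM => ?_, ?_, ?_, ?_, ?_, ?_⟩
  · letI := ι.toAlgebra
    letI : Module F K := Algebra.toModule
    have hf : ∀ f : K →ₗ[F] F, ∃ c : F, M.map f = c • 1 := fun f => by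
      refine hS.commutant _ fun g hg => ?_
      have h := hM _ (Subgroup.mem_map_of_mem _ hg)
      ext a b
      have h' := congrFun (congrFun h a) b
      simp only [Matrix.mul_apply] at h'
      have := congrArg f h'
      simp only [map_sum] at this
      simp only [Matrix.mul_apply, Matrix.map_apply]
      refine (Finset.sum_congr rfl fun x _ => ?_).trans (this.trans (Finset.sum_congr rfl fun x _ => ?_))
      · show f (M a x) * (g : M4 F) x b = f (M a x * ι ((g : M4 F) x b))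
        rw [mul_comm (M a x), show ι ((g : M4 F) x b) * M a x = (g : M4 F) x b • M a x from rfl, map_smul,
          smul_eq_mul, mul_comm]
      · show f (ι ((g : M4 F) a x) * M x b) = (g : M4 F) a x * f (M x b)
        rw [show ι ((g : M4 F) a x) * M x b = (g : M4 F) a x • M x b from rfl, map_smul, smul_eq_mul]
    refine ⟨M (.inl 0) (.inl 0), ?_⟩
    ext a b
    rw [← sub_eq_zero]
    refine Module.forall_dual_apply_eq_zero_iff F _ |>.1 fun f => ?_
    obtain ⟨c, hc⟩ := hf f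
    have h1 := congrFun (congrFun hc a) b
    have h2 := congrFun (congrFun hc (.inl 0)) (.inl 0)
    simp only [Matrix.map_apply, Matrix.smul_apply, Matrix.one_apply, smul_eq_mul] at h1 h2
    rw [map_sub, h1, Matrix.smul_apply, Matrix.one_apply, smul_eq_mul]
    by_cases hab : a = b <;> simp [hab, h2]
  · refine ⟨-1, hS.neg, Units.ext ?_⟩
    simp
  · rintro _ ⟨g, hg, rfl⟩ c hc
    have h00 := congrFun (congrFun hc (.inl 0)) (.inl 0)
    simp at h00
    have hg' : (g : M4 F) = (g : M4 F) (.inl 0) (.inl 0) • 1 := by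
      refine mapMatrix_injective ι ?_
      rw [mapMatrix_smul, map_one, h00]
      exact hc
    rcases hS.scal g hg _ hg' with e | e <;> rw [e] at h00
    · exact Or.inl (by simpa using h00.symm)
    · exact Or.inr (by simpa using h00.symm)
  · rintro _ ⟨g, hg, rfl⟩ _ ⟨h, hh, rfl⟩
    rcases hS.comm g hg h hh with e | e
    · refine Or.inl ?_
      show ι.mapMatrix (g : M4 F) * ι.mapMatrix (h : M4 F) = ι.mapMatrix (h : M4 F) * ι.mapMatrix (g : M4 F)
      rw [← map_mul, ← map_mul, e]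
    · refine Or.inr ?_
      show ι.mapMatrix (g : M4 F) * ι.mapMatrix (h : M4 F) = -(ι.mapMatrix (h : M4 F) * ι.mapMatrix (g : M4 F))
      rw [← map_mul, ← map_mul, e, map_neg]
  · rw [Subgroup.card_map_of_injective hinj, hS.card]
  · intro A hA hA2
    let e := R.equivMapOfInjective _ hinj
    rw [Nat.card_congr ((A.equivMapOfInjective e.symm.toMonoidHom e.symm.injective)).toEquiv]
    refine hS.minus _ (inferInstance) ?_
    rintro _ ⟨x, hx, rfl⟩
    rw [← map_mul, hA2 x hx, map_one]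

theorem five_map {e : Fin 5 → M4 F} (hE : Five R e) (ι : F →+* K) :
    Five (R.map (Units.map (ι.mapMatrix : M4 F →+* M4 K).toMonoidHom)) fun j => ι.mapMatrix (e j) where
  mem j := by
    obtain ⟨g, hg, hge⟩ := hE.mem j
    exact ⟨_, Subgroup.mem_map_of_mem _ hg, by rw [← hge]; rfl⟩
  sq j := by rw [← map_mul, hE.sq, map_one]
  anti a b h := by rw [← map_mul, hE.anti a b h, map_neg, map_mul]
  gen := by
    rintro _ ⟨g, hg, rfl⟩
    obtain ⟨t, ht⟩ := hE.gen g hg
    have hU : U (fun j => ι.mapMatrix (e j)) t = ι.mapMatrix (U e t) := by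
      rcases t with t | j | p <;> simp [U, map_mul]
    refine ⟨t, ?_⟩
    rw [hU]
    show ι.mapMatrix (g : M4 F) = _ ∨ ι.mapMatrix (g : M4 F) = _
    rcases ht with h | h
    · exact Or.inl (by rw [h])
    · exact Or.inr (by rw [h, map_neg])

theorem det_one_of_mem_sp {a : GL I4 F} (ha : a ∈ Cfsg.spGL 2 F) : (a : M4 F).det = 1 :=
  SymplecticGroup.det_eq_one (val_mem_symplectic ha)

/-- A repeated matrix lies in the centraliser. -/
theorem dg_mem_Cu {a : GL I4 F} (ha : a ∈ Cfsg.spGL 2 F) : dg (a, a) ∈ Cu F :=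
  mem_Cu.2 ⟨Units.ext (by simp [Units.val_mul, dg_val, u0_val, blk_mul]), dg_mem_iff.2 ⟨ha, ha⟩⟩

include hi

theorem phi_dg {a : GL I4 F} (ha : a ∈ Cfsg.spGL 2 F) :
    (phi (ι := ι) hi ⟨dg (a, a), dg_mem_Cu ha⟩ : M4 K) = ι.mapMatrix (a : M4 F) := by
  rw [phi_val]
  show zmat ι i ((dg (a, a) : GL I8 F) : M8 F) = _
  rw [dg_val, zmat, re_blk, im_blk, map_zero, smul_zero, add_zero]

theorem phi_dg_det {a : GL I4 F} (ha : a ∈ Cfsg.spGL 2 F) :
    phi (ι := ι) hi ⟨dg (a, a), dg_mem_Cu ha⟩ ∈ G0 ι hi := by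
  refine ⟨⟨_, rfl⟩, MonoidHom.mem_ker.2 (Units.ext ?_)⟩
  show (phi (ι := ι) hi ⟨dg (a, a), dg_mem_Cu ha⟩ : M4 K).det = 1
  rw [phi_dg hi ha, ← RingHom.map_det, det_one_of_mem_sp ha, map_one]

theorem phi_u0 (h : (u0 : GL I8 F) ∈ Cu F) :
    (phi (ι := ι) hi ⟨u0, h⟩ : M4 K) = i • (1 : M4 K) := by
  rw [phi_val]
  show zmat ι i ((u0 : GL I8 F) : M8 F) = _
  rw [u0_val, zmat, re_blk, im_blk, map_zero, map_one, zero_add]

/-- The elements of the doubled group in the centraliser. -/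
theorem dblU_cases {D : GL I8 F} (hD : D ∈ dbl hS) (hC : D ∈ Cu F) :
    ∃ s, InR R s ∧ ((phi (ι := ι) hi ⟨D, hC⟩ : M4 K) = ι.mapMatrix s ∨
      (phi (ι := ι) hi ⟨D, hC⟩ : M4 K) = i • ι.mapMatrix s) := by
  obtain ⟨s, hs, hp⟩ := hD
  have hz : ∀ a : M4 F, a = -a → InR R a → False := fun a ha hR => hS.ne_neg hR ha
  have hcu := congrArg Units.val (mem_Cu.1 hC).1
  rw [Units.val_mul, Units.val_mul, u0_val] at hcu
  rcases hp with e | e | e | e <;> rw [e] at hcu <;> refine ⟨s, hs, ?_⟩ <;>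
    rw [phi_val, show (((⟨D, hC⟩ : Cu F) : GL I8 F) : M8 F) = _ from e, zmat, re_blk, im_blk]
  · exact Or.inl (by rw [map_zero, smul_zero, add_zero])
  · simp [blk_mul, blk_inj] at hcu
    exact (hz s (by first | exact hcu | exact hcu.symm | exact hcu.2.symm | exact hcu.1.symm) hs).elim
  · simp [blk_mul, blk_inj] at hcu
    exact (hz s (by first | exact hcu | exact hcu.symm | exact hcu.2.symm | exact hcu.1.symm) hs).elim
  · exact Or.inr (by rw [map_zero, zero_add])

theorem u0_mem_Cu (hle : R ≤ Cfsg.spGL 2 F) (hS : Grp R) : (u0 : GL I8 F) ∈ Cu F :=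
  mem_Cu.2 ⟨rfl, InD.mem_sp hS hle inD_u0⟩

theorem RK_le (hle : R ≤ Cfsg.spGL 2 F) : RK hS ι hi ≤ G0 ι hi := by
  rintro _ ⟨⟨D, hC⟩, hD, rfl⟩
  refine ⟨⟨_, rfl⟩, MonoidHom.mem_ker.2 (Units.ext ?_)⟩
  show (phi (ι := ι) hi ⟨D, hC⟩ : M4 K).det = 1
  have hD' : D ∈ dbl hS := hD
  obtain ⟨s, ⟨g, hg, rfl⟩, e | e⟩ := dblU_cases (ι := ι) hi (hS := hS) hD' hC <;> rw [e]
  · rw [← RingHom.map_det, det_one_of_mem_sp (hle hg), map_one]
  · rw [Matrix.det_smul, ← RingHom.map_det, det_one_of_mem_sp (hle hg), map_one, mul_one,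
      show Fintype.card I4 = 4 from rfl, show i ^ 4 = (i * i) * (i * i) by ring, hi]
    ring

theorem RK_mem (hle : R ≤ Cfsg.spGL 2 F) {s : GL I4 F} (hs : s ∈ R) :
    phi (ι := ι) hi ⟨dg (s, s), dg_mem_Cu (hle hs)⟩ ∈ RK hS ι hi :=
  ⟨⟨dg (s, s), dg_mem_Cu (hle hs)⟩, InD.diag ⟨s, hs, rfl⟩, rfl⟩

/-- Elements of the normaliser map into the normaliser of the image. -/
theorem phi_normalizer {L : Cu F} (hL : (L : GL I8 F) ∈ Nm hS) :
    phi (ι := ι) hi L ∈ Subgroup.normalizer (RK hS ι hi : Set (GL I4 K)) := by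
  refine Subgroup.mem_normalizer_iff.2 fun x => ⟨?_, fun hx => ?_⟩
  · rintro ⟨D, hD, rfl⟩
    exact ⟨L * D * L⁻¹, Nm_conj hS hL hD, by rw [map_mul, map_mul, map_inv]⟩
  · obtain ⟨D, hD, he⟩ := hx
    refine ⟨L⁻¹ * D * L, ?_, ?_⟩
    · have := Nm_conj hS (Subgroup.inv_mem _ hL) (a := (D : GL I8 F)) hD
      rw [inv_inv] at this
      exact this
    · rw [map_mul, map_mul, map_inv, he]; group

/-- An element of determinant one in the normaliser lifts to the normaliser. -/
theorem lift_mem (hle : R ≤ Cfsg.spGL 2 F) (L : Cu F)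
    (hdet : (phi (ι := ι) hi L : M4 K).det = 1)
    (hN : phi (ι := ι) hi L ∈ Subgroup.normalizer (RK hS ι hi : Set (GL I4 K))) : (L : GL I8 F) ∈ Nm hS := by
  obtain ⟨e, hE⟩ := exists_five hS
  have hinj := phi_injective (ι := ι) hi hS.two
  -- conjugates of the part inside the centraliser
  have hA : ∀ D : Cu F, (D : GL I8 F) ∈ dbl hS → ∃ D' : Cu F, (D' : GL I8 F) ∈ dbl hS ∧ L * D = D' * L := by
    intro D hD
    obtain ⟨D', hD', he⟩ := (Subgroup.mem_normalizer_iff.1 hN _).1 (⟨D, hD, rfl⟩ : phi (ι := ι) hi D ∈ RK hS ι hi)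
    refine ⟨D', hD', ?_⟩
    rw [← map_inv, ← map_mul, ← map_mul] at he
    rw [hinj he]; group
  -- the partner
  let C : Cu F → Cu F := fun D => ⟨(x0 : GL I8 F) * (D : GL I8 F) * x0, conj_x0_mem D.2⟩
  have hCmul : ∀ D D', C (D * D') = C D * C D' := fun D D' => Subtype.ext (by
    show x0 * ((D : GL I8 F) * (D' : GL I8 F)) * x0 = x0 * (D : GL I8 F) * x0 * (x0 * (D' : GL I8 F) * x0)
    rw [show x0 * (D : GL I8 F) * x0 * (x0 * (D' : GL I8 F) * x0) = x0 * (D : GL I8 F) * (x0 * x0) * (D' : GL I8 F) * x0 by group,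
      x0_mul_x0]
    group)
  obtain ⟨w, hw⟩ : ∃ w, w = (C L)⁻¹ * L := ⟨_, rfl⟩
  -- it centralises the small group up to sign
  have hpm : ∀ j, (phi (ι := ι) hi w : M4 K) * ι.mapMatrix (e j) = ι.mapMatrix (e j) * phi (ι := ι) hi w ∨
      (phi (ι := ι) hi w : M4 K) * ι.mapMatrix (e j) = -(ι.mapMatrix (e j) * phi (ι := ι) hi w) := by
    intro j
    obtain ⟨s, hs, hse⟩ := hE.mem j
    set D : Cu F := ⟨dg (s, s), dg_mem_Cu (hle hs)⟩
    have hD : (D : GL I8 F) ∈ dbl hS := InD.diag ⟨s, hs, rfl⟩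
    obtain ⟨D', hD', he⟩ := hA D hD
    have hCD : C D = D := Subtype.ext (Units.ext (by simp [C, D, Units.val_mul, dg_val, x0_val, blk_mul]))
    have hval : ((phi (ι := ι) hi D : GL I4 K) : M4 K) = ι.mapMatrix (e j) := by rw [phi_dg hi (hle hs), hse]
    rw [← hval]
    have key : C D' = D' ∨ (C D' : GL I8 F) = -(D' : GL I8 F) := by
      rcases InD.comm hS (inD_x0 (R := R)) hD' with q | q
      · refine Or.inl (Subtype.ext ?_)
        show x0 * (D' : GL I8 F) * x0 = (D' : GL I8 F)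
        rw [show x0 * (D' : GL I8 F) = (D' : GL I8 F) * x0 from Units.ext q, mul_assoc, x0_mul_x0, mul_one]
      · refine Or.inr ?_
        show x0 * (D' : GL I8 F) * x0 = -(D' : GL I8 F)
        rw [show x0 * (D' : GL I8 F) = -((D' : GL I8 F) * x0) from Units.ext (by simpa using q), neg_mul, mul_assoc, x0_mul_x0,
          mul_one]
    have h2 : C L * D = C D' * C L := by
      rw [← hCmul, ← he, hCmul, hCD]
    have h3 : w * D = ((C L)⁻¹ * D' * C L) * w := by
      rw [hw, mul_assoc, he]; group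
    rcases key with k | k
    · left
      rw [k] at h2
      have : w * D = D * w := by rw [h3, mul_assoc _ D' (C L), ← h2]; group
      simpa only [map_mul, Units.val_mul] using congrArg (fun X => ((phi (ι := ι) hi X : GL I4 K) : M4 K)) this
    · right
      have hu : (u0 : GL I8 F) ∈ Cu F := u0_mem_Cu hi hle hS
      have hneg : (⟨u0, hu⟩ : Cu F) * ⟨u0, hu⟩ * C D' = D' := Subtype.ext (by
        show (u0 : GL I8 F) * u0 * (C D' : GL I8 F) = (D' : GL I8 F)
        rw [k, show (u0 : GL I8 F) * u0 = -1 from Units.ext (by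
          simp [Units.val_mul, u0_val, blk_mul, blk_neg, ← blk_one])]
        simp)
      rw [← hneg] at h3
      have h4 : phi (ι := ι) hi (⟨u0, hu⟩ * ⟨u0, hu⟩ : Cu F) = -1 := Units.ext (by
        rw [map_mul, Units.val_mul, phi_u0 hi hu, smul_mul_smul_comm, hi, one_mul, neg_one_smul, Units.val_neg,
          Units.val_one])
      have h5 := congrArg (phi (ι := ι) hi) h3
      have h2' := congrArg (phi (ι := ι) hi) h2
      simp only [map_mul, map_inv] at h5 h2'
      simp only [map_mul] at h4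
      rw [h4] at h5
      rw [← Units.val_mul, ← Units.val_mul, ← Units.val_neg]
      refine congrArg Units.val ?_
      rw [h5]
      simp only [neg_mul, mul_neg, one_mul, neg_inj]
      rw [mul_assoc _ (phi (ι := ι) hi (C D')) (phi (ι := ι) hi (C L)), ← h2']
      group
  obtain ⟨t, c, ⟨_, ⟨r, hr, rfl⟩, rfl⟩, hc⟩ := exists_of_pm (grp_map hS ι) (five_map hE ι) (phi (ι := ι) hi w) hpm
  -- its determinant
  have hform := congrArg Matrix.det (phi_form (ι := ι) hi L.2)
  rw [Matrix.det_mul, Matrix.det_mul, Matrix.det_transpose, ← phi_val hi L, hdet, mul_one] at hform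
  have hJ0 : (J4 K).det ≠ 0 := (Matrix.isUnit_det_J (Fin 2) K).ne_zero
  have hCdet : (phi (ι := ι) hi (C L) : M4 K).det = 1 := by
    rw [phi_val]
    exact mul_right_cancel₀ hJ0 (by rw [one_mul]; exact hform)
  have hc4 : c ^ 4 = 1 := by
    have h1 : (phi (ι := ι) hi (C L) : M4 K) * phi (ι := ι) hi w = phi (ι := ι) hi L := by
      rw [← Units.val_mul, ← map_mul, hw, mul_inv_cancel_left]
    have := congrArg Matrix.det h1
    rw [Matrix.det_mul, hCdet, hdet, one_mul, hc, Matrix.det_smul, show Fintype.card I4 = 4 from rfl] at this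
    rw [show ((Units.map (ι.mapMatrix : M4 F →+* M4 K).toMonoidHom r : GL I4 K) : M4 K) = ι.mapMatrix (r : M4 F) from rfl,
      ← RingHom.map_det, det_one_of_mem_sp (hle hr), map_one, mul_one] at this
    exact this
  have hwR : phi (ι := ι) hi w ∈ RK hS ι hi := by
    have hu : (u0 : GL I8 F) ∈ Cu F := u0_mem_Cu hi hle hS
    have hcc : c = 1 ∨ c = -1 ∨ c = i ∨ c = -i := by
      have : (c - 1) * (c + 1) * ((c - i) * (c + i)) = 0 := by
        linear_combination hc4 + (c ^ 2 - 1) * (-1 : K) * hi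
      rcases mul_eq_zero.1 this with h | h <;> rcases mul_eq_zero.1 h with h | h
      · exact Or.inl (sub_eq_zero.1 h)
      · exact Or.inr (Or.inl (eq_neg_of_add_eq_zero_left h))
      · exact Or.inr (Or.inr (Or.inl (sub_eq_zero.1 h)))
      · exact Or.inr (Or.inr (Or.inr (eq_neg_of_add_eq_zero_left h)))
    obtain ⟨n, hn⟩ : ∃ n : ℕ, c = i ^ n := by
      rcases hcc with h | h | h | h
      · exact ⟨0, by rw [h, pow_zero]⟩
      · exact ⟨2, by rw [h, pow_two, hi]⟩
      · exact ⟨1, by rw [h, pow_one]⟩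
      · exact ⟨3, by rw [h, pow_succ, pow_two, hi, neg_one_mul]⟩
    refine ⟨(⟨u0, hu⟩ : Cu F) ^ n * ⟨dg (r, r), dg_mem_Cu (hle hr)⟩, ?_, Units.ext ?_⟩
    · exact Subgroup.mul_mem _ (Subgroup.pow_mem _ (show (⟨u0, hu⟩ : Cu F) ∈ (dbl hS).subgroupOf (Cu F) from inD_u0) n)
        (InD.diag ⟨r, hr, rfl⟩)
    · rw [map_mul, map_pow, Units.val_mul, Units.val_pow_eq_pow_val, phi_u0 hi hu, phi_dg hi (hle hr), hc, hn,
        smul_pow, one_pow, smul_mul_assoc, one_mul]
      rfl
  -- the image of the sign change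
  have hx : ∃ D' ∈ dbl hS, (L : GL I8 F) * x0 = D' * (L : GL I8 F) := by
    obtain ⟨D', hD', he⟩ := (Subgroup.mem_normalizer_iff.1 hN _).1 hwR
    rw [← map_inv, ← map_mul, ← map_mul] at he
    have he' := congrArg (fun X : Cu F => (X : GL I8 F)) (hinj he)
    refine ⟨(D' : GL I8 F) * x0, (dbl hS).mul_mem hD' inD_x0, ?_⟩
    simp only [Subgroup.coe_mul, Subgroup.coe_inv, hw] at he'
    rw [he']
    show _ = (L : GL I8 F) * ((x0 * (L : GL I8 F) * x0)⁻¹ * (L : GL I8 F)) * (L : GL I8 F)⁻¹ * x0 * (L : GL I8 F)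
    rw [show (L : GL I8 F) * ((x0 * (L : GL I8 F) * x0)⁻¹ * (L : GL I8 F)) * (L : GL I8 F)⁻¹ * x0 * (L : GL I8 F) =
      (L : GL I8 F) * x0⁻¹ * (L : GL I8 F)⁻¹ * (x0⁻¹ * x0) * (L : GL I8 F) by group, inv_mul_cancel]
    have hxi : (x0 : GL I8 F)⁻¹ = x0 := inv_eq_of_mul_eq_one_right x0_mul_x0
    rw [hxi]; group
  obtain ⟨X0, hX0, heX⟩ := hx
  refine mem_Nm_of hS (mem_Cu.1 L.2).2 fun X hX => ?_
  obtain ⟨s, ⟨g, hg, rfl⟩, hp⟩ := hX
  have hu : (u0 : GL I8 F) ∈ Cu F := u0_mem_Cu hi hle hS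
  have hLu : (L : GL I8 F) * u0 = u0 * (L : GL I8 F) := (mem_Cu.1 L.2).1
  obtain ⟨D', hD', he⟩ := hA ⟨dg (g, g), dg_mem_Cu (hle hg)⟩ (InD.diag ⟨g, hg, rfl⟩)
  have he' : (L : GL I8 F) * dg (g, g) = D' * L := congrArg Subtype.val he
  have m1 : ∀ {z : GL I8 F} {z' : GL I8 F}, z' ∈ dbl hS → (L : GL I8 F) * z = z' * L →
      ∃ X', InD R X' ∧ ((L : GL I8 F) : M8 F) * (z : M8 F) = X' * (L : GL I8 F) := fun hz h =>
    ⟨_, hz, by rw [← Units.val_mul, h, Units.val_mul]⟩
  have m2 : ∀ {a a' b b' : GL I8 F}, (L : GL I8 F) * a = a' * L → (L : GL I8 F) * b = b' * L →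
      (L : GL I8 F) * (a * b) = a' * b' * L := fun {a a' b b'} h h' => by
    rw [← mul_assoc, h, mul_assoc, h', mul_assoc]
  rcases hp with rfl | rfl | rfl | rfl
  · exact m1 hD' he'
  · rw [show blk (g : M4 F) 0 0 (-(g : M4 F)) = ((dg (g, g) * x0 : GL I8 F) : M8 F) by
      simp [Units.val_mul, dg_val, x0_val, blk_mul]]
    exact m1 ((dbl hS).mul_mem hD' hX0) (m2 he' heX)
  · rw [show blk 0 (g : M4 F) (g : M4 F) 0 = ((dg (g, g) * u0 * x0 : GL I8 F) : M8 F) by
      simp [Units.val_mul, dg_val, x0_val, u0_val, blk_mul]]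
    exact m1 ((dbl hS).mul_mem ((dbl hS).mul_mem hD' inD_u0) hX0) (m2 (m2 he' hLu) heX)
  · rw [show blk 0 (-(g : M4 F)) (g : M4 F) 0 = ((dg (g, g) * u0 : GL I8 F) : M8 F) by
      simp [Units.val_mul, dg_val, u0_val, blk_mul]]
    exact m1 ((dbl hS).mul_mem hD' inD_u0) (m2 he' hLu)

end CfsgLib.Geo.SpEight
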