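import Cfsg.Agent.Geo.SpEight.Minus

/-!
The centraliser of the element of square minus one in a proper overgroup lies in the normaliser.
-/

set_option autoImplicit false
set_option linter.unusedSectionVars false
set_option linter.unusedSimpArgs false
set_option linter.style.haveILetI false

namespace CfsgLib.Geo.SpEight

open Matrix CfsgLib.Elusive.PauliMinus

variable {F : Type*} [Field F] [Finite F] {R : Subgroup (GL I4 F)} {hS : Grp R}
  {K : Type*} [Field K] [Finite K] {ι : F →+* K} {i : K} (hi : i * i = -1)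

theorem pair_rel {e : Fin 5 → M4 F} (hE : Five R e) {x y : Fin 5} (hxy : x ≠ y) (z : Fin 5) :
    e x * e y * e z = (if z = x ∨ z = y then (-1 : F) else 1) • (e z * (e x * e y)) := by
  by_cases hx : z = x
  · subst hx
    rw [if_pos (Or.inl rfl), neg_one_smul, mul_assoc, hE.anti y z hxy.symm, mul_neg]
  by_cases hy : z = y
  · subst hy
    rw [if_pos (Or.inr rfl), neg_one_smul, ← mul_assoc (e z), hE.anti z x hx, neg_mul, neg_neg]
  rw [if_neg (by simp [hx, hy]), one_smul, mul_assoc, hE.anti y z (Ne.symm hy), mul_neg, ← mul_assoc,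
    hE.anti x z (Ne.symm hx), neg_mul, neg_neg, mul_assoc]

theorem exists_three : ∀ j k : Fin 5, j ≠ k → ∃ c d m : Fin 5, c ≠ d ∧ c ≠ j ∧ c ≠ k ∧ d ≠ j ∧ d ≠ k ∧
    m ≠ j ∧ m ≠ k ∧ m ≠ c ∧ m ≠ d := by
  decide +kernel

theorem five_cover : ∀ j k c d m z : Fin 5, j ≠ k → c ≠ d → c ≠ j → c ≠ k → d ≠ j → d ≠ k → m ≠ j → m ≠ k →
    m ≠ c → m ≠ d → z = m ∨ z = c ∨ z = d ∨ z = j ∨ z = k := by
  decide +kernel

/-- Something closed under products and the permutations that holds a noncentral element holds the five. -/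
theorem five_of_closed (hS : Grp R) (hle : R ≤ Cfsg.spGL 2 F) {e : Fin 5 → M4 F} (hE : Five R e) (P : M4 F → Prop)
    (hmul : ∀ a b, P a → P b → P (a * b)) (hsc : ∀ (η : F) a, P (η • a) → η ≠ 0 → P a)
    (hconj : ∀ (b : GL I4 F), b ∈ N4 R → ∀ a, P a → P ((b : M4 F) * a * ((b⁻¹ : GL I4 F) : M4 F)))
    {t} (hU : P (U e t)) (ht : ∀ u, t ≠ Sum.inl u) : ∀ j, P (e j) := by
  have hsq : ∀ {s : F}, s * s = 1 → s ≠ 0 := fun h e => by rw [e, mul_zero] at h; exact zero_ne_one h
  have move : ∀ {a b c d : Fin 5}, a ≠ b → c ≠ d → P (e c) →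
      P (e ((Equiv.swap a b * Equiv.swap a b * Equiv.swap a b * Equiv.swap c d) c)) := by
    intro a b c d hab hcd hP
    obtain ⟨y, hy, hyi⟩ := exists_two_swaps hS hle hE (i := a) (j := b) (k := c) (l := d) hab hcd
    obtain ⟨s, hs, hse⟩ := hyi c
    have := hconj y hy _ hP
    rw [hse, smul_mul_assoc, Units.mul_inv_cancel_right] at this
    have h' := hsc s _ this (hsq hs)
    simpa using h'
  have single : ∀ j, P (e j) → ∀ k, P (e k) := by
    intro j hj k
    by_cases h : j = k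
    · exact h ▸ hj
    obtain ⟨c, d, m, hcd, hcj, hck, hdj, hdk, -⟩ := exists_three j k h
    have := move (a := c) (b := d) hcd h hj
    simpa [Equiv.swap_apply_of_ne_of_ne hck.symm hdk.symm] using this
  rcases t with u | j | ⟨⟨j, k⟩, hjk⟩
  · exact absurd rfl (ht u)
  · exact single j hU
  have hjk' : j ≠ k := hjk.ne
  obtain ⟨c, d, m, hcd, hcj, hck, hdj, hdk, hmj, hmk, hmc, hmd⟩ := exists_three j k hjk'
  refine single m ?_
  obtain ⟨y, hy, hyi⟩ := exists_two_swaps hS hle hE hcj.symm hdk.symm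
  obtain ⟨s, hs, hse⟩ := hyi j
  obtain ⟨s', hs', hse'⟩ := hyi k
  have h1 := hconj y hy _ hU
  simp only [U] at h1
  rw [← mul_assoc (y : M4 F), hse, smul_mul_assoc, mul_assoc (e _), hse', mul_smul_comm, smul_smul, smul_mul_assoc,
    ← mul_assoc, mul_assoc, Units.mul_inv, mul_one] at h1
  have h2 := hsc _ _ h1 (mul_ne_zero (hsq hs) (hsq hs'))
  rw [Equiv.Perm.mul_apply, Equiv.Perm.mul_apply, Equiv.swap_apply_left, Equiv.swap_apply_of_ne_of_ne hjk' hdj.symm,
    Equiv.swap_apply_left, Equiv.swap_apply_of_ne_of_ne hdj hcd.symm] at h2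
  have h3 : P (e j * e k * (e c * e d)) := hmul _ _ hU h2
  obtain ⟨η, hη⟩ := hE.commutant hS (M := e j * e k * (e c * e d) * e m) fun z => by
    obtain ⟨σm, hσm, hm'⟩ : ∃ σ : F, σ = (if z = m then (1 : F) else -1) ∧ e m * e z = σ • (e z * e m) := by
      by_cases hzm : z = m
      · exact ⟨1, by rw [if_pos hzm], by rw [hzm, one_smul]⟩
      · exact ⟨-1, by rw [if_neg hzm], by rw [neg_one_smul, hE.anti m z (Ne.symm hzm)]⟩
    have hA := pair_rel hE hjk' z
    have hB := pair_rel hE hcd z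
    generalize e j * e k = A at hA ⊢
    generalize e c * e d = B at hB ⊢
    calc A * B * e m * e z = σm • (A * (B * e z) * e m) := by
          rw [mul_assoc (A * B), hm', mul_smul_comm]; simp only [mul_assoc]
      _ = (σm * (if z = c ∨ z = d then (-1 : F) else 1) * (if z = j ∨ z = k then (-1 : F) else 1)) •
          (e z * (A * B * e m)) := by
          rw [hB, mul_smul_comm, smul_mul_assoc, ← mul_assoc A, hA]
          simp only [smul_mul_assoc, smul_smul, mul_assoc]
      _ = e z * (A * B * e m) := by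
          have hall := five_cover j k c d m z hjk' hcd hcj hck hdj hdk hmj hmk hmc hmd
          have hone : σm * (if z = c ∨ z = d then (-1 : F) else 1) * (if z = j ∨ z = k then (-1 : F) else 1) = 1 := by
            rw [hσm]
            rcases hall with rfl | rfl | rfl | rfl | rfl <;>
              simp [hcj, hck, hdj, hdk, hmj, hmk, hmc, hmd, hcj.symm, hck.symm, hdj.symm, hdk.symm, hmj.symm,
                hmk.symm, hmc.symm, hmd.symm]
          rw [hone, one_smul]
  have hη0 : η ≠ 0 := fun e0 => by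
    obtain ⟨gj, -, hj⟩ := hE.mem j
    obtain ⟨gk, -, hk⟩ := hE.mem k
    obtain ⟨gc, -, hc⟩ := hE.mem c
    obtain ⟨gd, -, hd⟩ := hE.mem d
    obtain ⟨gm, -, hm⟩ := hE.mem m
    refine (gj * gk * (gc * gd) * gm).ne_zero ?_
    simp only [Units.val_mul, hj, hk, hc, hd, hm, hη, e0, zero_smul]
  have hM : e j * e k * (e c * e d) = η • e m := by
    calc _ = e j * e k * (e c * e d) * e m * e m := by rw [mul_assoc _ (e m), hE.sq, mul_one]
      _ = η • e m := by rw [hη, smul_mul_assoc, one_mul]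
  exact hsc η _ (hM ▸ h3) hη0

/-- A scalar of determinant one is in the image of the doubled group. -/
theorem scalar_mem_RK (hi : i * i = -1) (hS : Grp R) (hle : R ≤ Cfsg.spGL 2 F) {z : GL I4 K} {c : K}
    (hz : (z : M4 K) = c • 1) (hd : (z : M4 K).det = 1) : z ∈ RK hS ι hi := by
  rw [hz, Matrix.det_smul, Matrix.det_one, mul_one, show Fintype.card I4 = 4 from rfl] at hd
  have hu : (u0 : GL I8 F) ∈ Cu F := u0_mem_Cu hi hle hS
  obtain ⟨n, hn⟩ : ∃ n : ℕ, c = i ^ n := by
    have : (c - 1) * (c + 1) * ((c - i) * (c + i)) = 0 := by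
      linear_combination hd + (c ^ 2 - 1) * (-1 : K) * hi
    rcases mul_eq_zero.1 this with h | h <;> rcases mul_eq_zero.1 h with h | h
    · exact ⟨0, by rw [sub_eq_zero.1 h, pow_zero]⟩
    · exact ⟨2, by rw [eq_neg_of_add_eq_zero_left h, pow_two, hi]⟩
    · exact ⟨1, by rw [sub_eq_zero.1 h, pow_one]⟩
    · exact ⟨3, by rw [eq_neg_of_add_eq_zero_left h, pow_succ, pow_two, hi, neg_one_mul]⟩
  refine ⟨(⟨u0, hu⟩ : Cu F) ^ n,
    Subgroup.pow_mem _ (show (⟨u0, hu⟩ : Cu F) ∈ (dbl hS).subgroupOf (Cu F) from inD_u0) n, Units.ext ?_⟩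
  rw [map_pow, Units.val_pow_eq_pow_val, phi_u0 hi hu, smul_pow, one_pow, hz, hn]

variable {M : Subgroup (GL I8 F)}

/-- The centraliser up to sign of the element of square minus one. -/
theorem Over.mem_of_comm_u0 (hO : Over hS M) (hi : i * i = -1)
    (hmaxK : Cfsg.Geo.IsMaximalIn (G0 ι hi) (Subgroup.normalizer (RK hS ι hi : Set (GL I4 K)) ⊓ G0 ι hi))
    {g : GL I8 F} (hg : g ∈ M) (h : g * u0 = u0 * g ∨ g * u0 = -(u0 * g)) : g ∈ Nm hS := by
  obtain ⟨e, hE⟩ := exists_five hS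
  have hinj := phi_injective (ι := ι) hi hS.two
  set f := phi (ι := ι) hi with hf
  set N0 := Subgroup.normalizer (RK hS ι hi : Set (GL I4 K)) ⊓ G0 ι hi with hN0
  set X := (M.subgroupOf (Cu F)).map f with hX
  set X0 := X ⊓ G0 ι hi with hX0
  have hge : N0 ≤ X0 := by
    rintro x ⟨hxN, hxG⟩
    refine ⟨?_, hxG⟩
    obtain ⟨⟨L, rfl⟩, hdet⟩ := hxG
    exact ⟨L, hO.ge (lift_mem hi hO.le L (congrArg Units.val hdet) hxN), rfl⟩
  have hX0N : X0 = N0 := by
    refine (hmaxK.2 X0 hge inf_le_right).resolve_right fun hfull => hO.not_full fun a ha => ?_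
    obtain ⟨⟨L, hL, he⟩, -⟩ := hfull.ge (phi_dg_det (ι := ι) hi ha)
    obtain rfl := hinj he
    exact mem_proj.2 ⟨a, hL⟩
  have key : ∀ g ∈ M, g * u0 = u0 * g → g ∈ Nm hS := by
    intro g₀ hgM hgu
    set L : Cu F := ⟨g₀, mem_Cu.2 ⟨hgu, hO.sp hgM⟩⟩ with hLdef
    -- it normalises the normaliser
    have hdetn : ∀ n ∈ G0 ι hi, f L * n * (f L)⁻¹ ∈ G0 ι hi ∧ (f L)⁻¹ * n * f L ∈ G0 ι hi := fun n hn => by
      obtain ⟨⟨n', rfl⟩, hd⟩ := hn
      constructor
      · exact ⟨⟨L * n' * L⁻¹, by simp [f]⟩,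
          (inferInstance : (Matrix.GeneralLinearGroup.det : GL I4 K →* Kˣ).ker.Normal).conj_mem _ hd _⟩
      · exact ⟨⟨L⁻¹ * n' * L, by simp [f]⟩,
          (inferInstance : (Matrix.GeneralLinearGroup.det : GL I4 K →* Kˣ).ker.Normal).conj_mem' _ hd _⟩
    have hconj : ∀ n ∈ N0, f L * n * (f L)⁻¹ ∈ N0 ∧ (f L)⁻¹ * n * f L ∈ N0 := fun n hn => by
      obtain ⟨n', hn', he⟩ := (hge hn).1
      subst he
      rw [← hX0N]
      refine ⟨⟨⟨L * n' * L⁻¹, ?_, by simp [f]⟩, (hdetn _ hn.2).1⟩, ⟨⟨L⁻¹ * n' * L, ?_, by simp [f]⟩, (hdetn _ hn.2).2⟩⟩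
      · exact M.mul_mem (M.mul_mem hgM hn') (M.inv_mem hgM)
      · exact M.mul_mem (M.mul_mem (M.inv_mem hgM) hn') hgM
    have hRN : RK hS ι hi ≤ N0 := le_inf Subgroup.le_normalizer (RK_le hi hO.le)
    set Q := (RK hS ι hi).map (MulAut.conj (f L)).toMonoidHom with hQ
    have hQN : Q ≤ N0 := by
      rintro _ ⟨r, hr, rfl⟩
      exact (hconj r (hRN hr)).1
    have hQn : ∀ n ∈ N0, ∀ q ∈ Q, n * q * n⁻¹ ∈ Q := by
      rintro n hn _ ⟨r, hr, rfl⟩
      refine ⟨_, (Subgroup.mem_normalizer_iff.1 (hconj n hn).2.1 r).1 hr, ?_⟩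
      simp [mul_assoc]
    haveI : Finite (GL I4 K) := inferInstance
    have hQR : Q = RK hS ι hi := by
      refine Subgroup.eq_of_le_of_card_ge ?_ (Subgroup.card_map_of_injective (MulAut.conj (f L)).injective).ge
      by_contra hno
      obtain ⟨q, hq, hqR⟩ := SetLike.not_le_iff_exists.1 hno
      -- scalars stay
      have hscal : ∀ (z : GL I4 K) (c : K), z ∈ RK hS ι hi → (z : M4 K) = c • 1 → z ∈ Q := fun z c hz hzc =>
        ⟨z, hz, Units.ext (by
          show (f L : M4 K) * (z : M4 K) * ((f L)⁻¹ : GL I4 K) = z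
          rw [hzc, mul_smul_comm, mul_one, smul_mul_assoc, Units.mul_inv])⟩
      -- a noncentral common element
      obtain ⟨k, hkQ, hkR, hkns⟩ : ∃ k, k ∈ Q ∧ k ∈ RK hS ι hi ∧ ∀ c : K, (k : M4 K) ≠ c • 1 := by
        by_contra hall
        push Not at hall
        have hqd : (q : M4 K).det = 1 := congrArg Units.val (hQN hq).2.2
        have hpm : ∀ j, (q : M4 K) * ι.mapMatrix (e j) = ι.mapMatrix (e j) * q ∨
            (q : M4 K) * ι.mapMatrix (e j) = -(ι.mapMatrix (e j) * q) := by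
          intro j
          obtain ⟨s, hs, hse⟩ := hE.mem j
          set x := f ⟨dg (s, s), dg_mem_Cu (hO.le hs)⟩ with hxdef
          have hx : x ∈ RK hS ι hi := RK_mem hi hO.le hs
          have hxv : (x : M4 K) = ι.mapMatrix (e j) := by rw [hxdef, phi_dg hi (hO.le hs), hse]
          have h1 : q * x * q⁻¹ * x⁻¹ ∈ RK hS ι hi :=
            (RK hS ι hi).mul_mem ((Subgroup.mem_normalizer_iff.1 (hQN hq).1 x).1 hx) ((RK hS ι hi).inv_mem hx)
          have h2 : q * x * q⁻¹ * x⁻¹ ∈ Q := by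
            rw [show q * x * q⁻¹ * x⁻¹ = q * (x * q⁻¹ * x⁻¹) by group]
            exact Q.mul_mem hq (hQn x (hRN hx) _ (Q.inv_mem hq))
          obtain ⟨c, hc⟩ := hall _ h2 h1
          have hqx : (q : M4 K) * x = c • ((x : M4 K) * q) := by
            rw [← Units.val_mul, show q * x = q * x * q⁻¹ * x⁻¹ * (x * q) by group, Units.val_mul, hc,
              smul_mul_assoc, one_mul, Units.val_mul]
          have hxx : (x : M4 K) * x = 1 := by rw [hxv, ← map_mul, hE.sq, map_one]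
          have hcc : c * c = 1 := by
            have h4 : (q : M4 K) = (c * c) • (q : M4 K) := by
              calc (q : M4 K) = (q : M4 K) * x * x := by rw [mul_assoc, hxx, mul_one]
                _ = (c * c) • (q : M4 K) := by
                  rw [hqx, smul_mul_assoc, mul_assoc, hqx, mul_smul_comm, ← mul_assoc, hxx, one_mul, smul_smul]
            exact (smul_left_injective K q.ne_zero (h4.symm.trans (one_smul K _).symm))
          rw [← hxv]
          rcases mul_self_eq_one_iff.1 hcc with rfl | rfl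
          · exact Or.inl (by rw [hqx, one_smul])
          · exact Or.inr (by rw [hqx, neg_one_smul])
        obtain ⟨t, c, ⟨_, ⟨r, hr, rfl⟩, rfl⟩, hc⟩ := exists_of_pm (grp_map hS ι) (five_map hE ι) q hpm
        refine hqR ?_
        set x := f ⟨dg (r, r), dg_mem_Cu (hO.le hr)⟩ with hxdef
        have hx : x ∈ RK hS ι hi := RK_mem hi hO.le hr
        have hzv : ((q * x⁻¹ : GL I4 K) : M4 K) = c • 1 := by
          rw [Units.val_mul, hc, smul_mul_assoc,
            show ((Units.map (ι.mapMatrix : M4 F →+* M4 K).toMonoidHom r : GL I4 K) : M4 K) = (x : M4 K) by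
              rw [hxdef, phi_dg hi (hO.le hr)]; rfl,
            Units.mul_inv]
        have hzd : ((q * x⁻¹ : GL I4 K) : M4 K).det = 1 :=
          congrArg Units.val ((G0 ι hi).mul_mem (hQN hq).2 ((G0 ι hi).inv_mem (hRN hx).2)).2
        have := (RK hS ι hi).mul_mem (scalar_mem_RK hi hS hO.le hzv hzd) hx
        rwa [inv_mul_cancel_right] at this
      obtain ⟨⟨D, hC⟩, hD, rfl⟩ := hkR
      obtain ⟨s, hs, hsc⟩ := dblU_cases (ι := ι) hi (hS := hS) hD hC
      obtain ⟨gs, hgs, rfl⟩ := hs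
      let P : M4 F → Prop := fun a => ∃ w ∈ Q, ∃ c : K, (w : M4 K) = c • ι.mapMatrix a
      have hPs : P (gs : M4 F) := by
        rcases hsc with h | h
        · exact ⟨_, hkQ, 1, by rw [one_smul]; exact h⟩
        · exact ⟨_, hkQ, i, h⟩
      have hsmul : ∀ (η : F) a, P (η • a) → η ≠ 0 → P a := fun η a ⟨w, hw, c, hc⟩ _ =>
        ⟨w, hw, c * ι η, by rw [hc, mapMatrix_smul, smul_smul]⟩
      obtain ⟨t, ht⟩ := hE.gen gs hgs
      have hPU : P (U e t) := by
        rcases ht with h | h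
        · exact h ▸ hPs
        · exact hsmul (-1) _ (by rw [neg_one_smul, ← h]; exact hPs) (neg_ne_zero.2 one_ne_zero)
      have htne : ∀ u, t ≠ Sum.inl u := by
        rintro u rfl
        have hs1 : ι.mapMatrix (gs : M4 F) = (1 : K) • 1 ∨ ι.mapMatrix (gs : M4 F) = (-1 : K) • 1 := by
          rcases ht with h | h <;> rw [h]
          · exact Or.inl (by simp [U])
          · exact Or.inr (by rw [map_neg, neg_one_smul]; simp [U])
        rcases hsc with h | h <;> rcases hs1 with h' | h' <;> rw [h'] at h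
        · exact hkns _ h
        · exact hkns _ h
        · exact hkns _ (h.trans (smul_smul _ _ _))
        · exact hkns _ (h.trans (smul_smul _ _ _))
      have hmul : ∀ a b, P a → P b → P (a * b) := fun a b ⟨w, hw, c, hc⟩ ⟨w', hw', c', hc'⟩ =>
        ⟨w * w', Q.mul_mem hw hw', c * c', by rw [Units.val_mul, hc, hc', smul_mul_smul_comm, map_mul]⟩
      have hb : ∀ (b : GL I4 F), b ∈ N4 R → ∀ a, P a → P ((b : M4 F) * a * ((b⁻¹ : GL I4 F) : M4 F)) := by
        rintro b hb a ⟨w, hw, c, hc⟩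
        set n := f ⟨dg (b, b), dg_mem_Cu hb.2⟩ with hn
        have hnN : n ∈ N0 := ⟨phi_normalizer hi (dg_self_mem hS hb), phi_dg_det hi hb.2⟩
        refine ⟨n * w * n⁻¹, hQn n hnN w hw, c, ?_⟩
        have hnv : (n : M4 K) = ι.mapMatrix (b : M4 F) := by rw [hn, phi_dg hi hb.2]
        have hni : ((n⁻¹ : GL I4 K) : M4 K) = ι.mapMatrix ((b⁻¹ : GL I4 F) : M4 F) :=
          Units.inv_eq_of_mul_eq_one_right (by rw [hnv, ← map_mul, Units.mul_inv, map_one])
        rw [Units.val_mul, Units.val_mul, hnv, hni, hc, mul_smul_comm, smul_mul_assoc, map_mul, map_mul]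
      have hall5 := five_of_closed hS hO.le hE P hmul hsmul hb hPU htne
      have hP1 : P 1 := ⟨1, Q.one_mem, 1, by rw [one_smul, map_one, Units.val_one]⟩
      have hRQ : RK hS ι hi ≤ Q := by
        rintro _ ⟨⟨D', hC'⟩, hD', rfl⟩
        obtain ⟨s', ⟨g', hg', rfl⟩, hs'⟩ := dblU_cases (ι := ι) hi (hS := hS) hD' hC'
        obtain ⟨t', ht'⟩ := hE.gen g' hg'
        have hPt : P (U e t') := by
          rcases t' with u | j | p
          · exact hP1
          · exact hall5 j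
          · exact hmul _ _ (hall5 _) (hall5 _)
        obtain ⟨w, hw, c, hc⟩ : P (g' : M4 F) := by
          rcases ht' with h | h
          · rw [h]; exact hPt
          · refine hsmul (-1) _ ?_ (neg_ne_zero.2 one_ne_zero)
            rw [h, neg_one_smul, neg_neg]; exact hPt
        obtain ⟨c'', hc''⟩ : ∃ c'' : K, (f ⟨D', hC'⟩ : M4 K) = c'' • ι.mapMatrix (g' : M4 F) := by
          rcases hs' with h | h
          · exact ⟨1, by rw [one_smul]; exact h⟩
          · exact ⟨i, h⟩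
        have hc0 : c ≠ 0 := fun e0 => w.ne_zero (by rw [hc, e0, zero_smul])
        have hxR : f ⟨D', hC'⟩ ∈ RK hS ι hi := ⟨⟨D', hC'⟩, hD', rfl⟩
        have hzv : ((f ⟨D', hC'⟩ * w⁻¹ : GL I4 K) : M4 K) = (c'' * c⁻¹) • 1 := by
          rw [Units.val_mul, hc'', show ι.mapMatrix (g' : M4 F) = c⁻¹ • (w : M4 K) by
            rw [hc, inv_smul_smul₀ hc0], smul_smul, smul_mul_assoc, Units.mul_inv]
        have hzd : ((f ⟨D', hC'⟩ * w⁻¹ : GL I4 K) : M4 K).det = 1 :=
          congrArg Units.val ((G0 ι hi).mul_mem (hRN hxR).2 ((G0 ι hi).inv_mem (hQN hw).2)).2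
        have := Q.mul_mem (hscal _ _ (scalar_mem_RK hi hS hO.le hzv hzd) hzv) hw
        rwa [inv_mul_cancel_right] at this
      have heq := Subgroup.eq_of_le_of_card_ge hRQ (Subgroup.card_map_of_injective (MulAut.conj (f L)).injective).le
      exact hqR (heq ▸ hq)
    -- so it carries an involution of the doubled group into it
    obtain ⟨s, hs, hse⟩ := hE.mem 0
    have hS' : f L * f ⟨dg (s, s), dg_mem_Cu (hO.le hs)⟩ * (f L)⁻¹ ∈ RK hS ι hi :=
      hQR.le ⟨_, RK_mem hi hO.le hs, rfl⟩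
    obtain ⟨D, hD, hDe⟩ := hS'
    rw [← map_inv, ← map_mul, ← map_mul] at hDe
    have hDe' : (D : GL I8 F) = g₀ * dg (s, s) * g₀⁻¹ := congrArg Subtype.val (hinj hDe)
    have hne0 := hS.ne_of_anti (hE.mem 0) (hE.mem 1) (hE.anti 0 1 (by decide))
    have hs2 : ((dg (s, s) : GL I8 F) : M8 F) * ((dg (s, s) : GL I8 F) : M8 F) = 1 := by
      rw [dg_val, blk_mul]; simp [hse, hE.sq, blk_one]
    have hs1 : ((dg (s, s) : GL I8 F) : M8 F) ≠ 1 := fun e1 => hne0.1 (by
      rw [dg_val, ← blk_one, blk_inj] at e1; rw [← hse]; exact e1.1)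
    have hs1' : ((dg (s, s) : GL I8 F) : M8 F) ≠ -1 := fun e1 => hne0.2 (by
      rw [dg_val, ← blk_one, blk_neg, blk_inj] at e1; rw [← hse]; exact e1.1)
    obtain ⟨h, hh, he⟩ := good_of_sq hS hO.le (InD.diag ⟨s, hs, rfl⟩ : InD R ((dg (s, s) : GL I8 F) : M8 F)) hs2 hs1 hs1'
    have heS : h * dg (s, s) = x0 * h := Units.ext (by rw [Units.val_mul, Units.val_mul]; exact he)
    have hD2 : (D : GL I8 F) * D = 1 := by
      rw [hDe', show g₀ * dg (s, s) * g₀⁻¹ * (g₀ * dg (s, s) * g₀⁻¹) = g₀ * (dg (s, s) * dg (s, s)) * g₀⁻¹ by group,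
        show dg (s, s) * dg (s, s) = 1 from Units.ext (by simpa using hs2)]
      group
    have hDne : ∀ c : GL I8 F, (∀ z, c * z = z * c) → (D : GL I8 F) = c → dg (s, s) = c := fun c hc hcD => by
      rw [hDe'] at hcD
      calc dg (s, s) = g₀⁻¹ * (g₀ * dg (s, s) * g₀⁻¹) * g₀ := by group
        _ = c := by rw [hcD, mul_assoc, hc]; group
    obtain ⟨h', hh', he'⟩ := good_of_sq hS hO.le (show InD R ((D : GL I8 F) : M8 F) from hD) (congrArg Units.val hD2)
      (fun e1 => hs1 (by rw [hDne 1 (fun z => by simp) (Units.ext e1)]; rfl))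
      (fun e1 => hs1' (by rw [hDne (-1) (fun z => by simp) (Units.ext (by simpa using e1))]; simp))
    have heD : h' * (D : GL I8 F) = x0 * h' := Units.ext (by simpa using he')
    have hw : h' * g₀ * h⁻¹ ∈ M := M.mul_mem (M.mul_mem (hO.ge hh') hgM) (M.inv_mem (hO.ge hh))
    have hwx : h' * g₀ * h⁻¹ * x0 = x0 * (h' * g₀ * h⁻¹) := by
      calc h' * g₀ * h⁻¹ * x0 = h' * g₀ * h⁻¹ * (x0 * h) * h⁻¹ := by group
        _ = h' * (g₀ * dg (s, s) * g₀⁻¹) * g₀ * h⁻¹ := by rw [← heS]; group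
        _ = x0 * (h' * g₀ * h⁻¹) := by rw [← hDe', heD]; group
    have hfin := hO.mem_of_comm_x0 hw (Or.inl hwx)
    have := Subgroup.mul_mem _ (Subgroup.mul_mem _ (Subgroup.inv_mem _ hh') hfin) hh
    rwa [show h'⁻¹ * (h' * g₀ * h⁻¹) * h = g₀ by group] at this
  rcases h with h | h
  · exact key g hg h
  · have hx := dbl_le_Nm hS hO.le (inD_x0 (R := R) : x0 ∈ dbl hS)
    have hxu : (x0 : GL I8 F) * u0 = -(u0 * x0) :=
      Units.ext (by simp [Units.val_mul, x0_val, u0_val, blk_mul, blk_neg])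
    refine (Subgroup.mul_mem_cancel_left _ hx).1 (key _ (M.mul_mem (hO.ge hx) hg) ?_)
    rw [mul_assoc, h, mul_neg, ← mul_assoc, ← mul_assoc, hxu, neg_mul, neg_neg]

end CfsgLib.Geo.SpEight
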