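import Cfsg.Agent.Geo.SpEight.Group

/-!
The normaliser is transitive on the involutions of the doubled group and on its elements of square minus one.
-/

set_option autoImplicit false
set_option linter.unusedSectionVars false
set_option linter.unusedSimpArgs false
set_option linter.style.haveILetI false

namespace CfsgLib.Geo.SpEight

open Matrix CfsgLib.Elusive.PauliMinus

variable {F : Type*} [Field F] [Finite F] {R : Subgroup (GL I4 F)}

theorem one_add_mul_one_sub {r : M8 F} (hr : r * r = -1) : (1 + r) * (1 - r) = (2 : F) • 1 := by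
  rw [mul_sub, mul_one, add_mul, one_mul, hr, two_smul]; abel

theorem half_form {r : M8 F} (hr : r * r = -1) (hf : rᵀ * Matrix.J (Fin 4) F * r = Matrix.J (Fin 4) F) :
    (1 + r)ᵀ * Matrix.J (Fin 4) F * (1 + r) = (2 : F) • Matrix.J (Fin 4) F := by
  generalize Matrix.J (Fin 4) F = J at hf
  have h1 : rᵀ * J = -(J * r) := by
    calc rᵀ * J = (rᵀ * J * r) * -r := by rw [mul_assoc (rᵀ * J), mul_neg, hr, neg_neg, mul_one]
      _ = -(J * r) := by rw [hf, mul_neg]
  rw [Matrix.transpose_add, Matrix.transpose_one, add_mul, one_mul, h1, two_smul, add_mul, mul_add, mul_add,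
    mul_one, mul_one, neg_mul, mul_assoc J r r, hr, mul_neg, mul_one, neg_neg]
  abel

theorem inD_val_form {g : GL I8 F} (hS : Grp R) (hle : R ≤ Cfsg.spGL 2 F) (hg : InD R (g : M8 F)) :
    ((g : M8 F))ᵀ * Matrix.J (Fin 4) F * (g : M8 F) = Matrix.J (Fin 4) F :=
  mem_spGL_iff.1 (InD.mem_sp hS hle hg)

theorem InD.exists_unit {X : M8 F} (hX : InD R X) (hS : Grp R) : ∃ g : GL I8 F, (g : M8 F) = X := by
  rcases InD.sq hS hX with e | e
  · exact ⟨⟨X, X, e, e⟩, rfl⟩
  · exact ⟨⟨X, -X, by rw [mul_neg, e, neg_neg], by rw [neg_mul, e, neg_neg]⟩, rfl⟩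

/-- A factor of the gate. -/
theorem push (hS : Grp R) {r y : M8 F} (hr : InD R r) (hr2 : r * r = -1) (hy : InD R y) :
    ∃ y', InD R y' ∧ (1 + r) * y = y' * (1 + r) := by
  rcases InD.comm hS hr hy with e | e
  · exact ⟨y, hy, by rw [add_mul, mul_add, e, one_mul, mul_one]⟩
  · refine ⟨r * y, InD.mul hS hr hy, ?_⟩
    have h : r * y * r = y := by
      rw [e, neg_mul, mul_assoc, hr2, mul_neg, mul_one, neg_neg]
    rw [add_mul, mul_add, one_mul, mul_one, h, add_comm]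

/-- The gate attached to two elements of square minus one. -/
theorem exists_gate (hS : Grp R) (hle : R ≤ Cfsg.spGL 2 F) {r s : M8 F} (hr : InD R r) (hs : InD R s)
    (hr2 : r * r = -1) (hs2 : s * s = -1) :
    ∃ g ∈ Nm hS, (g : M8 F) = (2 : F)⁻¹ • ((1 + s) * (1 + r)) := by
  have h2 := hS.two
  have h1 : (2 : F)⁻¹ • ((1 + s) * (1 + r)) * ((2 : F)⁻¹ • ((1 - r) * (1 - s))) = 1 := by
    rw [smul_mul_smul_comm, mul_assoc (1 + s), ← mul_assoc (1 + r), one_add_mul_one_sub hr2, smul_mul_assoc,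
      one_mul, mul_smul_comm, one_add_mul_one_sub hs2, smul_smul, smul_smul,
      show (2 : F)⁻¹ * 2⁻¹ * 2 * 2 = 1 by field_simp, one_smul]
  refine ⟨⟨_, _, h1, mul_eq_one_comm.1 h1⟩, ?_, rfl⟩
  obtain ⟨gr, rfl⟩ := hr.exists_unit hS
  obtain ⟨gs, rfl⟩ := hs.exists_unit hS
  refine mem_Nm_of hS (mem_spGL_iff.2 ?_) fun X hX => ?_
  · have fr := half_form hr2 (inD_val_form hS hle hr)
    have fs := half_form hs2 (inD_val_form hS hle hs)
    show ((2 : F)⁻¹ • ((1 + (gs : M8 F)) * (1 + (gr : M8 F))))ᵀ * Matrix.J (Fin 4) F *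
      ((2 : F)⁻¹ • ((1 + (gs : M8 F)) * (1 + (gr : M8 F)))) = _
    rw [Matrix.transpose_smul, smul_mul_assoc, smul_mul_assoc, mul_smul_comm, smul_smul, Matrix.transpose_mul,
      mul_assoc (1 + (gr : M8 F))ᵀ, mul_assoc (1 + (gr : M8 F))ᵀ, ← mul_assoc _ (1 + (gs : M8 F)), fs,
      smul_mul_assoc, mul_smul_comm, ← mul_assoc, fr, smul_smul, smul_smul,
      show (2 : F)⁻¹ * 2⁻¹ * 2 * 2 = 1 by field_simp, one_smul]
  · obtain ⟨Y, hY, eY⟩ := push hS hr hr2 hX
    obtain ⟨Z, hZ, eZ⟩ := push hS hs hs2 hY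
    refine ⟨Z, hZ, ?_⟩
    show (2 : F)⁻¹ • ((1 + (gs : M8 F)) * (1 + (gr : M8 F))) * X =
      Z * ((2 : F)⁻¹ • ((1 + (gs : M8 F)) * (1 + (gr : M8 F))))
    rw [smul_mul_assoc, mul_smul_comm, mul_assoc, eY, ← mul_assoc, eZ, mul_assoc]

/-- Elements moved to the sign change by the normaliser. -/
def Good (hS : Grp R) (x : M8 F) : Prop :=
  ∃ h ∈ Nm hS, (h : M8 F) * x = ((x0 : GL I8 F) : M8 F) * h

theorem exists_root (hS : Grp R) : ∃ r, InR R r ∧ r * r = -1 := by
  obtain ⟨e, hE⟩ := exists_five hS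
  refine ⟨e 0 * e 1, (hE.mem 0).mul (hE.mem 1), ?_⟩
  rw [mul_assoc, ← mul_assoc (e 1), hE.anti 1 0 (by decide), neg_mul, mul_neg, mul_assoc, hE.sq, mul_one,
    hE.sq]

theorem good_x0 (hS : Grp R) : Good hS ((x0 : GL I8 F) : M8 F) :=
  ⟨1, Subgroup.one_mem _, by simp⟩

/-- An involution anticommuting with a good one is good. -/
theorem Good.step {hS : Grp R} (hle : R ≤ Cfsg.spGL 2 F) {x y : M8 F} (hgood : Good hS y) (hy : InD R y)
    (hy2 : y * y = 1) (hx : InD R x) (hx2 : x * x = 1) (hxy : x * y = -(y * x)) : Good hS x := by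
  obtain ⟨h, hh, he⟩ := hgood
  obtain ⟨r₀, hr₀, hr₀2⟩ := exists_root hS
  obtain ⟨S, hSe⟩ := (InD.diag (R := R) hr₀).exists_unit hS
  have hs : h⁻¹ * S * h ∈ dbl hS := by
    have := Nm_conj hS (Subgroup.inv_mem _ hh) (a := S) (by rw [mem_dbl, hSe]; exact InD.diag hr₀)
    rwa [inv_inv] at this
  have hS2 : S * S = -1 := Units.ext (by
    rw [Units.val_mul, hSe, blk_mul, Units.val_neg, Units.val_one]; simp [hr₀2, ← blk_one, blk_neg])
  have hs2 : ((h⁻¹ * S * h : GL I8 F) : M8 F) * ((h⁻¹ * S * h : GL I8 F) : M8 F) = -1 := by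
    rw [← Units.val_mul, show h⁻¹ * S * h * (h⁻¹ * S * h) = h⁻¹ * (S * S) * h by group, hS2]
    simp
  obtain ⟨Y, hY⟩ := hy.exists_unit hS
  have heY : h * Y = x0 * h := Units.ext (by simpa [hY] using he)
  have hSc : S * x0 = x0 * S := Units.ext (by simp [Units.val_mul, hSe, x0_val, blk_mul])
  have hsy : ((h⁻¹ * S * h : GL I8 F) : M8 F) * y = y * ((h⁻¹ * S * h : GL I8 F) : M8 F) := by
    rw [← hY, ← Units.val_mul, ← Units.val_mul]
    refine congrArg Units.val ?_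
    calc h⁻¹ * S * h * Y = h⁻¹ * (S * x0) * h := by rw [mul_assoc _ h Y, heY]; group
      _ = h⁻¹ * (x0 * h) * h⁻¹ * S * h := by rw [hSc]; group
      _ = Y * (h⁻¹ * S * h) := by rw [← heY]; group
  have hsD : InD R ((h⁻¹ * S * h : GL I8 F) : M8 F) := hs
  generalize ((h⁻¹ * S * h : GL I8 F) : M8 F) = s at hs2 hsy hsD
  have hr2 : y * x * (y * x) = -1 := by
    rw [mul_assoc, ← mul_assoc x, hxy, neg_mul, mul_neg, mul_assoc, hx2, mul_one, hy2]
  have hrx : (1 + y * x) * x = y * (1 + y * x) := by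
    rw [add_mul, mul_add, one_mul, mul_one, mul_assoc, hx2, mul_one, ← mul_assoc, hy2, one_mul, add_comm]
  obtain ⟨g, hg, hge⟩ := exists_gate hS hle (InD.mul hS hy hx)
    hsD hr2 hs2
  refine ⟨h * g, Subgroup.mul_mem _ hh hg, ?_⟩
  have hgx : (g : M8 F) * x = y * g := by
    rw [hge, smul_mul_assoc, mul_smul_comm, mul_assoc, hrx, ← mul_assoc, ← mul_assoc,
      show (1 + s) * y = y * (1 + s) by rw [add_mul, mul_add, hsy, one_mul, mul_one]]
  rw [Units.val_mul, mul_assoc, hgx, ← mul_assoc, he, mul_assoc]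

/-- All involutions of the doubled group are moved to the sign change. -/
theorem good_of_sq (hS : Grp R) (hle : R ≤ Cfsg.spGL 2 F) {x : M8 F} (hx : InD R x) (hx2 : x * x = 1)
    (h1 : x ≠ 1) (h1' : x ≠ -1) : Good hS x := by
  have hx0 : ((x0 : GL I8 F) : M8 F) * ((x0 : GL I8 F) : M8 F) = 1 := by
    simp [x0_val, blk_mul, blk_one]
  have hanti : ∀ {z : M8 F}, InD R z → z * z = 1 →
      z * ((x0 : GL I8 F) : M8 F) = -(((x0 : GL I8 F) : M8 F) * z) → Good hS z :=
    fun hz hz2 hc => (good_x0 hS).step hle inD_x0 hx0 hz hz2 hc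
  obtain ⟨t, ht, rfl | rfl | rfl | rfl⟩ := hx
  · have ht1 : t ≠ 1 := fun e => h1 (by rw [e, blk_one])
    have ht1' : t ≠ -1 := fun e => h1' (by rw [e, ← blk_one, blk_neg, neg_zero])
    obtain ⟨q, hq, htq⟩ := hS.exists_anti ht ht1 ht1'
    rcases hS.sq hq with hq2 | hq2
    · refine (hanti (InD.anti hq) ?_ ?_).step hle (InD.anti hq) ?_ (InD.diag ht) hx2 ?_ <;>
        simp [blk_mul, blk_neg, x0_val, hq2, htq, blk_one]
    · refine (hanti (InD.anti_neg hq) ?_ ?_).step hle (InD.anti_neg hq) ?_ (InD.diag ht) hx2 ?_ <;>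
        simp [blk_mul, blk_neg, x0_val, hq2, htq, blk_one]
  · refine (hanti inD_y0 ?_ ?_).step hle inD_y0 ?_ (InD.diag_neg ht) hx2 ?_ <;>
      simp [blk_mul, blk_neg, x0_val, y0_val, blk_one]
  · exact hanti (InD.anti ht) hx2 (by simp [blk_mul, blk_neg, x0_val])
  · exact hanti (InD.anti_neg ht) hx2 (by simp [blk_mul, blk_neg, x0_val])

/-- All elements of square minus one are moved to the standard one. -/
theorem move_u0 (hS : Grp R) (hle : R ≤ Cfsg.spGL 2 F) {u : M8 F} (hu : InD R u) (hu2 : u * u = -1) :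
    ∃ h ∈ Nm hS, (h : M8 F) * u = ((u0 : GL I8 F) : M8 F) * h := by
  obtain ⟨e, hE⟩ := exists_five hS
  obtain ⟨x, hx, hx2, hxu⟩ : ∃ x, InD R x ∧ x * x = 1 ∧ x * u = -(u * x) := by
    obtain ⟨t, ht, rfl | rfl | rfl | rfl⟩ := hu
    · have ht2 : t * t = -1 := by
        rw [blk_mul, ← blk_one, blk_neg] at hu2
        simpa using (blk_inj.1 hu2).1
      obtain ⟨g, hg, rfl⟩ := ht
      obtain ⟨i, hi⟩ : ∃ i, e i * (g : M4 F) = -((g : M4 F) * e i) := by
        by_contra hno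
        push Not at hno
        obtain ⟨c, hc⟩ := hE.commutant hS (M := (g : M4 F)) fun i =>
          ((hS.comm' (hE.mem i) ⟨g, hg, rfl⟩).resolve_right (hno i)).symm
        rcases hS.scal g hg c hc with rfl | rfl <;> rw [hc] at ht2 <;>
          exact hS.ne_neg InR.one (by simpa using ht2)
      refine ⟨_, InD.diag (hE.mem i), ?_, ?_⟩ <;> simp [blk_mul, blk_neg, hE.sq, blk_one, hi]
    · refine ⟨_, inD_y0, ?_, ?_⟩ <;> simp [blk_mul, blk_neg, y0_val, blk_one]
    · refine ⟨_, inD_x0, ?_, ?_⟩ <;> simp [blk_mul, blk_neg, x0_val, blk_one]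
    · refine ⟨_, inD_x0, ?_, ?_⟩ <;> simp [blk_mul, blk_neg, x0_val, blk_one]
  have hxne : ∀ c : F, x ≠ c • 1 := fun c ec => by
    obtain ⟨gx, hgx⟩ := hx.exists_unit hS
    obtain ⟨gu, hgu⟩ := hu.exists_unit hS
    rw [← hgu, ← hgx] at hxu
    rw [← hgx] at ec
    rw [ec, smul_mul_assoc, one_mul, mul_smul_comm, mul_one] at hxu
    have h0 : ((2 : F) * c) • (gu : M8 F) = 0 := by
      rw [mul_smul, two_smul]; nth_rw 1 [hxu]; exact neg_add_cancel _
    rcases smul_eq_zero.1 h0 with h | h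
    · exact gx.ne_zero (by rw [ec, (mul_eq_zero.1 h).resolve_left hS.two, zero_smul])
    · exact gu.ne_zero h
  obtain ⟨h, hh, he⟩ := good_of_sq hS hle hx hx2 (fun e1 => hxne 1 (by rw [e1, one_smul]))
    (fun e1 => hxne (-1) (by rw [e1, neg_one_smul]))
  obtain ⟨gu, rfl⟩ := hu.exists_unit hS
  obtain ⟨gx, rfl⟩ := hx.exists_unit hS
  set w := h * gu * h⁻¹ with hw
  have hwD : InD R (w : M8 F) := Nm_conj hS hh (a := gu) hu
  have hw2 : (w : M8 F) * w = -1 := by
    have : gu * gu = -1 := Units.ext (by simpa using hu2)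
    rw [← Units.val_mul, hw, show h * gu * h⁻¹ * (h * gu * h⁻¹) = h * (gu * gu) * h⁻¹ by group, this]
    simp
  have hwx : (w : M8 F) * ((x0 : GL I8 F) : M8 F) = -(((x0 : GL I8 F) : M8 F) * w) := by
    have hx0e : (x0 : GL I8 F) = h * gx * h⁻¹ := by
      rw [eq_mul_inv_iff_mul_eq]; exact Units.ext (by simpa using he.symm)
    have hux : gu * gx = -(gx * gu) := Units.ext (by
      rw [Units.val_neg, Units.val_mul, Units.val_mul, hxu, neg_neg])
    rw [← Units.val_mul, ← Units.val_mul, ← Units.val_neg, hw, hx0e]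
    refine congrArg Units.val ?_
    rw [show h * gu * h⁻¹ * (h * gx * h⁻¹) = h * (gu * gx) * h⁻¹ by group, hux,
      show h * gx * h⁻¹ * (h * gu * h⁻¹) = h * (gx * gu) * h⁻¹ by group]
    simp
  -- straighten the antidiagonal element
  obtain ⟨t, ⟨s, hs, rfl⟩, hp⟩ := hwD
  have h2 := hS.two
  have hts : ∀ a : M4 F, a = -a → a = 0 := fun a ha => by
    have : (2 : F) • a = 0 := by rw [two_smul]; nth_rw 1 [ha]; exact neg_add_cancel a
    exact (smul_eq_zero.1 this).resolve_left h2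
  refine ⟨dg (s, 1) * h, Subgroup.mul_mem _ (dg_one_mem hS hle hs) hh, ?_⟩
  have hhu : (h : M8 F) * gu = (w : M8 F) * h := by
    rw [← Units.val_mul, ← Units.val_mul, hw, inv_mul_cancel_right]
  rw [Units.val_mul, mul_assoc, hhu, ← mul_assoc, ← mul_assoc]
  refine congrArg (· * (h : M8 F)) ?_
  rcases hp with e' | e' | e' | e' <;> rw [e'] at hw2 hwx ⊢
  · simp [blk_mul, blk_neg, x0_val] at hwx
    exact absurd (hts _ (blk_inj.1 hwx).1) s.ne_zero
  · simp [blk_mul, blk_neg, x0_val] at hwx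
    exact absurd (hts _ (blk_inj.1 hwx).1) s.ne_zero
  all_goals
    simp [blk_mul, blk_neg, blk_inj, ← blk_one] at hw2
    simp [blk_mul, u0_val, dg_val, hw2]

end CfsgLib.Geo.SpEight
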