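import Cfsg.Agent.Geo.SpEight.Group

/-!
The permutations of the five involutions induced by the normaliser.
-/

set_option autoImplicit false
set_option linter.unusedSectionVars false
set_option linter.unusedSimpArgs false
set_option linter.style.haveILetI false

namespace CfsgLib.Geo.SpEight

open Matrix CfsgLib.Elusive.PauliMinus

variable {F : Type*} [Field F] {R : Subgroup (GL I4 F)} {e : Fin 5 → M4 F}

/-- An element permuting the five involutions up to sign. -/
def Induces (e : Fin 5 → M4 F) (a : GL I4 F) (π : Equiv.Perm (Fin 5)) : Prop :=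
  ∀ i, ∃ s : F, s * s = 1 ∧ (a : M4 F) * e i = s • (e (π i) * a)

theorem exists_induces (hS : Grp R) (hE : Five R e) {a : GL I4 F}
    (ha : a ∈ Subgroup.normalizer (R : Set (GL I4 F))) : ∃ π, Induces e a π := by
  classical
  have hconj : ∀ i, ∃ j, ∃ s : F, s * s = 1 ∧ (a : M4 F) * e i = s • (e j * a) := fun i => by
    obtain ⟨g, hg, hge⟩ := hE.mem i
    have hmem : a * g * a⁻¹ ∈ R := (Subgroup.mem_normalizer_iff.1 ha g).1 hg
    have hne := hS.ne_of_anti (hE.mem i) (hE.mem (i + 1))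
      (hE.anti i (i + 1) ((by decide : ∀ k : Fin 5, k ≠ k + 1) i))
    have h1 : (a : M4 F) * e i = ((a * g * a⁻¹ : GL I4 F) : M4 F) * a := by
      rw [← hge, ← Units.val_mul, ← Units.val_mul]; congr 1; group
    have hback : ∀ c : F, ((a * g * a⁻¹ : GL I4 F) : M4 F) = c • 1 → e i = c • 1 := fun c h => by
      rw [← hge, show g = a⁻¹ * (a * g * a⁻¹) * a by group, Units.val_mul, Units.val_mul, h, mul_smul_comm,
        mul_one, smul_mul_assoc, Units.inv_mul]
    obtain ⟨j, hj⟩ := hE.involution hS ⟨_, hmem, rfl⟩ (by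
        rw [← Units.val_mul, show a * g * a⁻¹ * (a * g * a⁻¹) = a * (g * g) * a⁻¹ by group,
          show g * g = 1 from Units.ext (by rw [Units.val_mul, hge, hE.sq, Units.val_one]), mul_one,
          mul_inv_cancel, Units.val_one])
      (fun h => hne.1 (by rw [hback 1 (by rw [h, one_smul]), one_smul]))
      (fun h => hne.2 (by rw [hback (-1) (by rw [h, neg_one_smul]), neg_one_smul]))
    rcases hj with hj | hj
    · exact ⟨j, 1, one_mul 1, by rw [h1, hj, one_smul]⟩
    · exact ⟨j, -1, by ring, by rw [h1, hj, neg_mul, neg_one_smul]⟩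
  choose π₀ s hs hπ using hconj
  have hinj : Function.Injective π₀ := fun i j hij => by
    have h1 : (a : M4 F) * e i = (s i * s j) • ((a : M4 F) * e j) := by
      rw [hπ i, hπ j, hij, smul_smul, mul_assoc, hs j, mul_one]
    have h2 : e i = (s i * s j) • e j := by
      have := congrArg (fun X => ((a⁻¹ : GL I4 F) : M4 F) * X) h1
      simpa only [mul_smul_comm, ← mul_assoc, Units.inv_mul, one_mul] using this
    have hsq : (s i * s j) * (s i * s j) = 1 := by linear_combination (s j * s j) * hs i + hs j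
    refine hE.e_inj hS ?_
    rcases mul_self_eq_one_iff.1 hsq with h | h <;> rw [h] at h2
    · exact Or.inl (by rw [h2, one_smul])
    · exact Or.inr (by rw [h2, neg_one_smul])
  exact ⟨Equiv.ofBijective π₀ (Finite.injective_iff_bijective.1 hinj), fun i => ⟨s i, hs i, hπ i⟩⟩

theorem Induces.mul {a b : GL I4 F} {π ρ : Equiv.Perm (Fin 5)} (ha : Induces e a π) (hb : Induces e b ρ) :
    Induces e (a * b) (π * ρ) := fun i => by
  obtain ⟨s, hs, hse⟩ := hb i
  obtain ⟨t, ht, hte⟩ := ha (ρ i)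
  refine ⟨s * t, by linear_combination (t * t) * hs + ht, ?_⟩
  rw [Units.val_mul, mul_assoc, hse, mul_smul_comm, ← mul_assoc, hte, smul_mul_assoc, smul_smul, mul_assoc,
    Equiv.Perm.mul_apply]

theorem Induces.inv {a : GL I4 F} {π : Equiv.Perm (Fin 5)} (ha : Induces e a π) :
    Induces e a⁻¹ π⁻¹ := fun i => by
  obtain ⟨s, hs, hse⟩ := ha (π⁻¹ i)
  refine ⟨s, hs, ?_⟩
  have h : e (π⁻¹ i) = s • (((a⁻¹ : GL I4 F) : M4 F) * e i * a) := by
    have := congrArg (fun X => ((a⁻¹ : GL I4 F) : M4 F) * X) hse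
    simpa only [mul_smul_comm, ← mul_assoc, Units.inv_mul, one_mul, show π (π⁻¹ i) = i from π.apply_symm_apply i]
      using this
  rw [h, smul_mul_assoc, smul_smul, hs, one_smul, mul_assoc, Units.mul_inv, mul_one]

/-- An element of the group fixes all five. -/
theorem induces_one (hS : Grp R) (hE : Five R e) {g : GL I4 F} (hg : g ∈ R) : Induces e g 1 := fun i => by
  rcases hS.comm' ⟨g, hg, rfl⟩ (hE.mem i) with q | q
  · exact ⟨1, one_mul 1, by rw [one_smul]; exact q⟩
  · exact ⟨-1, by ring, by rw [neg_one_smul]; exact q⟩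

/-- A pair of transpositions is induced inside the symplectic group. -/
theorem exists_two_swaps [Finite F] (hS : Grp R) (hle : R ≤ Cfsg.spGL 2 F) (hE : Five R e) {i j k l : Fin 5}
    (hij : i ≠ j) (hkl : k ≠ l) :
    ∃ b ∈ N4 R, Induces e b (Equiv.swap i j * Equiv.swap k l) := by
  have h2 := hS.two
  set J := Matrix.J (Fin 2) F with hJ
  have hadj : ∀ i, (e i)ᵀ * J = J * e i := fun i => by
    obtain ⟨g, hg, hge⟩ := hE.mem i
    have h := mem_spGL_iff.1 (hle hg)
    rw [hge] at h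
    calc (e i)ᵀ * J = ((e i)ᵀ * J * e i) * e i := by rw [mul_assoc _ (e i) (e i), hE.sq, mul_one]
      _ = J * e i := by rw [h]
  have hD2 : ∀ i j, i ≠ j → (e i - e j) * (e i - e j) = (2 : F) • (1 : M4 F) := fun i j h => by
    simp only [sub_mul, mul_sub, hE.sq, hE.anti i j h, two_smul]
    abel
  have hDs : ∀ i j, i ≠ j → ∀ m, (e i - e j) * e m = -(e (Equiv.swap i j m) * (e i - e j)) := fun i j h m => by
    rcases eq_or_ne m i with rfl | hi
    · rw [Equiv.swap_apply_left, sub_mul, mul_sub, hE.sq, hE.sq]; abel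
    rcases eq_or_ne m j with rfl | hj
    · rw [Equiv.swap_apply_right, sub_mul, mul_sub, hE.sq, hE.sq]; abel
    rw [Equiv.swap_apply_of_ne_of_ne hi hj, sub_mul, mul_sub, hE.anti m i hi, hE.anti m j hj]; abel
  have hDf : ∀ i j, i ≠ j → (e i - e j)ᵀ * J * (e i - e j) = (2 : F) • J := fun i j h => by
    rw [Matrix.transpose_sub, sub_mul, hadj, hadj, ← mul_sub, mul_assoc, hD2 i j h, mul_smul_comm, mul_one]
  have h1 : (2 : F)⁻¹ • ((e i - e j) * (e k - e l)) * ((2 : F)⁻¹ • ((e k - e l) * (e i - e j))) = 1 := by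
    rw [smul_mul_smul_comm, mul_assoc (e i - e j), ← mul_assoc (e k - e l), hD2 k l hkl, smul_mul_assoc,
      one_mul, mul_smul_comm, hD2 i j hij, smul_smul, smul_smul,
      show (2 : F)⁻¹ * 2⁻¹ * 2 * 2 = 1 by field_simp, one_smul]
  let b : GL I4 F := ⟨_, _, h1, mul_eq_one_comm.1 h1⟩
  have hbi : Induces e b (Equiv.swap i j * Equiv.swap k l) := fun m => ⟨1, one_mul 1, by
    show (2 : F)⁻¹ • ((e i - e j) * (e k - e l)) * e m =
      (1 : F) • (e ((Equiv.swap i j * Equiv.swap k l) m) * ((2 : F)⁻¹ • ((e i - e j) * (e k - e l))))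
    rw [one_smul, smul_mul_assoc, mul_smul_comm, mul_assoc, hDs k l hkl, mul_neg, ← mul_assoc, hDs i j hij,
      neg_mul, neg_neg, mul_assoc, Equiv.Perm.mul_apply]⟩
  refine ⟨b, ⟨mem_normalizer_of hS hE b fun m => ?_, mem_spGL_iff.2 ?_⟩, hbi⟩
  · obtain ⟨s, hs, he⟩ := hbi m
    refine ⟨s • e ((Equiv.swap i j * Equiv.swap k l) m), ?_, by rw [he, smul_mul_assoc]⟩
    rcases mul_self_eq_one_iff.1 hs with rfl | rfl
    · rw [one_smul]; exact hE.mem _
    · rw [neg_one_smul]; exact (hE.mem _).neg hS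
  · show ((2 : F)⁻¹ • ((e i - e j) * (e k - e l)))ᵀ * J * ((2 : F)⁻¹ • ((e i - e j) * (e k - e l))) = J
    rw [Matrix.transpose_smul, smul_mul_assoc, smul_mul_assoc, mul_smul_comm, smul_smul, Matrix.transpose_mul,
      mul_assoc (e k - e l)ᵀ, mul_assoc (e k - e l)ᵀ, ← mul_assoc _ (e i - e j), hDf i j hij,
      smul_mul_assoc, mul_smul_comm, ← mul_assoc, hDf k l hkl, smul_smul, smul_smul,
      show (2 : F)⁻¹ * 2⁻¹ * 2 * 2 = 1 by field_simp, one_smul]

/-- A permutation fixing a point and mapping some pair of the others neither to itself nor to its complement. -/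
def Bad (τ : Equiv.Perm (Fin 5)) : Prop :=
  ∃ m a b : Fin 5, τ m = m ∧ a ≠ b ∧ a ≠ m ∧ b ≠ m ∧ (τ a = a ∨ τ a = b) ∧ τ b ≠ a ∧ τ b ≠ b

instance : DecidablePred Bad := fun τ => by unfold Bad; infer_instance

/-- Every nontrivial permutation has such a commutator with a pair of transpositions. -/
theorem exists_bad : ∀ π : Equiv.Perm (Fin 5), π ≠ 1 → ∃ i j k l : Fin 5, i < j ∧ k < l ∧
    Bad (π * (Equiv.swap i j * Equiv.swap k l) * π⁻¹ * (Equiv.swap i j * Equiv.swap k l)⁻¹) := by
  decide +kernel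

end CfsgLib.Geo.SpEight
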