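import Cfsg.Agent.Geo.SpEight.Move
import Cfsg.Agent.Geo.SpEight.Chars
import Cfsg.Agent.Geo.SpEight.Perm5
import Cfsg.Agent.Classical.SymplecticSimple
import Cfsg.Prelude.Def_GeometricClasses

/-!
Inside a proper overgroup of the normaliser, the centraliser of the sign change lies in the normaliser.
-/

set_option autoImplicit false
set_option linter.unusedSectionVars false
set_option linter.unusedSimpArgs false
set_option linter.style.haveILetI false

namespace CfsgLib.Geo.SpEight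

open Matrix CfsgLib.Elusive.PauliMinus CfsgLib.Geo.SpTv

variable {F : Type*} [Field F] [Finite F] {R : Subgroup (GL I4 F)}

/-- A normal subgroup of the small symplectic group that is not central is everything. -/
theorem sp4_normal_eq_top (h2 : (2 : F) ≠ 0) (N : Subgroup (Matrix.symplecticGroup (Fin 2) F)) [N.Normal]
    (h : ¬ N ≤ Subgroup.center _) : N = ⊤ := by
  haveI := CfsgLib.Symp.isPreprimitive (l := Fin 2) (F := F)
  refine eq_top_iff.mpr ((CfsgLib.Symp.commutator_eq_top (Or.inr (Or.inl ⟨by simp, h2⟩))).symm.le.trans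
    (CfsgLib.Symp.spIwasawa.commutator_le N fun hfp => h fun n hn =>
      CfsgLib.Symp.smul_eq_self_mem_center fun P => ?_))
  exact Set.eq_univ_iff_forall.mp hfp P ⟨n, hn⟩

/-- The projection on the first half of what the subgroup has in the block diagonal part. -/
def proj (M : Subgroup (GL I8 F)) : Subgroup (GL I4 F) :=
  (M.comap (dg (F := F))).map (MonoidHom.fst _ _)

theorem mem_proj {M : Subgroup (GL I8 F)} {a : GL I4 F} : a ∈ proj M ↔ ∃ b, dg (a, b) ∈ M :=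
  ⟨fun ⟨p, hp, e⟩ => ⟨p.2, by rw [← e]; exact hp⟩, fun ⟨b, hb⟩ => ⟨(a, b), hb, rfl⟩⟩

theorem stv_pr (v : I4 → F) (c : F) : stv (m := 4) (pr v 0) c = dg (stv (m := 2) v c, 1) := by
  refine gl_ext_mulVec fun z => ?_
  obtain ⟨a, b, rfl⟩ := exists_pr z
  rw [stv_mulVec, form_pr, dg_val, blk_mulVec, pr_smul, pr_add]
  simp [stv_mulVec, CfsgLib.Symp.form_zero_right]

theorem stv_pr' (v : I4 → F) (c : F) : stv (m := 4) (pr 0 v) c = dg (1, stv (m := 2) v c) := by
  refine gl_ext_mulVec fun z => ?_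
  obtain ⟨a, b, rfl⟩ := exists_pr z
  rw [stv_mulVec, form_pr, dg_val, blk_mulVec, pr_smul, pr_add]
  simp [stv_mulVec, CfsgLib.Symp.form_zero_right]

/-- The hypotheses shared by the steps. -/
structure Over (hS : Grp R) (M : Subgroup (GL I8 F)) : Prop where
  le : R ≤ Cfsg.spGL 2 F
  max : Cfsg.Geo.IsMaximalIn (Cfsg.spGL 2 F) (N4 R)
  ge : Nm hS ≤ M
  sp : M ≤ Cfsg.spGL 4 F
  proper : ¬ Cfsg.spGL 4 F ≤ M

namespace Over

variable {hS : Grp R} {M : Subgroup (GL I8 F)} (hO : Over hS M)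
include hO

theorem y0_mem : (y0 : GL I8 F) ∈ M := hO.ge (dbl_le_Nm hS hO.le inD_y0)

theorem swap_mem {a b : GL I4 F} (h : dg (a, b) ∈ M) : dg (b, a) ∈ M := by
  have := M.mul_mem (M.mul_mem hO.y0_mem h) hO.y0_mem
  rwa [y0_dg, mul_assoc, y0_mul_y0, mul_one] at this

theorem dg_self {a : GL I4 F} (ha : a ∈ N4 R) : dg (a, a) ∈ M := hO.ge (dg_self_mem hS ha)

theorem N4_le_proj : N4 R ≤ proj M := fun a ha => mem_proj.2 ⟨a, hO.dg_self ha⟩

theorem proj_le : proj M ≤ Cfsg.spGL 2 F := fun a ha => by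
  obtain ⟨b, hb⟩ := mem_proj.1 ha
  exact (dg_mem_iff.1 (hO.sp hb)).1

/-- The projection is not everything. -/
theorem not_full : ¬ Cfsg.spGL 2 F ≤ proj M := by
  intro hfull
  obtain ⟨e, hE⟩ := exists_five hS
  let ι : Matrix.symplecticGroup (Fin 2) F →* GL I8 F :=
    (dg.comp (MonoidHom.inl _ _)).comp toGLHom
  let N := M.comap ι
  haveI : N.Normal := ⟨fun k hk g => by
    obtain ⟨b, hb⟩ := mem_proj.1 (hfull (toGLHom_mem g))
    have := M.mul_mem (M.mul_mem hb hk) (M.inv_mem hb)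
    show ι (g * k * g⁻¹) ∈ M
    convert this using 1
    simp [ι, ← map_mul, ← map_inv]⟩
  have hR : ∀ g ∈ R, ∃ g' ∈ N, toGLHom g' = g := fun g hg => by
    refine ⟨⟨(g : M4 F), CfsgLib.Symp.mem_iff_form.2 (mem_spGL.1 (hO.le hg))⟩, ?_, Units.ext rfl⟩
    show dg (toGLHom _, 1) ∈ M
    rw [show toGLHom (⟨(g : M4 F), CfsgLib.Symp.mem_iff_form.2 (mem_spGL.1 (hO.le hg))⟩ :
      Matrix.symplecticGroup (Fin 2) F) = g from Units.ext rfl]
    exact hO.ge (dg_one_mem hS hO.le hg)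
  have hNt : N = ⊤ := sp4_normal_eq_top hS.two N fun hle => by
    obtain ⟨g, hg, hge⟩ := hE.mem 0
    obtain ⟨h, hh, hhe⟩ := hE.mem 1
    obtain ⟨g', hg', rfl⟩ := hR g hg
    obtain ⟨h', -, rfl⟩ := hR h hh
    have := congrArg (fun x => ((toGLHom x : GL I4 F) : M4 F)) (Subgroup.mem_center_iff.1 (hle hg') h')
    simp only [map_mul, Units.val_mul, hge, hhe] at this
    rw [hE.anti 1 0 (by decide)] at this
    exact hS.ne_neg ((hE.mem 0).mul (hE.mem 1)) this.symm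
  have hleft : ∀ g : Matrix.symplecticGroup (Fin 2) F, dg (toGLHom g, 1) ∈ M := fun g =>
    (hNt.ge (Subgroup.mem_top g) : g ∈ N)
  have hright : ∀ g : Matrix.symplecticGroup (Fin 2) F, dg (1, toGLHom g) ∈ M := fun g => hO.swap_mem (hleft g)
  have hfl : ∀ v, Full M (pr v (0 : I4 → F)) := fun v c => by rw [stv_pr]; exact hleft _
  have hfr : ∀ v, Full M (pr (0 : I4 → F) v) := fun v c => by rw [stv_pr']; exact hright _
  -- a mixed centre
  obtain ⟨h, hh, he⟩ := (good_x0 hS).step hO.le inD_x0 (by simp [x0_val, blk_mul, blk_one])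
    (x := ((y0 : GL I8 F) : M8 F)) inD_y0 (by simp [y0_val, blk_mul, blk_one])
    (by simp [x0_val, y0_val, blk_mul, blk_neg])
  obtain ⟨v₀, hv₀⟩ := exists_ne (0 : I4 → F)
  obtain ⟨a, b, hab⟩ := exists_pr (((h⁻¹ : GL I8 F) : M8 F) *ᵥ pr v₀ 0)
  have hy : ((y0 : GL I8 F) : M8 F) *ᵥ pr a b = pr a b := by
    have e1 : ((y0 : GL I8 F) : M8 F) * ((h⁻¹ : GL I8 F) : M8 F) =
        ((h⁻¹ : GL I8 F) : M8 F) * ((x0 : GL I8 F) : M8 F) := by
      calc _ = ((h⁻¹ : GL I8 F) : M8 F) * ((h : M8 F) * (y0 : GL I8 F)) * ((h⁻¹ : GL I8 F) : M8 F) := by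
            rw [← mul_assoc ((h⁻¹ : GL I8 F) : M8 F), Units.inv_mul, one_mul]
        _ = _ := by rw [he, mul_assoc, mul_assoc, Units.mul_inv, mul_one]
    rw [← hab, Matrix.mulVec_mulVec, e1, ← Matrix.mulVec_mulVec, x0_val, blk_mulVec]
    simp
  have hba : b = a := by
    rw [y0_val, blk_mulVec] at hy
    simpa using (pr_inj.1 hy).1
  subst hba
  have ha0 : b ≠ 0 := fun e0 => hv₀ (by
    have h' := congrArg ((h : M8 F) *ᵥ ·) hab
    simp only [Matrix.mulVec_mulVec, Units.mul_inv, Matrix.one_mulVec, e0] at h'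
    have hz : pr (0 : I4 → F) 0 = 0 := funext fun i => by
      show Sum.elim (0 : I4 → F) 0 (e8.symm i) = 0
      rcases e8.symm i with j | j <;> rfl
    rw [hz, Matrix.mulVec_zero, ← hz] at h'
    exact (pr_inj.1 h').1)
  have hmix : Full M (pr b b) := hab ▸ full_conj hO.sp (hfl v₀) (M.inv_mem (hO.ge hh))
  refine hO.proper (spGL_le_of_full fun z => ?_)
  obtain ⟨v, w, rfl⟩ := exists_pr z
  by_cases hv : v = 0
  · subst hv; exact hfr w
  by_cases hw : w = 0
  · subst hw; exact hfl v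
  obtain ⟨g, hg⟩ := CfsgLib.Symp.exists_smul_eq_of_ne_zero ha0 hv
  obtain ⟨g', hg'⟩ := CfsgLib.Symp.exists_smul_eq_of_ne_zero ha0 hw
  have := full_conj hO.sp hmix (M.mul_mem (hleft g) (hright g'))
  rw [← map_mul, Prod.mk_mul_mk, mul_one, one_mul, dg_val, blk_mulVec, toGLHom_mulVec, toGLHom_mulVec, hg, hg'] at this
  simpa using this

theorem proj_eq : proj M = N4 R :=
  (hO.max.2 _ hO.N4_le_proj hO.proj_le).resolve_right fun e => hO.not_full e.ge

/-- What lies in the overgroup on one half alone lies in the group. -/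
theorem half_mem {a : GL I4 F} (ha : dg (a, 1) ∈ M) : a ∈ R := by
  obtain ⟨e, hE⟩ := exists_five hS
  have hN : ∀ {c d : GL I4 F}, dg (c, d) ∈ M → c ∈ N4 R := fun h => hO.proj_eq ▸ mem_proj.2 ⟨_, h⟩
  obtain ⟨π, hπ⟩ := exists_induces hS hE (hN ha).1
  by_cases hπ1 : π = 1
  · refine mem_of_pm hS hO.le hE (hN ha).2 fun i => ?_
    obtain ⟨s, hs, hse⟩ := hπ i
    rw [hπ1, Equiv.Perm.one_apply] at hse
    rcases mul_self_eq_one_iff.1 hs with rfl | rfl
    · exact Or.inl (by rwa [one_smul] at hse)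
    · exact Or.inr (by rwa [neg_one_smul] at hse)
  exfalso
  obtain ⟨i, j, k, l, hij, hkl, hbad⟩ := exists_bad π hπ1
  obtain ⟨b, hb, hbi⟩ := exists_two_swaps hS hO.le hE hij.ne hkl.ne
  obtain ⟨m, p, q, hm, hpq, hpm, hqm, hp, hq1, hq2⟩ := hbad
  set τ := π * (Equiv.swap i j * Equiv.swap k l) * π⁻¹ * (Equiv.swap i j * Equiv.swap k l)⁻¹ with hτ
  obtain ⟨g₀, hg₀, hg₀i⟩ : ∃ g, dg (g, 1) ∈ M ∧ Induces e g τ := by
    refine ⟨a * b * a⁻¹ * b⁻¹, ?_, ((hπ.mul hbi).mul hπ.inv).mul hbi.inv⟩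
    have h' := M.mul_mem (M.mul_mem (M.mul_mem ha (hO.dg_self hb)) (M.inv_mem ha)) (M.inv_mem (hO.dg_self hb))
    simpa [← map_inv, ← map_mul] using h'
  -- adjust so that it commutes with the fixed involution
  obtain ⟨g, hg, hgi, hgm⟩ : ∃ g, dg (g, 1) ∈ M ∧ Induces e g τ ∧ (g : M4 F) * e m = e m * g := by
    obtain ⟨s, hs, hse⟩ := hg₀i m
    rw [hm] at hse
    rcases mul_self_eq_one_iff.1 hs with rfl | rfl
    · exact ⟨g₀, hg₀, hg₀i, by rwa [one_smul] at hse⟩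
    obtain ⟨w, hw, hwe⟩ := hE.mem p
    refine ⟨g₀ * w, ?_, ?_, ?_⟩
    · have := M.mul_mem hg₀ (hO.ge (dg_one_mem hS hO.le hw))
      simpa [← map_mul] using this
    · simpa using hg₀i.mul (induces_one hS hE hw)
    · rw [Units.val_mul, hwe, mul_assoc, hE.anti p m hpm, mul_neg, ← mul_assoc, hse, neg_one_smul, neg_mul, neg_neg,
        mul_assoc]
  -- the involution repeated on both halves
  obtain ⟨X, hX⟩ := (InD.diag (R := R) (hE.mem m)).exists_unit hS
  have hem := hS.ne_of_anti (hE.mem m) (hE.mem p) (hE.anti m p hpm.symm)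
  obtain ⟨h, hh, he⟩ := good_of_sq hS hO.le (InD.diag (hE.mem m))
    (by rw [blk_mul]; simp [hE.sq, blk_one])
    (fun e1 => hem.1 (by rw [← blk_one, blk_inj] at e1; exact e1.1))
    (fun e1 => hem.2 (by rw [← blk_one, blk_neg, blk_inj] at e1; exact e1.1))
  have heX : h * X = x0 * h := Units.ext (by simpa [hX] using he)
  obtain ⟨tp, htp, htpe⟩ := hE.mem p
  obtain ⟨tq, htq, htqe⟩ := hE.mem q
  set t := tp * tq with ht
  have htR : t ∈ R := R.mul_mem htp htq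
  have hte : (t : M4 F) = e p * e q := by rw [ht, Units.val_mul, htpe, htqe]
  have htm : (t : M4 F) * e m = e m * t := by
    rw [hte, mul_assoc, hE.anti q m hqm, mul_neg, ← mul_assoc, hE.anti p m hpm, neg_mul, neg_neg, mul_assoc]
  set G := h * dg (g, 1) * h⁻¹ with hG
  set S := h * dg (t, t) * h⁻¹ with hSdef
  have hconjc : ∀ z : GL I8 F, z * X = X * z → h * z * h⁻¹ * x0 = x0 * (h * z * h⁻¹) := fun z hz => by
    have e0 : x0 = h * X * h⁻¹ := by rw [heX]; group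
    rw [e0, show h * z * h⁻¹ * (h * X * h⁻¹) = h * (z * X) * h⁻¹ by group,
      show h * X * h⁻¹ * (h * z * h⁻¹) = h * (X * z) * h⁻¹ by group, hz]
  have hgX : dg (g, 1) * X = X * dg (g, 1) :=
    Units.ext (by simp [Units.val_mul, dg_val, hX, blk_mul, hgm])
  have htX : dg (t, t) * X = X * dg (t, t) :=
    Units.ext (by simp [Units.val_mul, dg_val, hX, blk_mul, htm])
  obtain ⟨c, d, hcd⟩ := exists_dg hS.two (hconjc _ hgX)
  obtain ⟨r, r', hrr⟩ := exists_dg hS.two (hconjc _ htX)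
  have hGM : G ∈ M := M.mul_mem (M.mul_mem (hO.ge hh) hg) (M.inv_mem (hO.ge hh))
  have hcN : c ∈ N4 R := hN (d := d) (by rw [← hcd]; exact hGM)
  have hrR : r ∈ R := by
    have hD : InD R ((dg (r, r') : GL I8 F) : M8 F) := by
      rw [← hrr]; exact Nm_conj hS hh (InD.diag ⟨t, htR, rfl⟩)
    rw [dg_val] at hD
    obtain ⟨s, ⟨s', hs', rfl⟩, hp' | hp' | hp' | hp'⟩ := hD <;> obtain ⟨h1, -, -, -⟩ := blk_inj.1 hp'
    · rwa [Units.ext h1]
    · rwa [Units.ext h1]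
    · exact absurd h1 r.ne_zero
    · exact absurd h1 r.ne_zero
  set r₁ := c * r * c⁻¹ with hr₁
  have hr₁R : r₁ ∈ R := (Subgroup.mem_normalizer_iff.1 hcN.1 r).1 hrR
  obtain ⟨t₁, ht₁⟩ : ∃ t₁, t₁ = g * t * g⁻¹ := ⟨_, rfl⟩
  have ht₁R : t₁ ∈ R := ht₁ ▸ (Subgroup.mem_normalizer_iff.1 (hN hg).1 t).1 htR
  obtain ⟨D, hD⟩ : ∃ D, D = h⁻¹ * dg (r₁, r₁) * h := ⟨_, rfl⟩
  have hDd : InD R (D : M8 F) := by
    have := Nm_conj hS (Subgroup.inv_mem _ hh) (a := dg (r₁, r₁)) (InD.diag ⟨r₁, hr₁R, rfl⟩)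
    rw [inv_inv] at this
    rw [hD]; exact this
  have hT : ((dg (t₁, t) : GL I8 F) : M8 F) * (1 + (X : M8 F)) = (D : M8 F) * (1 + (X : M8 F)) := by
    have e1 : dg (t₁, t) = h⁻¹ * (G * S * G⁻¹) * h := by
      rw [hG, hSdef, ht₁]
      rw [show h⁻¹ * (h * dg (g, 1) * h⁻¹ * (h * dg (t, t) * h⁻¹) * (h * dg (g, 1) * h⁻¹)⁻¹) * h =
        dg (g, 1) * dg (t, t) * (dg (g, 1))⁻¹ by group]
      simp [← map_inv, ← map_mul]
    have e2 : (h : M8 F) * (1 + (X : M8 F)) = (1 + ((x0 : GL I8 F) : M8 F)) * h := by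
      rw [mul_add, add_mul, mul_one, one_mul, ← Units.val_mul, heX, Units.val_mul]
    have e3 : ((G * S * G⁻¹ : GL I8 F) : M8 F) * (1 + ((x0 : GL I8 F) : M8 F)) =
        ((dg (r₁, r₁) : GL I8 F) : M8 F) * (1 + ((x0 : GL I8 F) : M8 F)) := by
      rw [show G * S * G⁻¹ = dg (r₁, d * r' * d⁻¹) by
        rw [hG, hSdef, hcd, hrr, hr₁]; simp [← map_inv, ← map_mul]]
      rw [dg_val, dg_val, x0_val, ← blk_one, blk_add, blk_mul, blk_mul]
      simp
    rw [e1, hD]
    generalize G * S * G⁻¹ = W at e3 ⊢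
    generalize dg (r₁, r₁) = W' at e3 ⊢
    simp only [Units.val_mul, mul_assoc] at e3 ⊢
    rw [e2, ← mul_assoc (W : M8 F), e3, mul_assoc]
  obtain ⟨δ, hδ, hkey⟩ : ∃ δ : F, δ * δ = 1 ∧ (t₁ : M4 F) * (1 + e m) = δ • ((t : M4 F) * (1 + e m)) := by
    rw [dg_val, hX, ← blk_one, blk_add, blk_mul] at hT
    obtain ⟨s, hs, hpat⟩ := hDd
    have hz : (t : M4 F) * (1 + e m) ≠ 0 := fun h0 => hem.2 (by
      have := congrArg (fun Z => ((t⁻¹ : GL I4 F) : M4 F) * Z) h0
      simp only [← mul_assoc, Units.inv_mul, one_mul, mul_zero] at this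
      exact eq_neg_of_add_eq_zero_right this)
    rcases hpat with hp' | hp' | hp' | hp' <;> rw [hp', blk_mul, blk_inj] at hT <;>
      simp only [zero_mul, mul_zero, add_zero, zero_add, neg_mul] at hT
    · exact ⟨1, one_mul 1, by rw [hT.1, one_smul, hT.2.2.2]⟩
    · exact ⟨-1, by ring, by rw [hT.1, neg_one_smul, hT.2.2.2, neg_neg]⟩
    · exact absurd hT.2.2.2 hz
    · exact absurd hT.2.2.2 hz
  obtain ⟨Z, hZ⟩ : ∃ Z, Z = t⁻¹ * t₁ := ⟨_, rfl⟩
  have hZR : InR R (Z : M4 F) := ⟨Z, hZ ▸ R.mul_mem (R.inv_mem htR) ht₁R, rfl⟩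
  have htZ : (t₁ : M4 F) = (t : M4 F) * Z := by rw [hZ, ← Units.val_mul, mul_inv_cancel_left]
  have hcases : ∃ ε : F, (t₁ : M4 F) = ε • (t : M4 F) ∨ (t₁ : M4 F) = ε • ((t : M4 F) * e m) := by
    have hZ' : (Z : M4 F) * (1 + e m) = δ • (1 + e m) := by
      have := congrArg (fun W => ((t⁻¹ : GL I4 F) : M4 F) * W) hkey
      simp only [mul_smul_comm, ← mul_assoc, Units.inv_mul, one_mul] at this
      rwa [← Units.val_mul, ← hZ] at this
    by_cases hz1 : (Z : M4 F) = 1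
    · exact ⟨1, Or.inl (by rw [htZ, hz1, mul_one, one_smul])⟩
    by_cases hz2 : (Z : M4 F) = -1
    · exact ⟨-1, Or.inl (by rw [htZ, hz2, mul_neg, mul_one, neg_one_smul])⟩
    by_cases hz3 : (Z : M4 F) * e m = 1
    · refine ⟨1, Or.inr ?_⟩
      rw [htZ, one_smul]
      congr 1
      calc (Z : M4 F) = (Z : M4 F) * e m * e m := by rw [mul_assoc, hE.sq, mul_one]
        _ = e m := by rw [hz3, one_mul]
    by_cases hz4 : (Z : M4 F) * e m = -1
    · refine ⟨-1, Or.inr ?_⟩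
      rw [htZ, neg_one_smul, ← mul_neg]
      congr 1
      calc (Z : M4 F) = (Z : M4 F) * e m * e m := by rw [mul_assoc, hE.sq, mul_one]
        _ = -e m := by rw [hz4, neg_one_mul]
    exfalso
    have htr := congrArg Matrix.trace hZ'
    rw [mul_add, mul_one, Matrix.trace_add, trace_eq_zero hS hZR hz1 hz2,
      trace_eq_zero hS (hZR.mul (hE.mem m)) hz3 hz4, Matrix.trace_smul, Matrix.trace_add, Matrix.trace_one,
      trace_eq_zero hS (hE.mem m) hem.1 hem.2] at htr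
    simp only [Fintype.card_sum, Fintype.card_fin, add_zero, smul_eq_mul, zero_add] at htr
    have h4 : ((2 + 2 : ℕ) : F) = 2 * 2 := by push_cast; ring
    rw [h4] at htr
    rcases mul_eq_zero.1 htr.symm with h0 | h0
    · rw [h0, mul_zero] at hδ; exact zero_ne_one hδ
    · exact mul_ne_zero hS.two hS.two h0
  -- read off the contradiction
  have ht₁e : ∃ η : F, (t₁ : M4 F) = η • (e (τ p) * e (τ q)) := by
    obtain ⟨s, -, hs⟩ := hgi p
    obtain ⟨s', -, hs'⟩ := hgi q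
    refine ⟨s * s', ?_⟩
    rw [ht₁, Units.val_mul, Units.val_mul, hte, ← mul_assoc, hs, smul_mul_assoc, mul_assoc (e (τ p)), hs',
      mul_smul_comm, smul_smul, smul_mul_assoc, ← mul_assoc, mul_assoc, Units.mul_inv, mul_one]
  obtain ⟨η, hη⟩ := ht₁e
  have hne : τ p ≠ τ q := fun e => hpq (τ.injective e)
  have hqm' : τ q ≠ m := fun e => hqm (τ.injective (e.trans hm.symm))
  have clash : ∀ (Y z : M4 F) (u : GL I4 F), (u : M4 F) = Y → InR R z → Y * z = z * Y → Y * z = -(z * Y) → False :=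
    fun Y z u hu hz h1 h2 => by
      obtain ⟨w, -, rfl⟩ := hz
      subst hu
      have h0 : (2 : F) • ((w : M4 F) * u) = 0 := by
        rw [two_smul]; nth_rw 1 [← h1, h2]; exact neg_add_cancel _
      exact (w * u).ne_zero (by rw [Units.val_mul]; exact (smul_eq_zero.1 h0).resolve_left hS.two)
  have anti1 : ∀ {x y : Fin 5}, x ≠ y → e x * e y * e x = -(e x * (e x * e y)) := fun {x y} h => by
    rw [mul_assoc, hE.anti y x h.symm, mul_neg]
  have anti2 : ∀ {x y : Fin 5}, x ≠ y → e x * e y * e y = -(e y * (e x * e y)) := fun {x y} h => by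
    rw [← mul_assoc (e y), hE.anti y x h.symm, neg_mul, neg_neg]
  have comm3 : ∀ {x y z : Fin 5}, z ≠ x → z ≠ y → e x * e y * e z = e z * (e x * e y) := fun {x y z} hx hy => by
    rw [mul_assoc, hE.anti y z hy.symm, mul_neg, ← mul_assoc, hE.anti x z hx.symm, neg_mul, neg_neg, mul_assoc]
  obtain ⟨ε, hc1 | hc2⟩ := hcases
  · refine clash _ (e (τ q)) t₁ rfl (hE.mem _) ?_ ?_
    · rw [hc1, hte, smul_mul_assoc, mul_smul_comm, comm3 hq1 hq2]
    · rw [hη, smul_mul_assoc, mul_smul_comm, anti2 hne, smul_neg]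
  · refine clash _ (e (τ p)) t₁ rfl (hE.mem _) ?_ ?_
    · have hpm' : τ p ≠ m := by rcases hp with e | e <;> rw [e] <;> assumption
      rw [hc2, hte, smul_mul_assoc, mul_smul_comm, mul_assoc (e p * e q), hE.anti m (τ p) hpm'.symm, mul_neg,
        ← mul_assoc]
      rcases hp with e' | e' <;> rw [e']
      · rw [anti1 hpq, neg_mul, neg_neg, mul_assoc]
      · rw [anti2 hpq, neg_mul, neg_neg, mul_assoc]
    · rw [hη, smul_mul_assoc, mul_smul_comm, anti1 hne, smul_neg]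

/-- The centraliser up to sign of the sign change. -/
theorem mem_of_comm_x0 {g : GL I8 F} (hg : g ∈ M) (h : g * x0 = x0 * g ∨ g * x0 = -(x0 * g)) : g ∈ Nm hS := by
  have key : ∀ g ∈ M, g * x0 = x0 * g → g ∈ Nm hS := fun g hg h => by
    obtain ⟨a, b, rfl⟩ := exists_dg hS.two h
    have ha : a ∈ N4 R := hO.proj_eq ▸ mem_proj.2 ⟨b, hg⟩
    have h1 : dg (1, a⁻¹ * b) ∈ M := by
      have := M.mul_mem (M.inv_mem (hO.dg_self ha)) hg
      simpa [← map_inv, ← map_mul] using this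
    have ht : dg (a⁻¹ * b, 1) ∈ Nm hS := dg_one_mem hS hO.le (hO.half_mem (hO.swap_mem h1))
    have hy := dbl_le_Nm hS hO.le (inD_y0 (R := R) : y0 ∈ dbl hS)
    have h2 := Subgroup.mul_mem _ (Subgroup.mul_mem _ hy ht) hy
    rw [y0_dg, mul_assoc, y0_mul_y0, mul_one] at h2
    have h3 := Subgroup.mul_mem _ (dg_self_mem hS ha) h2
    simpa [← map_mul] using h3
  rcases h with h | h
  · exact key g hg h
  · have hy := dbl_le_Nm hS hO.le (inD_y0 (R := R) : y0 ∈ dbl hS)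
    have hxy : (x0 : GL I8 F) * y0 = -(y0 * x0) :=
      Units.ext (by simp [Units.val_mul, x0_val, y0_val, blk_mul, blk_neg])
    refine (Subgroup.mul_mem_cancel_left _ hy).1 (key _ (M.mul_mem hO.y0_mem hg) ?_)
    rw [mul_assoc, h, mul_neg, ← mul_assoc, ← mul_assoc, hxy, neg_mul]

end Over

end CfsgLib.Geo.SpEight
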